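import Groth.Agent.FerrandPush.BaseChange

/-!
# Finiteness and properness for glued pushouts
-/

set_option autoImplicit false
set_option linter.style.haveILetI false
set_option linter.unusedVariables false
universe u
open CategoryTheory CategoryTheory.Limits AlgebraicGeometry

namespace Groth.Agent.FerrandPush

variable {X Y Z P : Scheme.{u}} {i : Z ⟶ X} {j : Z ⟶ Y} [IsClosedImmersion i]

/-- Consequences for any pushout, given charts through all points. -/
theorem props_of_charts [IsAffineHom j] (hX : ∀ x : X, ∃ α : Chart i j, x ∈ α.U)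
    (hY : ∀ y : Y, ∃ α : Chart i j, y ∈ α.V) {a : X ⟶ P} {b : Y ⟶ P} (hP : IsPushout i j a b) :
    IsClosedImmersion b ∧ IsPullback i j a b ∧ (∀ p : P, (∃ x, a x = p) ∨ ∃ y, b y = p) ∧
      ∀ (Q : MorphismProperty Scheme.{u}) [IsZariskiLocalAtTarget Q],
        (∀ α : Chart i j, Q α.cart.iA') → Q a := by
  obtain ⟨a₀, b₀, hP₀, ha, hb⟩ := exists_pushout_charts i j hX hY
  let e := hP₀.isoIsPushout _ _ hP
  have ea : a₀ ≫ e.hom = a := hP₀.inl_isoIsPushout_hom _ _ hP
  have eb : b₀ ≫ e.hom = b := hP₀.inr_isoIsPushout_hom _ _ hP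
  refine ⟨?_, ?_, fun p => ?_, fun Q _ h => ?_⟩
  · haveI := isClosedImmersion_b hb hY
    rw [← eb]; infer_instance
  · exact (isPullback_glued hP₀.w ha hX hb hY).of_iso (Iso.refl _) (Iso.refl _) (Iso.refl _) e
      (by simp) (by simp) (by simp [ea]) (by simp [eb])
  · obtain ⟨α, c, hc⟩ := Scheme.IsLocallyDirected.ι_jointly_surjective (chartFunctor i j) (e.inv p)
    have hp : e.hom (e.inv p) = p := by
      rw [← Scheme.Hom.comp_apply, e.inv_hom_id]; rfl
    rcases α.cart.exists_prime c with ⟨y, hy⟩ | ⟨y, hy⟩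
    · refine Or.inr ⟨α.hV.fromSpec y, ?_⟩
      rw [← hp, ← eb, Scheme.Hom.comp_apply, ← Scheme.Hom.comp_apply α.hV.fromSpec b₀, hb]
      congr 1
      rw [toGluedV, Scheme.Hom.comp_apply, ← hc, ← hy]
      rfl
    · refine Or.inl ⟨α.hU.fromSpec y, ?_⟩
      rw [← hp, ← ea, Scheme.Hom.comp_apply, ← Scheme.Hom.comp_apply α.hU.fromSpec a₀, ha]
      congr 1
      rw [toGluedU, Scheme.Hom.comp_apply, ← hc, ← hy]
      rfl
  · rw [← ea, Q.cancel_right_of_respectsIso]
    exact prop_a Q ha hX h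

theorem Cart.snd_finite {C B A' A : Type u} [CommRing C] [CommRing B] [CommRing A'] [CommRing A]
    (D : Cart C B A' A) (hq : D.q.Finite) : D.snd.Finite := by
  letI : Algebra C A' := D.snd.toAlgebra
  letI : Algebra B A := D.q.toAlgebra
  haveI : Module.Finite B A := hq
  obtain ⟨n, g, hg⟩ := Module.Finite.exists_fin (R := B) (M := A)
  choose l hl using fun k => D.surj (g k)
  show Module.Finite C A'
  refine ⟨Submodule.fg_def.mpr ⟨Set.insert 1 (Set.range l), (Set.finite_range l).insert 1, ?_⟩⟩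
  rw [eq_top_iff]
  intro a _
  obtain ⟨c, hc⟩ := (Submodule.mem_span_range_iff_exists_fun B).mp
    (hg ▸ Submodule.mem_top (x := D.p a))
  choose d hd using fun k => D.fst_surjective (c k)
  have h1 : D.p (a - ∑ k, D.snd (d k) * l k) = 0 := by
    rw [map_sub, map_sum, sub_eq_zero, ← hc]
    refine Finset.sum_congr rfl fun k _ => ?_
    rw [map_mul, hl, ← D.w, hd]
    rfl
  obtain ⟨e, he₁, he₂⟩ := D.lift' 0 (a - ∑ k, D.snd (d k) * l k) (by rw [map_zero, h1])
  have ha : a = e • (1 : A') + ∑ k, d k • l k := by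
    simp only [Algebra.smul_def, mul_one]
    show a = D.snd e + ∑ k, D.snd (d k) * l k
    rw [he₂]; abel
  rw [ha]
  exact add_mem (Submodule.smul_mem _ _ (Submodule.subset_span (Or.inl rfl)))
    (sum_mem fun k _ => Submodule.smul_mem _ _ (Submodule.subset_span (Or.inr ⟨k, rfl⟩)))

theorem chart_q_finite [IsFinite j] (α : Chart i j) : α.cart.q.Finite := by
  show (j.appLE α.V α.W α.W_eq.le).hom.Finite
  rw [Scheme.Hom.appLE, CommRingCat.hom_comp]
  refine RingHom.Finite.comp ?_ (j.finite_app _ α.hV)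
  rw [show homOfLE α.W_eq.le = eqToHom α.W_eq from Subsingleton.elim _ _]
  exact RingHom.Finite.of_surjective _
    (ConcreteCategory.bijective_of_isIso (Z.presheaf.map (eqToHom α.W_eq).op)).2

theorem isFinite_iA' [IsFinite j] (α : Chart i j) : IsFinite α.cart.iA' := by
  rw [Cart.iA', IsFinite.SpecMap_iff]
  exact α.cart.snd_finite (chart_q_finite α)

theorem Cart.finiteType_of_finite {C B A' A R : Type u} [CommRing C] [CommRing B] [CommRing A']
    [CommRing A] [CommRing R] [IsNoetherianRing R] (D : Cart C B A' A) (φ : R →+* C)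
    (hsnd : D.snd.Finite) (hB : (D.fst.comp φ).FiniteType) (hA' : (D.snd.comp φ).FiniteType) :
    φ.FiniteType := by
  let g : C →+* B × A' := D.fst.prod D.snd
  letI : Algebra R C := φ.toAlgebra
  letI : Algebra R B := (D.fst.comp φ).toAlgebra
  letI : Algebra R A' := (D.snd.comp φ).toAlgebra
  letI : Algebra C (B × A') := g.toAlgebra
  haveI : IsScalarTower R C (B × A') := IsScalarTower.of_algebraMap_eq (fun r => rfl)
  haveI : Algebra.FiniteType R B := hB
  haveI : Algebra.FiniteType R A' := hA'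
  haveI : Algebra.FiniteType R (B × A') := inferInstance
  show Algebra.FiniteType R C
  refine ⟨fg_of_fg_of_fg R C (B × A') Algebra.FiniteType.out ?_ ?_⟩
  · letI : Algebra C A' := D.snd.toAlgebra
    haveI : Module.Finite C A' := hsnd
    obtain ⟨n, s, hs⟩ := Module.Finite.exists_fin (R := C) (M := A')
    refine Submodule.fg_def.mpr ⟨Set.insert ((1, 0) : B × A') (Set.range fun k => ((0 : B), s k)),
      (Set.finite_range _).insert _, ?_⟩
    rw [eq_top_iff]
    rintro ⟨b, a⟩ -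
    obtain ⟨c, hc⟩ := D.fst_surjective b
    obtain ⟨d, hd⟩ := (Submodule.mem_span_range_iff_exists_fun C).mp (hs ▸ Submodule.mem_top (x := a))
    have : ((b, a) : B × A') = c • ((1, 0) : B × A') + ∑ k, d k • ((0 : B), s k) := by
      simp only [Algebra.smul_def]
      show (b, a) = (D.fst c, D.snd c) * (1, 0) + ∑ k, (D.fst (d k), D.snd (d k)) * (0, s k)
      ext
      · simp [Prod.fst_sum, hc]
      · simp only [Prod.snd_add, Prod.snd_mul, mul_zero, zero_add, Prod.snd_sum]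
        exact hd.symm
    rw [this]
    exact add_mem (Submodule.smul_mem _ _ (Submodule.subset_span (Or.inl rfl)))
      (sum_mem fun k _ => Submodule.smul_mem _ _ (Submodule.subset_span (Or.inr ⟨k, rfl⟩)))
  · exact fun x y h => D.ext' x y (congrArg Prod.fst h) (congrArg Prod.snd h)

/-- Finite type descends to the pushout over a locally Noetherian base. -/
theorem locallyOfFiniteType_of_isPushout {S : Scheme.{u}} [IsLocallyNoetherian S] [IsFinite j]
    {a : X ⟶ P} {b : Y ⟶ P} [IsAffineHom a] [IsAffineHom b] (hP : IsPushout i j a b) (q : P ⟶ S)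
    [LocallyOfFiniteType (a ≫ q)] [LocallyOfFiniteType (b ≫ q)] : LocallyOfFiniteType q := by
  let K := Σ' (S₀ : S.affineOpens) (W : P.affineOpens), W.1 ≤ q ⁻¹ᵁ S₀.1
  have main : ∀ k : K, ∃ (C : CommRingCat.{u}) (ρ : Spec C ⟶ P), IsOpenImmersion ρ ∧
      Set.range ρ = (k.2.1.1 : Set P) ∧ LocallyOfFiniteType (ρ ≫ q) := by
    rintro ⟨⟨S₀, hS₀⟩, ⟨W, hW⟩, hWS⟩
    obtain ⟨α, ρ, hρo, hρW, hρA, hρB⟩ := exists_cart_of_affineOpen hP hW
    have hlift : Set.range (ρ ≫ q) ⊆ Set.range hS₀.fromSpec := by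
      rintro _ ⟨c, rfl⟩
      rw [hS₀.range_fromSpec, Scheme.Hom.comp_apply]
      exact hWS (show ρ c ∈ (W : Set P) from hρW ▸ ⟨c, rfl⟩)
    obtain ⟨φ, hφ⟩ := Spec.map_surjective (IsOpenImmersion.lift hS₀.fromSpec (ρ ≫ q) hlift)
    have eφ : Spec.map φ ≫ hS₀.fromSpec = ρ ≫ q := by rw [hφ, IsOpenImmersion.lift_fac]
    have key : ∀ {E : CommRingCat.{u}} {M : Scheme.{u}} (f : CommRingCat.of α.subring ⟶ E)
        (e : Spec E ⟶ M) [IsOpenImmersion e] (t : M ⟶ P) [LocallyOfFiniteType (t ≫ q)],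
        Spec.map f ≫ ρ = e ≫ t → (φ ≫ f).hom.FiniteType := by
      intro E M f e _ t _ het
      have h : LocallyOfFiniteType (Spec.map (φ ≫ f) ≫ hS₀.fromSpec) := by
        rw [Spec.map_comp, Category.assoc, eφ, reassoc_of% het]; infer_instance
      haveI := h
      haveI : LocallyOfFiniteType (Spec.map (φ ≫ f)) := locallyOfFiniteType_of_comp _ hS₀.fromSpec
      exact (HasRingHomProperty.Spec_iff (P := @LocallyOfFiniteType)).mp ‹_›
    haveI : IsNoetherianRing Γ(S, S₀) := IsLocallyNoetherian.component_noetherian ⟨S₀, hS₀⟩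
    have hC : φ.hom.FiniteType := α.cart.finiteType_of_finite φ.hom
      (α.cart.snd_finite (chart_q_finite α))
      (key (CommRingCat.ofHom α.cart.fst) α.hV.fromSpec b hρB.w)
      (key (CommRingCat.ofHom α.cart.snd) α.hU.fromSpec a hρA.w)
    refine ⟨_, ρ, hρo, hρW, ?_⟩
    haveI : LocallyOfFiniteType (Spec.map φ) := (HasRingHomProperty.Spec_iff (P := @LocallyOfFiniteType)).mpr hC
    rw [← eφ]
    infer_instance
  choose C ρ hρ hr hft using main
  let 𝒰 : P.OpenCover := Scheme.Cover.mkOfCovers K (fun k => Spec (C k)) ρ (fun x => by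
    obtain ⟨S₀, hS₀, hs, -⟩ := exists_isAffineOpen_mem_and_subset (U := ⊤)
      (show q x ∈ (⊤ : S.Opens) from trivial)
    obtain ⟨W, hW, hw, hWS⟩ := exists_isAffineOpen_mem_and_subset (U := q ⁻¹ᵁ S₀) hs
    obtain ⟨y, hy⟩ : x ∈ Set.range (ρ ⟨⟨S₀, hS₀⟩, ⟨W, hW⟩, hWS⟩) := by rw [hr]; exact hw
    exact ⟨⟨⟨S₀, hS₀⟩, ⟨W, hW⟩, hWS⟩, y, hy⟩) hρ
  exact IsZariskiLocalAtSource.of_openCover 𝒰 hft

/-- Quasi-compactness for jointly surjective pieces. -/
theorem quasiCompact_of_jointly_surjective {S : Scheme.{u}} {a : X ⟶ P} {b : Y ⟶ P}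
    (h : ∀ p : P, (∃ x, a x = p) ∨ ∃ y, b y = p) (q : P ⟶ S) [QuasiCompact (a ≫ q)]
    [QuasiCompact (b ≫ q)] : QuasiCompact q := by
  refine ⟨fun K hKo hKc => ?_⟩
  have : q ⁻¹' K = a '' ((a ≫ q) ⁻¹' K) ∪ b '' ((b ≫ q) ⁻¹' K) := by
    ext w
    constructor
    · intro hw
      rcases h w with ⟨x, rfl⟩ | ⟨y, rfl⟩
      · exact Or.inl ⟨x, by rw [Set.mem_preimage, Scheme.Hom.comp_apply]; exact hw, rfl⟩
      · exact Or.inr ⟨y, by rw [Set.mem_preimage, Scheme.Hom.comp_apply]; exact hw, rfl⟩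
    · rintro (⟨x, hx, rfl⟩ | ⟨y, hy, rfl⟩)
      · rw [Set.mem_preimage, Scheme.Hom.comp_apply] at hx; exact hx
      · rw [Set.mem_preimage, Scheme.Hom.comp_apply] at hy; exact hy
  rw [this]
  exact ((QuasiCompact.isCompact_preimage _ hKo hKc).image a.continuous).union
    ((QuasiCompact.isCompact_preimage _ hKo hKc).image b.continuous)

/-- Universal closedness for jointly surjective pieces. -/
theorem universallyClosed_of_jointly_surjective {S : Scheme.{u}} {a : X ⟶ P} {b : Y ⟶ P}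
    (h : ∀ p : P, (∃ x, a x = p) ∨ ∃ y, b y = p) (q : P ⟶ S) [UniversallyClosed (a ≫ q)]
    [UniversallyClosed (b ≫ q)] : UniversallyClosed q := by
  refine ⟨fun PT T pP g sPT hsq => ?_⟩
  intro Cl hCl
  have hEq : sPT '' Cl = (pullback.snd a pP ≫ sPT) '' (pullback.snd a pP ⁻¹' Cl) ∪
      (pullback.snd b pP ≫ sPT) '' (pullback.snd b pP ⁻¹' Cl) := by
    ext t
    constructor
    · rintro ⟨z, hz, rfl⟩
      rcases h (pP z) with ⟨x, hx⟩ | ⟨y, hy⟩
      · obtain ⟨w, -, hw⟩ := Scheme.Pullback.exists_preimage_pullback x z hx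
        exact Or.inl ⟨w, by rw [Set.mem_preimage, hw]; exact hz, by rw [Scheme.Hom.comp_apply, hw]⟩
      · obtain ⟨w, -, hw⟩ := Scheme.Pullback.exists_preimage_pullback y z hy
        exact Or.inr ⟨w, by rw [Set.mem_preimage, hw]; exact hz, by rw [Scheme.Hom.comp_apply, hw]⟩
    · rintro (⟨w, hw, rfl⟩ | ⟨w, hw, rfl⟩) <;> exact ⟨_, hw, (Scheme.Hom.comp_apply _ _ _).symm⟩
  show IsClosed (sPT '' Cl)
  rw [hEq]
  haveI : UniversallyClosed (pullback.snd a pP ≫ sPT) :=
    MorphismProperty.of_isPullback ((IsPullback.of_hasPullback a pP).paste_vert hsq.flip) ‹UniversallyClosed (a ≫ q)›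
  haveI : UniversallyClosed (pullback.snd b pP ≫ sPT) :=
    MorphismProperty.of_isPullback ((IsPullback.of_hasPullback b pP).paste_vert hsq.flip) ‹UniversallyClosed (b ≫ q)›
  exact ((pullback.snd a pP ≫ sPT).isClosedMap _ (hCl.preimage (pullback.snd a pP).continuous)).union
    ((pullback.snd b pP ≫ sPT).isClosedMap _ (hCl.preimage (pullback.snd b pP).continuous))

end Groth.Agent.FerrandPush
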