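import Groth.Agent.FerrandPush.BaseChange
import Groth.Agent.FerrandPush.Finite

/-!
# Morphisms between pushouts of two closed immersions
-/

set_option autoImplicit false
set_option linter.style.haveILetI false
set_option linter.unusedVariables false
universe u
open CategoryTheory CategoryTheory.Limits AlgebraicGeometry

namespace Groth.Agent.FerrandPush

theorem of_comp_openImmersion {X Y S : Scheme.{u}} (P : MorphismProperty Scheme.{u})
    [P.IsStableUnderBaseChange] (x : X ⟶ Y) (ρ : Y ⟶ S) [IsOpenImmersion ρ] (h : P (x ≫ ρ)) : P x := by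
  have hpb : IsPullback (𝟙 X) x (x ≫ ρ) ρ :=
    ⟨⟨Category.id_comp _⟩, ⟨PullbackCone.isLimitAux' _ fun c =>
      ⟨c.fst, Category.comp_id _, (cancel_mono ρ).mp ((Category.assoc _ _ _).trans c.condition),
        fun hm _ => (Category.comp_id _).symm.trans hm⟩⟩⟩
  exact MorphismProperty.of_isPullback hpb h

/-- The kernel of a base-changed quotient map is generated by the old kernel. -/
theorem ker_le_of_isPullback {C C' A A₁ : CommRingCat.{u}} {P P' X X' : Scheme.{u}}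
    {a' : X' ⟶ P'} {f : X' ⟶ X} {h : P' ⟶ P} {a : X ⟶ P} (hX : IsPullback a' f h a)
    (s : C ⟶ A) (hs : Function.Surjective s.hom) (s' : C' ⟶ A₁) (φ : C ⟶ C')
    (ρ : Spec C ⟶ P) (e : Spec A ⟶ X) (w : Spec.map s ≫ ρ = e ≫ a)
    (ρ' : Spec C' ⟶ P') (e' : Spec A₁ ⟶ X') (hρ' : IsPullback (Spec.map s') e' ρ' a')
    (hφ : Spec.map φ ≫ ρ = ρ' ≫ h) :
    RingHom.ker s'.hom ≤ (RingHom.ker s.hom).map φ.hom := by
  let I : Ideal C' := (RingHom.ker s.hom).map φ.hom
  let π : C' ⟶ CommRingCat.of (C' ⧸ I) := CommRingCat.ofHom (Ideal.Quotient.mk I)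
  have hk : RingHom.ker s.hom ≤ RingHom.ker ((Ideal.Quotient.mk I).comp φ.hom) := fun x hx =>
    RingHom.mem_ker.mpr (Ideal.Quotient.eq_zero_iff_mem.mpr (Ideal.mem_map_of_mem _ hx))
  let ψ : A ⟶ CommRingCat.of (C' ⧸ I) :=
    CommRingCat.ofHom ((RingHom.liftOfSurjective s.hom hs) ⟨_, hk⟩)
  have hψ : s ≫ ψ = φ ≫ π := CommRingCat.hom_ext (RingHom.liftOfSurjective_comp _ _ _)
  obtain ⟨l, hl₁, hl₂⟩ := hX.exists_lift (Spec.map π ≫ ρ') (Spec.map ψ ≫ e) (by
    rw [Category.assoc, Category.assoc, ← hφ, ← w, ← Category.assoc, ← Spec.map_comp, ← hψ,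
      Spec.map_comp, Category.assoc])
  obtain ⟨ξ', hξ₁, hξ₂⟩ := hρ'.exists_lift (Spec.map π) l hl₁.symm
  obtain ⟨ξ, rfl⟩ := Spec.map_surjective ξ'
  have e2 : s' ≫ ξ = π := Spec.map_injective (by rw [Spec.map_comp]; exact hξ₁)
  intro x hx
  refine Ideal.Quotient.eq_zero_iff_mem.mp ?_
  show π.hom x = 0
  rw [← e2, CommRingCat.hom_comp, RingHom.comp_apply, RingHom.mem_ker.mp hx, map_zero]

theorem Cart.snd_surjective {C B A' A : Type u} [CommRing C] [CommRing B] [CommRing A'] [CommRing A]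
    (D : Cart C B A' A) (hq : Function.Surjective D.q) : Function.Surjective D.snd := fun a => by
  obtain ⟨b, hb⟩ := hq (D.p a)
  obtain ⟨c, -, hc⟩ := D.lift' b a hb
  exact ⟨c, hc⟩

theorem chart_q_surjective {X Y Z : Scheme.{u}} {i : Z ⟶ X} {j : Z ⟶ Y} [IsClosedImmersion i]
    [IsClosedImmersion j] (α : Chart i j) : Function.Surjective α.cart.q := by
  show Function.Surjective (j.appLE α.V α.W α.W_eq.le).hom
  rw [Scheme.Hom.appLE, CommRingCat.hom_comp, RingHom.coe_comp]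
  refine Function.Surjective.comp ?_ (j.app_surjective α.V α.hV)
  rw [show homOfLE α.W_eq.le = eqToHom α.W_eq from Subsingleton.elim _ _]
  exact (ConcreteCategory.bijective_of_isIso (Z.presheaf.map (eqToHom α.W_eq).op)).2

theorem exists_affine_of_closedImmersion {X Y Z : Scheme.{u}} (i : Z ⟶ X) (j : Z ⟶ Y)
    [IsClosedImmersion j] (y : Y) :
    ∃ U : X.Opens, IsAffineOpen U ∧ j ⁻¹' {y} ⊆ i ⁻¹' (U : Set X) := by
  by_cases hy : y ∈ Set.range j
  · obtain ⟨z, rfl⟩ := hy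
    obtain ⟨U, hU, hz, -⟩ := exists_isAffineOpen_mem_and_subset (U := ⊤)
      (show i z ∈ (⊤ : X.Opens) from trivial)
    exact ⟨U, hU, fun z' hz' => by rw [j.isClosedEmbedding.injective hz']; exact hz⟩
  · exact ⟨⊥, isAffineOpen_bot X, fun z' hz' => absurd ⟨z', hz'⟩ hy⟩

theorem props_two {X Y Z P : Scheme.{u}} {i : Z ⟶ X} {j : Z ⟶ Y} [IsClosedImmersion i]
    [IsClosedImmersion j] {a : X ⟶ P} {b : Y ⟶ P} (hP : IsPushout i j a b) :
    IsClosedImmersion a ∧ IsClosedImmersion b ∧ IsPullback i j a b ∧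
      (∀ p : P, (∃ x, a x = p) ∨ ∃ y, b y = p) := by
  obtain ⟨-, hb, hpb, hs⟩ := props_of_isPushout (exists_affine_of_closedImmersion i j) hP
  obtain ⟨-, ha, -, -⟩ := props_of_isPushout (exists_affine_of_closedImmersion j i) hP.flip
  exact ⟨ha, hb, hpb, hs⟩

section

variable {X Y Z P X' Y' Z' P' : Scheme.{u}} {i : Z ⟶ X} {j : Z ⟶ Y} [IsClosedImmersion i]
  [IsClosedImmersion j] {a : X ⟶ P} {b : Y ⟶ P} (hP : IsPushout i j a b)
  {f : X' ⟶ X} {g : Y' ⟶ Y} {i' : Z' ⟶ X'} {j' : Z' ⟶ Y'} {c : Z' ⟶ Z}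
  (hX : IsPullback i' c f i) (hY : IsPullback j' c g j)
  {a' : X' ⟶ P'} {b' : Y' ⟶ P'} (hP' : IsPushout i' j' a' b') {h : P' ⟶ P}
  (ha : a' ≫ h = f ≫ a) (hb : b' ≫ h = g ≫ b)

include hP hX hY hP' ha hb

theorem isPullback_inl : IsPullback a' f h a := by
  haveI : IsClosedImmersion i' := MorphismProperty.of_isPullback hX.flip ‹IsClosedImmersion i›
  haveI : IsClosedImmersion j' := MorphismProperty.of_isPullback hY.flip ‹IsClosedImmersion j›
  obtain ⟨ha₀, hb₀, hpb, -⟩ := props_two hP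
  obtain ⟨ha₁, hb₁, -, -⟩ := props_two hP'
  have hZ' : IsPullback j' (c ≫ i) (g ≫ b) a := hY.paste_vert hpb.flip
  have key : ∀ {T : Scheme.{u}} (r : T ⟶ P') (s : T ⟶ X), r ≫ h = s ≫ a → ∃ l, l ≫ a' = r := by
    intro T r s hrs
    have loc : ∀ t : T, ∃ (Q : Scheme.{u}) (k : Q ⟶ T) (_ : IsOpenImmersion k), t ∈ Set.range k ∧
        ∃ l : Q ⟶ X', l ≫ a' = k ≫ r := by
      intro t
      obtain ⟨W, hW, htW, -⟩ := exists_isAffineOpen_mem_and_subset (U := ⊤)
        (show h (r t) ∈ (⊤ : P.Opens) from trivial)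
      obtain ⟨W', hW', htW', hW'W⟩ := exists_isAffineOpen_mem_and_subset (U := h ⁻¹ᵁ W) htW
      obtain ⟨α, ρ, hρo, hρW, hρA, hρB⟩ := exists_cart_of_affineOpen hP hW
      obtain ⟨α', ρ', hρ'o, hρ'W, hρ'A, hρ'B⟩ := exists_cart_of_affineOpen hP' hW'
      have hlift : Set.range (ρ' ≫ h) ⊆ Set.range ρ := by
        rintro _ ⟨x, rfl⟩
        rw [hρW, Scheme.Hom.comp_apply]
        exact hW'W (hρ'W ▸ ⟨x, rfl⟩ : ρ' x ∈ (W' : Set P'))
      obtain ⟨φ, hφ'⟩ := Spec.map_surjective (IsOpenImmersion.lift ρ (ρ' ≫ h) hlift)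
      have hφ : Spec.map φ ≫ ρ = ρ' ≫ h := by rw [hφ', IsOpenImmersion.lift_fac]
      -- `snd'` kills the image of `ker snd`
      obtain ⟨σ', hσ₁, -⟩ := hρA.exists_lift (α'.cart.iA' ≫ Spec.map φ) (α'.hU.fromSpec ≫ f) (by
        rw [Category.assoc, hφ, reassoc_of% hρ'A.w, ha, Category.assoc])
      obtain ⟨σ, rfl⟩ := Spec.map_surjective σ'
      have eσ : CommRingCat.ofHom α.cart.snd ≫ σ = φ ≫ CommRingCat.ofHom α'.cart.snd :=
        Spec.map_injective (by rw [Spec.map_comp, Spec.map_comp]; exact hσ₁)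
      have hkill : (RingHom.ker α.cart.snd).map φ.hom ≤ RingHom.ker α'.cart.snd := by
        refine Ideal.map_le_iff_le_comap.mpr fun x hx => RingHom.mem_ker.mpr ?_
        have := ConcreteCategory.congr_hom eσ x
        simp only [CommRingCat.comp_apply, CommRingCat.ofHom_apply] at this
        exact this.symm.trans ((congrArg σ.hom (RingHom.mem_ker.mp hx)).trans (map_zero _))
      -- the kernel of `q'`
      have hq : RingHom.ker α'.cart.q ≤ (RingHom.ker α.cart.snd).map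
          (φ ≫ CommRingCat.ofHom α'.cart.fst).hom := by
        refine ker_le_of_isPullback hZ' (CommRingCat.ofHom α.cart.snd) ?_ (CommRingCat.ofHom α'.cart.q)
          _ ρ α.hU.fromSpec hρA.w α'.hV.fromSpec α'.hW.fromSpec ?_ ?_
        · exact α.cart.snd_surjective (chart_q_surjective α)
        · refine IsOpenImmersion.isPullback _ _ _ _ Chart.specMap_q_fromSpec.symm ?_
          rw [α'.hV.opensRange_fromSpec, α'.hW.opensRange_fromSpec, α'.W_eq]
        · rw [Spec.map_comp, Category.assoc, hφ, ← Category.assoc]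
          erw [hρ'B.w]
          rw [Category.assoc, hb]
      have hker : RingHom.ker α'.cart.snd ≤ (RingHom.ker α.cart.snd).map φ.hom := by
        intro z hz
        have h1 : α'.cart.fst z ∈ RingHom.ker α'.cart.q :=
          RingHom.mem_ker.mpr ((α'.cart.w z).trans (by rw [RingHom.mem_ker.mp hz, map_zero]))
        have h2 := hq h1
        rw [CommRingCat.hom_comp, ← Ideal.map_map] at h2
        obtain ⟨w, hw, hw'⟩ := (Ideal.mem_map_iff_of_surjective _ α'.cart.fst_surjective).mp h2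
        rwa [← α'.cart.ext' w z hw' ((RingHom.mem_ker.mp (hkill hw)).trans (RingHom.mem_ker.mp hz).symm)]
      obtain ⟨Q, hQ, htQ, hQW⟩ := exists_isAffineOpen_mem_and_subset (U := r ⁻¹ᵁ W') htW'
      let k := hQ.fromSpec
      have hkr : Set.range (k ≫ r) ⊆ Set.range ρ' := by
        rintro _ ⟨z, rfl⟩
        rw [hρ'W]
        exact hQW (fromSpec_mem hQ z)
      obtain ⟨π, hπ'⟩ := Spec.map_surjective (IsOpenImmersion.lift ρ' _ hkr)
      have hπ : Spec.map π ≫ ρ' = k ≫ r := by rw [hπ', IsOpenImmersion.lift_fac]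
      obtain ⟨ψ', hψ₁, -⟩ := hρA.exists_lift (Spec.map π ≫ Spec.map φ) (k ≫ s) (by
        rw [Category.assoc, hφ, reassoc_of% hπ, hrs, Category.assoc])
      obtain ⟨ψ, rfl⟩ := Spec.map_surjective ψ'
      have eψ : CommRingCat.ofHom α.cart.snd ≫ ψ = φ ≫ π :=
        Spec.map_injective (by rw [Spec.map_comp, Spec.map_comp]; exact hψ₁)
      have hπker : RingHom.ker α'.cart.snd ≤ RingHom.ker π.hom := hker.trans
        (Ideal.map_le_iff_le_comap.mpr fun x hx => RingHom.mem_ker.mpr (by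
          have := ConcreteCategory.congr_hom eψ x
          simp only [CommRingCat.comp_apply, CommRingCat.ofHom_apply] at this
          exact this.symm.trans ((congrArg ψ.hom (RingHom.mem_ker.mp hx)).trans (map_zero _))))
      let fb := (RingHom.liftOfSurjective α'.cart.snd
        (α'.cart.snd_surjective (chart_q_surjective α'))) ⟨π.hom, hπker⟩
      refine ⟨_, k, inferInstance, mem_range_fromSpec hQ htQ,
        Spec.map (CommRingCat.ofHom fb) ≫ α'.hU.fromSpec, ?_⟩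
      rw [Category.assoc, ← hρ'A.w, ← Category.assoc, ← hπ]
      refine congrArg (· ≫ ρ') ?_
      show Spec.map _ ≫ Spec.map _ = _
      rw [← Spec.map_comp]
      exact congrArg Spec.map (CommRingCat.hom_ext (RingHom.liftOfSurjective_comp _ _ _))
    choose Q k hk hw' l hl using loc
    let 𝒲 : T.OpenCover := Scheme.Cover.mkOfCovers T Q k (fun x => ⟨x, hw' x⟩) hk
    refine ⟨𝒲.glueMorphisms l (fun x y => ?_), 𝒲.hom_ext _ _ fun x => ?_⟩
    · rw [← cancel_mono a']
      erw [Category.assoc, Category.assoc, hl, hl]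
      exact (Category.assoc _ _ _).symm.trans ((congrArg (· ≫ r) pullback.condition).trans (Category.assoc _ _ _))
    · rw [← Category.assoc, Scheme.Cover.ι_glueMorphisms]
      exact hl x
  refine ⟨⟨ha⟩, ⟨PullbackCone.isLimitAux' _ fun s => ?_⟩⟩
  let l := Classical.choose (key s.fst s.snd s.condition)
  have hl : l ≫ a' = s.fst := Classical.choose_spec (key s.fst s.snd s.condition)
  refine ⟨l, hl, ?_, fun {m} hm₁ _ => (cancel_mono a').mp (hm₁.trans hl.symm)⟩
  show l ≫ f = s.snd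
  rw [← cancel_mono a, Category.assoc, ← ha, ← Category.assoc, hl, s.condition]

theorem isPullback_inr : IsPullback b' g h b :=
  isPullback_inl hP.flip hY hX hP'.flip hb ha

/-- Reduce a property of `h` to a statement about rings glued from two quotients. -/
theorem of_charts (P₀ : MorphismProperty Scheme.{u}) [P₀.IsStableUnderBaseChange]
    [P₀.IsStableUnderComposition]
    (Q : ∀ {R S : Type u} [CommRing R] [CommRing S], (R →+* S) → Prop) [HasRingHomProperty P₀ Q]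
    (hopen : ∀ {U V : Scheme.{u}} (w : U ⟶ V) [IsOpenImmersion w], P₀ w)
    (hQ : ∀ {R S B B' A A' : Type u} [CommRing R] [CommRing S] [CommRing B] [CommRing B']
      [CommRing A] [CommRing A'] (φ : R →+* S) (s₁ : R →+* B) (s₂ : R →+* A) (t₁ : S →+* B')
      (t₂ : S →+* A') (β : B →+* B') (α : A →+* A'), β.comp s₁ = t₁.comp φ → α.comp s₂ = t₂.comp φ →
      Function.Surjective s₁ → Function.Surjective s₂ → Function.Surjective t₁ → Function.Surjective t₂ →
      (∀ r, s₁ r = 0 → s₂ r = 0 → r = 0) →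
      RingHom.ker t₁ ≤ (RingHom.ker s₁).map φ → RingHom.ker t₂ ≤ (RingHom.ker s₂).map φ →
      (Flat h → φ.Flat) → Q β → Q α → Q φ)
    (hf : P₀ f) (hg : P₀ g) : P₀ h := by
  haveI : IsClosedImmersion i' := MorphismProperty.of_isPullback hX.flip ‹IsClosedImmersion i›
  haveI : IsClosedImmersion j' := MorphismProperty.of_isPullback hY.flip ‹IsClosedImmersion j›
  obtain ⟨ha₀, hb₀, hpb, -⟩ := props_two hP
  obtain ⟨ha₁, hb₁, -, -⟩ := props_two hP'
  have hA := isPullback_inl hP hX hY hP' ha hb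
  have hB := isPullback_inr hP hX hY hP' ha hb
  have loc : ∀ p : P', ∃ (C : CommRingCat.{u}) (ρ' : Spec C ⟶ P') (_ : IsOpenImmersion ρ'),
      p ∈ Set.range ρ' ∧ P₀ (ρ' ≫ h) := by
    intro p
    obtain ⟨W, hW, hpW, -⟩ := exists_isAffineOpen_mem_and_subset (U := ⊤)
      (show h p ∈ (⊤ : P.Opens) from trivial)
    obtain ⟨W', hW', hpW', hW'W⟩ := exists_isAffineOpen_mem_and_subset (U := h ⁻¹ᵁ W) hpW
    obtain ⟨α, ρ, hρo, hρW, hρA, hρB⟩ := exists_cart_of_affineOpen hP hW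
    obtain ⟨α', ρ', hρ'o, hρ'W, hρ'A, hρ'B⟩ := exists_cart_of_affineOpen hP' hW'
    have hlift : Set.range (ρ' ≫ h) ⊆ Set.range ρ := by
      rintro _ ⟨x, rfl⟩
      rw [hρW, Scheme.Hom.comp_apply]
      exact hW'W (hρ'W ▸ ⟨x, rfl⟩ : ρ' x ∈ (W' : Set P'))
    obtain ⟨φ, hφ'⟩ := Spec.map_surjective (IsOpenImmersion.lift ρ (ρ' ≫ h) hlift)
    have hφ : Spec.map φ ≫ ρ = ρ' ≫ h := by rw [hφ', IsOpenImmersion.lift_fac]
    obtain ⟨σ', hσ₁, hσ₂⟩ := hρA.exists_lift (α'.cart.iA' ≫ Spec.map φ) (α'.hU.fromSpec ≫ f) (by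
      rw [Category.assoc, hφ, reassoc_of% hρ'A.w, ha, Category.assoc])
    obtain ⟨σ, rfl⟩ := Spec.map_surjective σ'
    obtain ⟨τ', hτ₁, hτ₂⟩ := hρB.exists_lift (α'.cart.iB ≫ Spec.map φ) (α'.hV.fromSpec ≫ g) (by
      rw [Category.assoc, hφ, reassoc_of% hρ'B.w, hb, Category.assoc])
    obtain ⟨τ, rfl⟩ := Spec.map_surjective τ'
    have Qof : ∀ {E E' : CommRingCat.{u}} {M M' : Scheme.{u}} (x : E ⟶ E') (e : Spec E ⟶ M)
        [IsOpenImmersion e] (e' : Spec E' ⟶ M') [IsOpenImmersion e'] (m : M' ⟶ M),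
        Spec.map x ≫ e = e' ≫ m → P₀ m → Q x.hom := by
      intro E E' M M' x e _ e' _ m hxe hm
      refine (HasRingHomProperty.Spec_iff (P := P₀)).mp (of_comp_openImmersion P₀ _ e ?_)
      rw [hxe]
      exact P₀.comp_mem _ _ (hopen e') hm
    refine ⟨_, ρ', hρ'o, hρ'W ▸ hpW', ?_⟩
    rw [← hφ]
    refine P₀.comp_mem _ _ ((HasRingHomProperty.Spec_iff (P := P₀)).mpr ?_) (hopen ρ)
    have hsB := α.cart.fst_surjective
    have hsA := α.cart.snd_surjective (chart_q_surjective α)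
    refine hQ φ.hom α.cart.fst α.cart.snd α'.cart.fst α'.cart.snd τ.hom σ.hom ?_ ?_ hsB hsA
      α'.cart.fst_surjective (α'.cart.snd_surjective (chart_q_surjective α'))
      (fun r => α.cart.eq_zero r) ?_ ?_ ?_ (Qof τ α.hV.fromSpec α'.hV.fromSpec g hτ₂ hg)
      (Qof σ α.hU.fromSpec α'.hU.fromSpec f hσ₂ hf)
    · have : CommRingCat.ofHom α.cart.fst ≫ τ = φ ≫ CommRingCat.ofHom α'.cart.fst :=
        Spec.map_injective (by rw [Spec.map_comp, Spec.map_comp]; exact hτ₁)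
      exact congrArg CommRingCat.Hom.hom this
    · have : CommRingCat.ofHom α.cart.snd ≫ σ = φ ≫ CommRingCat.ofHom α'.cart.snd :=
        Spec.map_injective (by rw [Spec.map_comp, Spec.map_comp]; exact hσ₁)
      exact congrArg CommRingCat.Hom.hom this
    · exact ker_le_of_isPullback hB (CommRingCat.ofHom α.cart.fst) hsB (CommRingCat.ofHom α'.cart.fst)
        φ ρ α.hV.fromSpec hρB.w ρ' α'.hV.fromSpec hρ'B hφ
    · exact ker_le_of_isPullback hA (CommRingCat.ofHom α.cart.snd) hsA (CommRingCat.ofHom α'.cart.snd)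
        φ ρ α.hU.fromSpec hρA.w ρ' α'.hU.fromSpec hρ'A hφ
    · intro hflat
      haveI : Flat (Spec.map φ ≫ ρ) := by rw [hφ]; infer_instance
      exact Flat.SpecMap_iff.mp (of_comp_openImmersion @Flat _ ρ ‹_›)
  choose C ρ' hρ' hmem hP₀ using loc
  let 𝒰 : P'.OpenCover := Scheme.Cover.mkOfCovers P' (fun p => Spec (C p)) ρ'
    (fun p => ⟨p, hmem p⟩) hρ'
  exact IsZariskiLocalAtSource.of_openCover 𝒰 hP₀

end

end Groth.Agent.FerrandPush
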