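import Groth.Agent.FerrandPush.Cover
import Mathlib.AlgebraicGeometry.ZariskisMainTheorem

/-!
# Affine opens containing a fibre of an integral morphism
-/

set_option autoImplicit false
set_option linter.style.haveILetI false
set_option linter.unusedVariables false
universe u
open CategoryTheory CategoryTheory.Limits AlgebraicGeometry

namespace Groth.Agent.FerrandPush

/-- In a quasi-affine scheme, the image of a fibre of an integral ring map lies in an affine open. -/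
theorem exists_affine_fibre {R A : Type u} [CommRing R] [CommRing A] [Algebra R A] [Algebra.IsIntegral R A]
    (V : Scheme.{u}) [V.IsQuasiAffine] (w : Spec (.of A) ⟶ V) (y : PrimeSpectrum R) :
    ∃ O : V.Opens, IsAffineOpen O ∧
      ∀ q : PrimeSpectrum A, PrimeSpectrum.comap (algebraMap R A) q = y → w q ∈ O := by
  classical
  let res : Γ(V, ⊤) →+* A := (w.appTop ≫ (Scheme.ΓSpecIso (CommRingCat.of A)).hom).hom
  have key : ∀ (r : Γ(V, ⊤)) (q : PrimeSpectrum A), w q ∈ V.basicOpen r ↔ res r ∉ q.asIdeal := by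
    intro r q
    show q ∈ w ⁻¹ᵁ V.basicOpen r ↔ _
    rw [Scheme.preimage_basicOpen_top, basicOpen_eq_of_affine']
    exact PrimeSpectrum.mem_basicOpen _ _
  have hex : ∀ q : PrimeSpectrum A, ∃ r : Γ(V, ⊤), IsAffineOpen (V.basicOpen r) ∧ w q ∈ V.basicOpen r := by
    intro q
    obtain ⟨_, ⟨_, ⟨r, hr, rfl⟩, rfl⟩, hxr, -⟩ :=
      (Scheme.IsQuasiAffine.isBasis_basicOpen V).exists_subset_of_mem_open (Set.mem_univ (w q)) isOpen_univ
    exact ⟨r, hr, hxr⟩
  choose g hg hgmem using hex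
  obtain ⟨t, ht⟩ : ∃ t : Finset (PrimeSpectrum A), ∀ q, ∃ k ∈ t, w q ∈ V.basicOpen (g k) := by
    obtain ⟨t, ht⟩ := (isCompact_univ (X := Spec (CommRingCat.of A))).elim_finite_subcover
      (fun q => w ⁻¹' (V.basicOpen (g q) : Set V))
      (fun q => (V.basicOpen (g q)).isOpen.preimage w.continuous)
      (fun q _ => Set.mem_iUnion.mpr ⟨q, hgmem q⟩)
    refine ⟨t, fun q => ?_⟩
    obtain ⟨k, hk, hqk⟩ := Set.mem_iUnion₂.mp (ht (Set.mem_univ q))
    exact ⟨k, hk, hqk⟩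
  let S := Algebra.adjoin R ((fun q => res (g q)) '' (SetLike.coe t))
  haveI : Module.Finite R S :=
    Algebra.finite_adjoin_of_finite_of_isIntegral (t.finite_toSet.image _)
      fun x _ => Algebra.IsIntegral.isIntegral x
  let ψ : MvPolynomial t ℤ →+* Γ(V, ⊤) := (MvPolynomial.aeval fun q : t => g q.1).toRingHom
  let φ : MvPolynomial t ℤ →+* S := (MvPolynomial.aeval fun q : t =>
    (⟨res (g q.1), Algebra.subset_adjoin ⟨q.1, q.2, rfl⟩⟩ : S)).toRingHom
  have hφψ : (algebraMap S A).comp φ = res.comp ψ := by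
    refine MvPolynomial.ringHom_ext (fun n => by simp) fun z => ?_
    simp [φ, ψ]
  let F := PrimeSpectrum.comap φ '' (PrimeSpectrum.comap (algebraMap R S) ⁻¹' {y})
  have hF : F.Finite := (Algebra.QuasiFinite.finite_comap_preimage_singleton y).image _
  let M : Ideal (MvPolynomial t ℤ) := Ideal.span (Set.range MvPolynomial.X)
  let F' := {P ∈ F | ¬ M ≤ P.asIdeal}
  obtain ⟨P, hPM, hP⟩ : ∃ P ∈ M, ∀ q ∈ F', P ∉ q.asIdeal := by
    by_contra hne
    push Not at hne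
    have hsub : (M : Set (MvPolynomial t ℤ)) ⊆ ⋃ q ∈ F', (q.asIdeal : Set (MvPolynomial t ℤ)) :=
      fun x hx => by
        obtain ⟨q, hq, hxq⟩ := hne x hx
        exact Set.mem_biUnion hq hxq
    rcases F'.eq_empty_or_nonempty with h0 | ⟨q₀, hq₀⟩
    · obtain ⟨q, hq, -⟩ := hne 0 M.zero_mem
      rw [h0] at hq
      exact hq
    obtain ⟨q, hq, hqM⟩ := (Ideal.subset_union_prime_finite (hF.subset fun q hq => hq.1) q₀ q₀
      fun q _ _ _ => q.2).mp hsub
    exact hq.2 hqM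
  refine ⟨V.basicOpen (ψ P), ?_, fun q hq => (key _ _).mpr fun h => ?_⟩
  · let gg : t → Γ(V, V.basicOpen (ψ P)) := fun q =>
      V.presheaf.map (homOfLE (V.basicOpen_le (ψ P))).op (g q.1)
    refine isAffineOpen_of_isAffineOpen_basicOpen _ (Set.range gg) ?_ ?_
    · have hu : IsUnit (V.presheaf.map (homOfLE (V.basicOpen_le (ψ P))).op (ψ P)) :=
        RingedSpace.isUnit_res_basicOpen _ _
      refine Ideal.eq_top_of_isUnit_mem _ ?_ hu
      have h1 : ψ P ∈ M.map ψ := Ideal.mem_map_of_mem _ hPM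
      have h2 : V.presheaf.map (homOfLE (V.basicOpen_le (ψ P))).op (ψ P) ∈
          (M.map ψ).map (V.presheaf.map (homOfLE (V.basicOpen_le (ψ P))).op).hom :=
        Ideal.mem_map_of_mem _ h1
      rw [Ideal.map_span, Ideal.map_span, ← Set.range_comp, ← Set.range_comp] at h2
      refine Ideal.span_mono ?_ h2
      rintro _ ⟨k, rfl⟩
      exact ⟨k, by simp [gg, ψ]⟩
    · rintro _ ⟨k, rfl⟩
      have h1 : V.basicOpen (gg k) = V.basicOpen (V.presheaf.map
          (homOfLE (V.basicOpen_le (g k.1))).op (ψ P)) := by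
        rw [Scheme.basicOpen_res, Scheme.basicOpen_res, inf_comm]
      rw [h1]
      exact (hg k.1).basicOpen _
  · obtain ⟨k, hk, hqk⟩ := ht q
    let q' := PrimeSpectrum.comap (algebraMap S A) q
    have hqF : PrimeSpectrum.comap φ q' ∈ F := ⟨q', by
      show PrimeSpectrum.comap (algebraMap R S) (PrimeSpectrum.comap (algebraMap S A) q) ∈ ({y} : Set _)
      rw [← PrimeSpectrum.comap_comp_apply, ← IsScalarTower.algebraMap_eq]
      exact hq, rfl⟩
    have hev : ∀ Q : MvPolynomial t ℤ, Q ∈ (PrimeSpectrum.comap φ q').asIdeal ↔ res (ψ Q) ∈ q.asIdeal := by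
      intro Q
      show algebraMap S A (φ Q) ∈ q.asIdeal ↔ _
      rw [← RingHom.comp_apply, hφψ]
      rfl
    have hnM : ¬ M ≤ (PrimeSpectrum.comap φ q').asIdeal := fun hM => by
      have h1 := (hev (MvPolynomial.X (⟨k, hk⟩ : t))).mp (hM (Ideal.subset_span ⟨_, rfl⟩))
      refine (key (g k) q).mp hqk ?_
      simpa [ψ] using h1
    exact hP _ ⟨hqF, hnM⟩ ((hev P).mpr h)

/-- The chart condition for base changes along separated, locally quasi-finite morphisms. -/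
theorem exists_affine_fibre_of_lqf {X X' Y Y' Z Z' : Scheme.{u}} (i : Z ⟶ X) (j : Z ⟶ Y)
    (haff : ∀ y : Y, ∃ U : X.Opens, IsAffineOpen U ∧ j ⁻¹' {y} ⊆ i ⁻¹' (U : Set X))
    (f : X' ⟶ X) [IsSeparated f] [LocallyQuasiFinite f] [LocallyOfFiniteType f] (g : Y' ⟶ Y)
    (i' : Z' ⟶ X') (j' : Z' ⟶ Y') [IsIntegralHom j'] (c : Z' ⟶ Z)
    (hi : i' ≫ f = c ≫ i) (hj : j' ≫ g = c ≫ j) (y' : Y') :
    ∃ O : X'.Opens, IsAffineOpen O ∧ j' ⁻¹' {y'} ⊆ i' ⁻¹' (O : Set X') := by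
  classical
  obtain ⟨U, hU, hUy⟩ := haff (g y')
  have hT : ∀ z, j' z = y' → i' z ∈ f ⁻¹ᵁ U := fun z hz => by
    show f (i' z) ∈ U
    rw [← Scheme.Hom.comp_apply, hi, Scheme.Hom.comp_apply]
    refine hUy ?_
    show j (c z) ∈ ({g y'} : Set Y)
    rw [← Scheme.Hom.comp_apply, ← hj, Scheme.Hom.comp_apply, hz]
    rfl
  have hex : ∀ z, j' z = y' → ∃ O : X'.Opens, IsAffineOpen O ∧ i' z ∈ O ∧ O ≤ f ⁻¹ᵁ U := fun z hz => by
    obtain ⟨O, hO, hzO, hOU⟩ := exists_isAffineOpen_mem_and_subset (hT z hz)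
    exact ⟨O, hO, hzO, hOU⟩
  choose O hO hzO hOU using hex
  have hcpt : IsCompact (j' ⁻¹' {y'}) := by
    rw [← j'.range_fiberι y']
    exact isCompact_range (j'.fiberι y').continuous
  obtain ⟨t, ht⟩ := hcpt.elim_finite_subcover
    (fun z : {z // j' z = y'} => (i' ⁻¹ᵁ O z.1 z.2 : Set Z')) (fun z => (i' ⁻¹ᵁ O z.1 z.2).isOpen)
    (fun z hz => Set.mem_iUnion.mpr ⟨⟨z, hz⟩, hzO z hz⟩)
  let V : X'.Opens := t.sup fun z => O z.1 z.2
  have hV : IsCompact (V : Set X') := by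
    have : (V : Set X') = ⋃ z ∈ t, (O z.1 z.2 : Set X') := by
      simp only [V, Finset.sup_eq_iSup, TopologicalSpace.Opens.coe_iSup]
    rw [this]
    exact t.isCompact_biUnion fun z _ => (hO _ _).isCompact
  have hVU : V ≤ f ⁻¹ᵁ U := Finset.sup_le fun z _ => hOU _ _
  have hTV : ∀ z, j' z = y' → i' z ∈ V := fun z hz => by
    obtain ⟨k, hk, hzk⟩ := Set.mem_iUnion₂.mp (ht hz)
    exact (Finset.le_sup (f := fun z : {z // j' z = y'} => O z.1 z.2) hk) hzk
  haveI : IsAffine (U : Scheme.{u}) := hU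
  haveI : CompactSpace (V : Scheme.{u}) := isCompact_iff_compactSpace.mp hV
  let v : (V : Scheme.{u}) ⟶ (U : Scheme.{u}) := f.resLE U V hVU
  haveI : LocallyQuasiFinite (v ≫ U.ι) := by rw [Scheme.Hom.resLE_comp_ι]; infer_instance
  haveI : LocallyQuasiFinite v := LocallyQuasiFinite.of_comp v U.ι
  haveI : LocallyOfFiniteType (v ≫ U.ι) := by rw [Scheme.Hom.resLE_comp_ι]; infer_instance
  haveI : LocallyOfFiniteType v := locallyOfFiniteType_of_comp v U.ι
  haveI : IsSeparated (v ≫ U.ι) := by rw [Scheme.Hom.resLE_comp_ι]; infer_instance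
  haveI : IsSeparated v := IsSeparated.of_comp v U.ι
  haveI : QuasiCompact v := HasAffineProperty.iff_of_isAffine.mpr ‹_›
  haveI : IsAffine v.normalization := isAffine_of_isAffineHom v.fromNormalization
  haveI : (V : Scheme.{u}).IsQuasiAffine := Scheme.IsQuasiAffine.of_isImmersion v.toNormalization
  have hy0 : y' ∉ j' '' (i' ⁻¹ᵁ V : Set Z')ᶜ := by
    rintro ⟨z, hz, hzy⟩; exact hz (hTV z hzy)
  obtain ⟨V₀, hV₀, hyV₀, hV₀'⟩ :=
    exists_affine_compl (j'.isClosedMap _ (i' ⁻¹ᵁ V).isOpen.isClosed_compl) hy0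
  have hW₀ : IsAffineOpen (j' ⁻¹ᵁ V₀) := hV₀.preimage j'
  have hle : Set.range (hW₀.fromSpec ≫ i') ⊆ Set.range V.ι := by
    rintro _ ⟨q, rfl⟩
    rw [Scheme.Opens.range_ι]
    refine by_contra fun hn => hV₀' _ (fromSpec_mem hW₀ q) ⟨hW₀.fromSpec q, ?_, rfl⟩
    exact hn
  let w := IsOpenImmersion.lift V.ι _ hle
  have hw : w ≫ V.ι = hW₀.fromSpec ≫ i' := IsOpenImmersion.lift_fac _ _ _
  letI : Algebra Γ(Y', V₀) Γ(Z', j' ⁻¹ᵁ V₀) := (j'.app V₀).hom.toAlgebra
  haveI : Algebra.IsIntegral Γ(Y', V₀) Γ(Z', j' ⁻¹ᵁ V₀) := ⟨IsIntegralHom.isIntegral_app j' V₀ hV₀⟩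
  obtain ⟨y₀, hy₀⟩ := mem_range_fromSpec hV₀ hyV₀
  obtain ⟨O', hO', hq⟩ := exists_affine_fibre (V : Scheme.{u}) w y₀
  refine ⟨V.ι ''ᵁ O', hO'.image_of_isOpenImmersion V.ι, fun z hz => ?_⟩
  have hzW : z ∈ j' ⁻¹ᵁ V₀ := by
    show j' z ∈ V₀
    rw [show j' z = y' from hz]; exact hyV₀
  obtain ⟨q, hqz⟩ := mem_range_fromSpec hW₀ hzW
  have hq0 : PrimeSpectrum.comap (j'.app V₀).hom q = y₀ := by
    apply hV₀.fromSpec.isOpenEmbedding.injective
    have := congrArg (fun t => t q) (hV₀.SpecMap_appLE_fromSpec j' hW₀ le_rfl)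
    simp only [Scheme.Hom.comp_apply] at this
    rw [hy₀, ← show j' z = y' from hz, ← hqz]
    rw [← Scheme.Hom.app_eq_appLE] at this
    exact this
  refine ⟨w q, hq q hq0, ?_⟩
  show V.ι (w q) = i' z
  rw [← Scheme.Hom.comp_apply, hw, Scheme.Hom.comp_apply, hqz]

end Groth.Agent.FerrandPush
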