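import Groth.Agent.FerrandPush.Algebra

/-!
# Morphisms of Milnor squares
-/

set_option autoImplicit false
set_option linter.style.haveILetI false
set_option linter.unusedVariables false
universe u

namespace Groth.Agent.FerrandPush

/-- A morphism of Milnor squares whose two outer squares are cocartesian. -/
structure CartMor {C B A' A C' B' A₁' A₁ : Type u} [CommRing C] [CommRing B] [CommRing A'] [CommRing A]
    [CommRing C'] [CommRing B'] [CommRing A₁'] [CommRing A₁]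
    (D : Cart C B A' A) (D' : Cart C' B' A₁' A₁) where
  φ : C →+* C'
  β : B →+* B'
  σ : A' →+* A₁'
  τ : A →+* A₁
  wfst : D'.fst.comp φ = β.comp D.fst
  wsnd : D'.snd.comp φ = σ.comp D.snd
  wp : D'.p.comp σ = τ.comp D.p
  kerp : RingHom.ker D'.p ≤ (RingHom.ker D.p).map σ
  univ : ∀ {E : Type u} [CommRing E] (u : B' →+* E) (v : A →+* E), u.comp β = v.comp D.q →
    ∃ ξ : A₁ →+* E, ξ.comp D'.q = u ∧ ξ.comp τ = v
  ext : ∀ {E : Type u} [CommRing E] (ξ ξ' : A₁ →+* E), ξ.comp D'.q = ξ'.comp D'.q →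
    ξ.comp τ = ξ'.comp τ → ξ = ξ'

namespace CartMor

variable {C B A' A C' B' A₁' A₁ : Type u} [CommRing C] [CommRing B] [CommRing A'] [CommRing A]
  [CommRing C'] [CommRing B'] [CommRing A₁'] [CommRing A₁]
  {D : Cart C B A' A} {D' : Cart C' B' A₁' A₁} (m : CartMor D D') (hwq : ∀ b, D'.q (m.β b) = m.τ (D.q b))

theorem closure_A₁ : Subring.closure (Set.range D'.q ∪ Set.range m.τ) = ⊤ := by
  let S := Subring.closure (Set.range D'.q ∪ Set.range m.τ)
  obtain ⟨ξ, h₁, h₂⟩ := m.univ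
    (u := D'.q.codRestrict S fun b => Subring.subset_closure (Or.inl ⟨b, rfl⟩))
    (v := m.τ.codRestrict S fun a => Subring.subset_closure (Or.inr ⟨a, rfl⟩))
    (RingHom.ext fun b => Subtype.ext (by
      show D'.q (m.β b) = m.τ (D.q b)
      obtain ⟨c, rfl⟩ := D.fst_surjective b
      rw [D.w, ← RingHom.comp_apply m.β, ← m.wfst, RingHom.comp_apply, D'.w, ← RingHom.comp_apply D'.snd,
        m.wsnd, RingHom.comp_apply, ← RingHom.comp_apply D'.p, m.wp, RingHom.comp_apply]))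
  have : S.subtype.comp ξ = RingHom.id A₁ :=
    m.ext _ _ (by rw [RingHom.comp_assoc, h₁]; rfl) (by rw [RingHom.comp_assoc, h₂]; rfl)
  refine eq_top_iff.mpr fun a _ => ?_
  have h := RingHom.congr_fun this a
  rw [RingHom.id_apply] at h
  rw [← h]
  exact (ξ a).2

theorem closure_A₁' : Subring.closure (Set.range D'.snd ∪ Set.range m.σ) = ⊤ := by
  let S := Subring.closure (Set.range D'.snd ∪ Set.range m.σ)
  have hS : S.map D'.p = ⊤ := by
    rw [eq_top_iff, ← m.closure_A₁, Subring.closure_le]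
    rintro _ (⟨b, rfl⟩ | ⟨a, rfl⟩)
    · obtain ⟨c, rfl⟩ := D'.fst_surjective b
      exact ⟨D'.snd c, Subring.subset_closure (Or.inl ⟨c, rfl⟩), (D'.w c).symm⟩
    · obtain ⟨a', rfl⟩ := D.surj a
      exact ⟨m.σ a', Subring.subset_closure (Or.inr ⟨a', rfl⟩), RingHom.congr_fun m.wp a'⟩
  refine eq_top_iff.mpr fun z _ => ?_
  obtain ⟨s, hs, hs'⟩ : D'.p z ∈ S.map D'.p := hS ▸ Subring.mem_top _
  obtain ⟨c, -, hc⟩ := D'.lift' 0 (z - s) (by rw [map_zero, map_sub, hs', sub_self])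
  rw [← sub_add_cancel z s]
  exact add_mem (Subring.subset_closure (Or.inl ⟨c, hc⟩)) hs

/-- Multiplication by the second factor is absorbed by the conductor ideal. -/
theorem exists_preimage {T M : Type u} [CommRing T] [CommRing M] (ι₁ : T →+* M) (ι₂ : A' →+* M)
    (φT : C →+* T) (h : ι₁.comp φT = ι₂.comp D.snd)
    (hgen : Subring.closure (Set.range ι₁ ∪ Set.range ι₂) = ⊤)
    {x : M} (hx : x ∈ (RingHom.ker D.fst).map (ι₁.comp φT)) :
    ∃ w ∈ (RingHom.ker D.fst).map φT, ι₁ w = x := by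
  let G := (RingHom.ker D.fst).map φT
  have h2 : ∀ (α : A') (w : T), w ∈ G → ∃ w' ∈ G, ι₁ w' = ι₁ w * ι₂ α := by
    intro α w hw
    refine Submodule.span_induction (p := fun w _ => ∃ w' ∈ G, ι₁ w' = ι₁ w * ι₂ α) ?_ ?_ ?_ ?_ hw
    · rintro _ ⟨c, hc, rfl⟩
      obtain ⟨c', hc₁, hc₂⟩ := D.lift' 0 (D.snd c * α) (by
        rw [map_zero, map_mul, ← D.w, show D.fst c = 0 from hc, map_zero, zero_mul])
      refine ⟨φT c', Ideal.mem_map_of_mem _ (RingHom.mem_ker.mpr hc₁), ?_⟩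
      rw [← RingHom.comp_apply, ← RingHom.comp_apply ι₁ φT c, h, RingHom.comp_apply, RingHom.comp_apply,
        hc₂, map_mul]
    · exact ⟨0, G.zero_mem, by simp⟩
    · rintro a b _ _ ⟨a', ha, ea⟩ ⟨b', hb, eb⟩
      exact ⟨a' + b', G.add_mem ha hb, by simp [ea, eb, add_mul]⟩
    · rintro c a _ ⟨a', ha, ea⟩
      exact ⟨c * a', G.mul_mem_left _ ha, by simp [ea, mul_assoc]⟩
  have hmul : ∀ y : M, ∀ w ∈ G, ∃ w' ∈ G, ι₁ w' = ι₁ w * y := by
    intro y
    have hy : y ∈ Subring.closure (Set.range ι₁ ∪ Set.range ι₂) := hgen ▸ Subring.mem_top y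
    induction hy using Subring.closure_induction with
    | mem y hy =>
      rcases hy with ⟨t, rfl⟩ | ⟨α, rfl⟩
      · exact fun w hw => ⟨w * t, G.mul_mem_right _ hw, map_mul ι₁ w t⟩
      · exact h2 α
    | zero => exact fun w hw => ⟨0, G.zero_mem, by simp⟩
    | one => exact fun w hw => ⟨w, hw, by simp⟩
    | add a b _ _ ha hb =>
      intro w hw
      obtain ⟨a', ha', ea⟩ := ha w hw
      obtain ⟨b', hb', eb⟩ := hb w hw
      exact ⟨a' + b', G.add_mem ha' hb', by simp [ea, eb, mul_add]⟩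
    | neg a _ ha =>
      intro w hw
      obtain ⟨a', ha', ea⟩ := ha w hw
      exact ⟨-a', G.neg_mem ha', by simp [ea]⟩
    | mul a b _ _ ha hb =>
      intro w hw
      obtain ⟨a', ha', ea⟩ := ha w hw
      obtain ⟨b', hb', eb⟩ := hb a' ha'
      exact ⟨b', hb', by rw [eb, ea, mul_assoc]⟩
  refine Submodule.span_induction (p := fun x _ => ∃ w ∈ G, ι₁ w = x) ?_ ?_ ?_ ?_ hx
  · rintro _ ⟨c, hc, rfl⟩
    exact ⟨φT c, Ideal.mem_map_of_mem _ hc, rfl⟩
  · exact ⟨0, G.zero_mem, map_zero _⟩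
  · rintro a b _ _ ⟨a', ha, rfl⟩ ⟨b', hb, rfl⟩
    exact ⟨a' + b', G.add_mem ha hb, map_add _ _ _⟩
  · rintro y a _ ⟨a', ha, rfl⟩
    obtain ⟨w', hw', e⟩ := hmul y a' ha
    exact ⟨w', hw', by rw [e, smul_eq_mul, mul_comm]⟩

theorem map_kerp_le {T : Type u} [CommRing T] (ι₁ : T →+* A₁') (φT : C →+* T)
    (h : ι₁.comp φT = m.σ.comp D.snd) :
    RingHom.ker D'.p ≤ (RingHom.ker D.fst).map (ι₁.comp φT) := by
  refine m.kerp.trans (Ideal.map_le_iff_le_comap.mpr fun π hπ => ?_)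
  obtain ⟨c, hc₁, hc₂⟩ := D.lift' 0 π (by rw [map_zero, RingHom.mem_ker.mp hπ])
  rw [Ideal.mem_comap, ← hc₂, ← RingHom.comp_apply, ← h]
  exact Ideal.mem_map_of_mem _ (RingHom.mem_ker.mpr hc₁)

theorem map_ker_fst_le : (RingHom.ker D.fst).map m.φ ≤ RingHom.ker D'.fst :=
  Ideal.map_le_iff_le_comap.mpr fun c hc => RingHom.mem_ker.mpr (by
    rw [← RingHom.comp_apply, m.wfst, RingHom.comp_apply, RingHom.mem_ker.mp hc, map_zero])

theorem ker_fst_le : RingHom.ker D'.fst ≤ (RingHom.ker D.fst).map m.φ := by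
  intro z hz
  have h1 : D'.snd z ∈ RingHom.ker D'.p := RingHom.mem_ker.mpr (by
    rw [← D'.w, RingHom.mem_ker.mp hz, map_zero])
  obtain ⟨w, hw, hw'⟩ := exists_preimage D'.snd m.σ m.φ m.wsnd m.closure_A₁'
    (m.map_kerp_le D'.snd m.φ m.wsnd h1)
  rwa [← D'.ext' w z ((RingHom.mem_ker.mp (m.map_ker_fst_le hw)).trans (RingHom.mem_ker.mp hz).symm) hw']

/-- The square formed by `φ`, `σ` and the second projections is cocartesian. -/
theorem exists_snd_desc {E : Type u} [CommRing E] (π : C' →+* E) (ψ : A' →+* E)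
    (h : π.comp m.φ = ψ.comp D.snd) : ∃ ξ : A₁' →+* E, ξ.comp D'.snd = π ∧ ξ.comp m.σ = ψ := by
  let M := Subring.closure (Set.range (D'.snd.prod π) ∪ Set.range (m.σ.prod ψ))
  let ι₁ : C' →+* M := (D'.snd.prod π).codRestrict M fun c => Subring.subset_closure (Or.inl ⟨c, rfl⟩)
  let ι₂ : A' →+* M := (m.σ.prod ψ).codRestrict M fun c => Subring.subset_closure (Or.inr ⟨c, rfl⟩)
  have hι : ι₁.comp m.φ = ι₂.comp D.snd := RingHom.ext fun c => Subtype.ext (Prod.ext
    (RingHom.congr_fun m.wsnd c) (RingHom.congr_fun h c))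
  have hgen : Subring.closure (Set.range ι₁ ∪ Set.range ι₂) = ⊤ := by
    rw [eq_top_iff]
    rintro ⟨x, hx⟩ -
    induction hx using Subring.closure_induction with
    | mem y hy =>
      rcases hy with ⟨c, rfl⟩ | ⟨c, rfl⟩
      · exact Subring.subset_closure (Or.inl ⟨c, rfl⟩)
      · exact Subring.subset_closure (Or.inr ⟨c, rfl⟩)
    | zero => exact zero_mem _
    | one => exact one_mem _
    | add a b _ _ ha hb => exact add_mem ha hb
    | neg a _ ha => exact neg_mem ha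
    | mul a b _ _ ha hb => exact mul_mem ha hb
  let fst₁ : M →+* A₁' := (RingHom.fst A₁' E).comp M.subtype
  have hsurj : Function.Surjective fst₁ := by
    rw [← RingHom.range_eq_top, eq_top_iff, ← m.closure_A₁', Subring.closure_le]
    rintro _ (⟨c, rfl⟩ | ⟨c, rfl⟩)
    · exact ⟨ι₁ c, rfl⟩
    · exact ⟨ι₂ c, rfl⟩
  let I : Ideal M := (RingHom.ker D.fst).map (ι₁.comp m.φ)
  have hu : RingHom.ker D'.fst ≤ RingHom.ker ((Ideal.Quotient.mk I).comp ι₁) := fun z hz => by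
    refine RingHom.mem_ker.mpr (Ideal.Quotient.eq_zero_iff_mem.mpr ?_)
    rw [show I = ((RingHom.ker D.fst).map m.φ).map ι₁ from (Ideal.map_map _ _).symm]
    exact Ideal.mem_map_of_mem _ (m.ker_fst_le hz)
  have hv : RingHom.ker D.p ≤ RingHom.ker ((Ideal.Quotient.mk I).comp ι₂) := fun π' hπ => by
    obtain ⟨c, hc₁, hc₂⟩ := D.lift' 0 π' (by rw [map_zero, RingHom.mem_ker.mp hπ])
    refine RingHom.mem_ker.mpr (Ideal.Quotient.eq_zero_iff_mem.mpr ?_)
    rw [← hc₂, ← RingHom.comp_apply, ← hι]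
    exact Ideal.mem_map_of_mem _ (RingHom.mem_ker.mpr hc₁)
  let uE : B' →+* M ⧸ I := (RingHom.liftOfSurjective D'.fst D'.fst_surjective) ⟨_, hu⟩
  let vE : A →+* M ⧸ I := (RingHom.liftOfSurjective D.p D.surj) ⟨_, hv⟩
  have euE : ∀ c, uE (D'.fst c) = Ideal.Quotient.mk I (ι₁ c) := fun c =>
    RingHom.liftOfSurjective_comp_apply _ _ _ c
  have evE : ∀ c, vE (D.p c) = Ideal.Quotient.mk I (ι₂ c) := fun c =>
    RingHom.liftOfSurjective_comp_apply _ _ _ c
  obtain ⟨ξ₂, hξ₁, hξ₂⟩ := m.univ uE vE (RingHom.ext fun b => by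
    obtain ⟨c, rfl⟩ := D.fst_surjective b
    rw [RingHom.comp_apply, RingHom.comp_apply, ← RingHom.comp_apply m.β, ← m.wfst, RingHom.comp_apply,
      euE, D.w, evE, ← RingHom.comp_apply ι₁, hι, RingHom.comp_apply])
  have hmk : (ξ₂.comp D'.p).comp fst₁ = Ideal.Quotient.mk I := by
    refine RingHom.eq_of_eqOn_set_dense hgen ?_
    rintro _ (⟨c, rfl⟩ | ⟨c, rfl⟩)
    · show ξ₂ (D'.p (D'.snd c)) = _
      rw [← D'.w, ← RingHom.comp_apply ξ₂, hξ₁, euE]
    · show ξ₂ (D'.p (m.σ c)) = _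
      rw [← RingHom.comp_apply D'.p, m.wp, RingHom.comp_apply, ← RingHom.comp_apply ξ₂, hξ₂, evE]
  have hinj : Function.Injective fst₁ := by
    rw [injective_iff_map_eq_zero]
    intro d hd
    have hdI : d ∈ I := Ideal.Quotient.eq_zero_iff_mem.mp (by
      rw [← hmk, RingHom.comp_apply, hd, map_zero])
    obtain ⟨w, hw, rfl⟩ := exists_preimage ι₁ ι₂ m.φ hι hgen hdI
    rw [D'.eq_zero w (RingHom.mem_ker.mp (m.map_ker_fst_le hw)) hd, map_zero]
  let e := RingEquiv.ofBijective fst₁ ⟨hinj, hsurj⟩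
  refine ⟨((RingHom.snd A₁' E).comp M.subtype).comp e.symm.toRingHom, RingHom.ext fun c => ?_,
    RingHom.ext fun c => ?_⟩
  · show ((e.symm (D'.snd c) : M) : A₁' × E).2 = π c
    rw [show e.symm (D'.snd c) = ι₁ c from e.symm_apply_eq.mpr rfl]
    rfl
  · show ((e.symm (m.σ c) : M) : A₁' × E).2 = ψ c
    rw [show e.symm (m.σ c) = ι₂ c from e.symm_apply_eq.mpr rfl]
    rfl

theorem snd_ext {E : Type u} [CommRing E] (ξ ξ' : A₁' →+* E) (h₁ : ξ.comp D'.snd = ξ'.comp D'.snd)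
    (h₂ : ξ.comp m.σ = ξ'.comp m.σ) : ξ = ξ' := by
  refine RingHom.eq_of_eqOn_set_dense m.closure_A₁' ?_
  rintro _ (⟨c, rfl⟩ | ⟨c, rfl⟩)
  · exact RingHom.congr_fun h₁ c
  · exact RingHom.congr_fun h₂ c

theorem exists_finset {x : A₁'} : ∃ s : Finset C', x ∈ Subring.closure (D'.snd '' ↑s ∪ Set.range m.σ) := by
  classical
  have hx : x ∈ Subring.closure (Set.range D'.snd ∪ Set.range m.σ) := m.closure_A₁' ▸ Subring.mem_top x
  induction hx using Subring.closure_induction with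
  | mem y hy =>
    rcases hy with ⟨c, rfl⟩ | h
    · exact ⟨{c}, Subring.subset_closure (Or.inl ⟨c, Finset.mem_singleton_self c, rfl⟩)⟩
    · exact ⟨∅, Subring.subset_closure (Or.inr h)⟩
  | zero => exact ⟨∅, zero_mem _⟩
  | one => exact ⟨∅, one_mem _⟩
  | add a b _ _ ha hb =>
    obtain ⟨s, hs⟩ := ha
    obtain ⟨t, ht⟩ := hb
    exact ⟨s ∪ t, add_mem (Subring.closure_mono (Set.union_subset_union_left _
      (Set.image_mono (Finset.coe_subset.mpr Finset.subset_union_left))) hs)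
      (Subring.closure_mono (Set.union_subset_union_left _
      (Set.image_mono (Finset.coe_subset.mpr Finset.subset_union_right))) ht)⟩
  | neg a _ ha =>
    obtain ⟨s, hs⟩ := ha
    exact ⟨s, neg_mem hs⟩
  | mul a b _ _ ha hb =>
    obtain ⟨s, hs⟩ := ha
    obtain ⟨t, ht⟩ := hb
    exact ⟨s ∪ t, mul_mem (Subring.closure_mono (Set.union_subset_union_left _
      (Set.image_mono (Finset.coe_subset.mpr Finset.subset_union_left))) hs)
      (Subring.closure_mono (Set.union_subset_union_left _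
      (Set.image_mono (Finset.coe_subset.mpr Finset.subset_union_right))) ht)⟩

theorem finiteType (hβ : m.β.FiniteType) (hσ : m.σ.FiniteType) : m.φ.FiniteType := by
  classical
  algebraize [m.φ, m.β, m.σ]
  obtain ⟨sB, hsB⟩ := (‹Algebra.FiniteType B B'›).out
  obtain ⟨sA, hsA⟩ := (‹Algebra.FiniteType A' A₁'›).out
  choose f hf using D'.fst_surjective
  choose g hg using fun x : A₁' => m.exists_finset (x := x)
  let s : Finset C' := sB.image f ∪ sA.biUnion g
  let T : Subalgebra C C' := Algebra.adjoin C (s : Set C')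
  let ι₁ : T →+* A₁' := D'.snd.comp T.val.toRingHom
  let φT : C →+* T := algebraMap C T
  have hι : ι₁.comp φT = m.σ.comp D.snd := m.wsnd
  have hgen : Subring.closure (Set.range ι₁ ∪ Set.range m.σ) = ⊤ := by
    rw [eq_top_iff]
    rintro x -
    have hx : x ∈ Algebra.adjoin A' (sA : Set A₁') := hsA ▸ Algebra.mem_top
    induction hx using Algebra.adjoin_induction with
    | mem y hy =>
      refine Subring.closure_mono (Set.union_subset_union_left _ ?_) (hg y)
      rintro _ ⟨c, hc, rfl⟩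
      exact ⟨⟨c, Algebra.subset_adjoin (Finset.mem_union_right _ (Finset.mem_biUnion.mpr ⟨y, hy, hc⟩))⟩, rfl⟩
    | algebraMap r => exact Subring.subset_closure (Or.inr ⟨r, rfl⟩)
    | add a b _ _ ha hb => exact add_mem ha hb
    | mul a b _ _ ha hb => exact mul_mem ha hb
  have hB : ∀ b : B', ∃ t ∈ T, D'.fst t = b := by
    intro b
    have hb : b ∈ Algebra.adjoin B (sB : Set B') := hsB ▸ Algebra.mem_top
    induction hb using Algebra.adjoin_induction with
    | mem y hy => exact ⟨f y, Algebra.subset_adjoin (Finset.mem_union_left _ (Finset.mem_image_of_mem f hy)), hf y⟩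
    | algebraMap r =>
      obtain ⟨c, rfl⟩ := D.fst_surjective r
      exact ⟨m.φ c, T.algebraMap_mem c, RingHom.congr_fun m.wfst c⟩
    | add a b _ _ ha hb =>
      obtain ⟨a', ha', ea⟩ := ha
      obtain ⟨b', hb', eb⟩ := hb
      exact ⟨a' + b', add_mem ha' hb', by rw [map_add, ea, eb]⟩
    | mul a b _ _ ha hb =>
      obtain ⟨a', ha', ea⟩ := ha
      obtain ⟨b', hb', eb⟩ := hb
      exact ⟨a' * b', mul_mem ha' hb', by rw [map_mul, ea, eb]⟩
  refine ⟨⟨s, eq_top_iff.mpr fun z _ => ?_⟩⟩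
  obtain ⟨t, ht, et⟩ := hB (D'.fst z)
  have h1 : D'.snd (z - t) ∈ RingHom.ker D'.p := RingHom.mem_ker.mpr (by
    rw [← D'.w, map_sub, et, sub_self, map_zero])
  obtain ⟨w, hw, hw'⟩ := exists_preimage ι₁ m.σ φT hι hgen (m.map_kerp_le ι₁ φT hι h1)
  have hw0 : D'.fst (w : C') = 0 := RingHom.mem_ker.mp (m.map_ker_fst_le (by
    have := Ideal.mem_map_of_mem T.val.toRingHom hw
    rw [Ideal.map_map] at this
    exact this))
  have : (w : C') = z - t := D'.ext' _ _ (by rw [hw0, map_sub, et, sub_self]) hw'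
  rw [← sub_add_cancel z t, ← this]
  exact add_mem w.2 ht

end CartMor

end Groth.Agent.FerrandPush
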