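import Groth.Agent.FerrandPush.Finite
import Groth.Agent.FerrandPush.MorAlg

/-!
# Morphisms between pushouts of closed immersions along integral morphisms
-/

set_option autoImplicit false
set_option linter.style.haveILetI false
set_option linter.unusedVariables false
universe u
open CategoryTheory CategoryTheory.Limits AlgebraicGeometry

namespace Groth.Agent.FerrandPush

theorem isPullback_fromSpec_W {X Y Z : Scheme.{u}} {i : Z ⟶ X} {j : Z ⟶ Y} [IsClosedImmersion i] (α : Chart i j) :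
    IsPullback (Spec.map (CommRingCat.ofHom α.cart.q)) α.hW.fromSpec α.hV.fromSpec j ∧
    IsPullback (Spec.map (CommRingCat.ofHom α.cart.p)) α.hW.fromSpec α.hU.fromSpec i := by
  constructor
  · refine IsOpenImmersion.isPullback _ _ _ _ Chart.specMap_q_fromSpec.symm ?_
    rw [α.hV.opensRange_fromSpec, α.hW.opensRange_fromSpec, α.W_eq]
  · refine IsOpenImmersion.isPullback _ _ _ _ Chart.specMap_p_fromSpec.symm ?_
    rw [α.hU.opensRange_fromSpec, α.hW.opensRange_fromSpec]

section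

variable {X Y Z P X' Y' Z' P' : Scheme.{u}} {i : Z ⟶ X} {j : Z ⟶ Y} [IsClosedImmersion i]
  [IsAffineHom j] {a : X ⟶ P} {b : Y ⟶ P} [IsAffineHom a] [IsAffineHom b] (hP : IsPushout i j a b)
  {f : X' ⟶ X} {g : Y' ⟶ Y} {i' : Z' ⟶ X'} {j' : Z' ⟶ Y'} [IsClosedImmersion i'] [IsAffineHom j']
  {c : Z' ⟶ Z} (hX : IsPullback i' c f i) (hY : IsPullback j' c g j)
  {a' : X' ⟶ P'} {b' : Y' ⟶ P'} [IsAffineHom a'] [IsAffineHom b'] (hP' : IsPushout i' j' a' b')
  {h : P' ⟶ P} (ha : a' ≫ h = f ≫ a) (hb : b' ≫ h = g ≫ b)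

include hP hX hY hP' ha hb

theorem exists_local (p : P') :
    ∃ (α : Chart i j) (ρ : α.obj ⟶ P) (α' : Chart i' j') (ρ' : α'.obj ⟶ P')
      (m : CartMor α.cart α'.cart),
      IsOpenImmersion ρ ∧ IsOpenImmersion ρ' ∧ p ∈ Set.range ρ' ∧
      IsPullback α.cart.iA' α.hU.fromSpec ρ a ∧ IsPullback α.cart.iB α.hV.fromSpec ρ b ∧
      IsPullback α'.cart.iA' α'.hU.fromSpec ρ' a' ∧ IsPullback α'.cart.iB α'.hV.fromSpec ρ' b' ∧
      Spec.map (CommRingCat.ofHom m.φ) ≫ ρ = ρ' ≫ h ∧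
      Spec.map (CommRingCat.ofHom m.β) ≫ α.hV.fromSpec = α'.hV.fromSpec ≫ g ∧
      Spec.map (CommRingCat.ofHom m.σ) ≫ α.hU.fromSpec = α'.hU.fromSpec ≫ f := by
  obtain ⟨W, hW, hpW, -⟩ := exists_isAffineOpen_mem_and_subset (U := ⊤)
    (show h p ∈ (⊤ : P.Opens) from trivial)
  obtain ⟨W', hW', hpW', hW'W⟩ := exists_isAffineOpen_mem_and_subset (U := h ⁻¹ᵁ W) hpW
  obtain ⟨α, ρ, hρo, hρW, hρA, hρB⟩ := exists_cart_of_affineOpen hP hW
  obtain ⟨α', ρ', hρ'o, hρ'W, hρ'A, hρ'B⟩ := exists_cart_of_affineOpen hP' hW'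
  have hlift : Set.range (ρ' ≫ h) ⊆ Set.range ρ := by
    rintro _ ⟨x, rfl⟩
    rw [hρW, Scheme.Hom.comp_apply]
    exact hW'W (hρ'W ▸ ⟨x, rfl⟩ : ρ' x ∈ (W' : Set P'))
  obtain ⟨φ, hφ'⟩ := Spec.map_surjective (IsOpenImmersion.lift ρ (ρ' ≫ h) hlift)
  have hφ : Spec.map φ ≫ ρ = ρ' ≫ h := by rw [hφ', IsOpenImmersion.lift_fac]
  obtain ⟨σ', hσ₁, hσ₂⟩ := hρA.exists_lift (α'.cart.iA' ≫ Spec.map φ) (α'.hU.fromSpec ≫ f) (by
    rw [Category.assoc, hφ, reassoc_of% hρ'A.w, ha, Category.assoc])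
  obtain ⟨σ, rfl⟩ := Spec.map_surjective σ'
  obtain ⟨β', hβ₁, hβ₂⟩ := hρB.exists_lift (α'.cart.iB ≫ Spec.map φ) (α'.hV.fromSpec ≫ g) (by
    rw [Category.assoc, hφ, reassoc_of% hρ'B.w, hb, Category.assoc])
  obtain ⟨β, rfl⟩ := Spec.map_surjective β'
  obtain ⟨hZq, hZp⟩ := isPullback_fromSpec_W α
  obtain ⟨hZq', hZp'⟩ := isPullback_fromSpec_W α'
  obtain ⟨τ', hτ₁, hτ₂⟩ := hZp.exists_lift (Spec.map (CommRingCat.ofHom α'.cart.p) ≫ Spec.map σ)
    (α'.hW.fromSpec ≫ c) (by
      rw [Category.assoc, hσ₂, reassoc_of% hZp'.w, hX.w, Category.assoc])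
  obtain ⟨τ, rfl⟩ := Spec.map_surjective τ'
  have wp : CommRingCat.ofHom α.cart.p ≫ τ = σ ≫ CommRingCat.ofHom α'.cart.p :=
    Spec.map_injective (by rw [Spec.map_comp, Spec.map_comp]; exact hτ₁)
  have wq : CommRingCat.ofHom α.cart.q ≫ τ = β ≫ CommRingCat.ofHom α'.cart.q := by
    apply Spec.map_injective
    rw [← cancel_mono α.hV.fromSpec, Spec.map_comp, Spec.map_comp, Category.assoc, hZq.w,
      reassoc_of% hτ₂, ← hY.w, Category.assoc, hβ₂, reassoc_of% hZq'.w]
  have wfst : CommRingCat.ofHom α.cart.fst ≫ β = φ ≫ CommRingCat.ofHom α'.cart.fst :=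
    Spec.map_injective (by rw [Spec.map_comp, Spec.map_comp]; exact hβ₁)
  have wsnd : CommRingCat.ofHom α.cart.snd ≫ σ = φ ≫ CommRingCat.ofHom α'.cart.snd :=
    Spec.map_injective (by rw [Spec.map_comp, Spec.map_comp]; exact hσ₁)
  let m : CartMor α.cart α'.cart :=
    { φ := φ.hom, β := β.hom, σ := σ.hom, τ := τ.hom
      wfst := congrArg CommRingCat.Hom.hom wfst.symm
      wsnd := congrArg CommRingCat.Hom.hom wsnd.symm
      wp := congrArg CommRingCat.Hom.hom wp.symm
      kerp := by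
        let I := (RingHom.ker α.cart.p).map σ.hom
        let π : _ →+* _ := Ideal.Quotient.mk I
        have hk : RingHom.ker α.cart.p ≤ RingHom.ker (π.comp σ.hom) := fun x hx =>
          RingHom.mem_ker.mpr (Ideal.Quotient.eq_zero_iff_mem.mpr (Ideal.mem_map_of_mem _ hx))
        let ψ : CommRingCat.of Γ(Z, α.W) ⟶ CommRingCat.of (_ ⧸ I) :=
          CommRingCat.ofHom ((RingHom.liftOfSurjective α.cart.p α.cart.surj) ⟨_, hk⟩)
        have hψ : CommRingCat.ofHom α.cart.p ≫ ψ = σ ≫ CommRingCat.ofHom π :=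
          CommRingCat.hom_ext (RingHom.liftOfSurjective_comp _ _ _)
        obtain ⟨l, hl₁, hl₂⟩ := hX.exists_lift (Spec.map (CommRingCat.ofHom π) ≫ α'.hU.fromSpec)
          (Spec.map ψ ≫ α.hW.fromSpec) (by
            rw [Category.assoc, Category.assoc, ← hσ₂, ← hZp.w, ← Category.assoc, ← Category.assoc,
              ← Spec.map_comp, ← Spec.map_comp, hψ])
        obtain ⟨ξ', hξ₁, -⟩ := hZp'.exists_lift (Spec.map (CommRingCat.ofHom π)) l hl₁.symm
        obtain ⟨ξ, rfl⟩ := Spec.map_surjective ξ'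
        have e2 : CommRingCat.ofHom α'.cart.p ≫ ξ = CommRingCat.ofHom π :=
          Spec.map_injective (by rw [Spec.map_comp]; exact hξ₁)
        intro x hx
        refine Ideal.Quotient.eq_zero_iff_mem.mp ?_
        have := ConcreteCategory.congr_hom e2 x
        simp only [CommRingCat.comp_apply, CommRingCat.ofHom_apply] at this
        exact this.symm.trans ((congrArg ξ.hom (RingHom.mem_ker.mp hx)).trans (map_zero _))
      univ := by
        intro E _ u v huv
        have h' : β ≫ CommRingCat.ofHom u = CommRingCat.ofHom α.cart.q ≫ CommRingCat.ofHom v :=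
          CommRingCat.hom_ext huv
        obtain ⟨l, hl₁, hl₂⟩ := hY.exists_lift (Spec.map (CommRingCat.ofHom u) ≫ α'.hV.fromSpec)
          (Spec.map (CommRingCat.ofHom v) ≫ α.hW.fromSpec) (by
            rw [Category.assoc, Category.assoc, ← hβ₂, ← hZq.w, ← Category.assoc, ← Category.assoc,
              ← Spec.map_comp, ← Spec.map_comp, h'])
        obtain ⟨ξ', hξ₁, hξ₂⟩ := hZq'.exists_lift (Spec.map (CommRingCat.ofHom u)) l hl₁.symm
        obtain ⟨ξ, rfl⟩ := Spec.map_surjective ξ'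
        have e1 : CommRingCat.ofHom α'.cart.q ≫ ξ = CommRingCat.ofHom u :=
          Spec.map_injective (by rw [Spec.map_comp]; exact hξ₁)
        have e2 : τ ≫ ξ = CommRingCat.ofHom v := by
          apply Spec.map_injective
          rw [← cancel_mono α.hW.fromSpec, Spec.map_comp, Category.assoc, hτ₂, reassoc_of% hξ₂, hl₂]
        exact ⟨ξ.hom, congrArg CommRingCat.Hom.hom e1, congrArg CommRingCat.Hom.hom e2⟩
      ext := by
        intro E _ ξ ξ' h₁ h₂
        have e1 : CommRingCat.ofHom α'.cart.q ≫ CommRingCat.ofHom ξ =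
            CommRingCat.ofHom α'.cart.q ≫ CommRingCat.ofHom ξ' := CommRingCat.hom_ext h₁
        have e2 : τ ≫ CommRingCat.ofHom ξ = τ ≫ CommRingCat.ofHom ξ' := CommRingCat.hom_ext h₂
        have : Spec.map (CommRingCat.ofHom ξ) = Spec.map (CommRingCat.ofHom ξ') := by
          rw [← cancel_mono α'.hW.fromSpec]
          apply hY.hom_ext
          · rw [Category.assoc, Category.assoc, ← hZq'.w, ← Category.assoc, ← Category.assoc,
              ← Spec.map_comp, ← Spec.map_comp, e1]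
          · rw [Category.assoc, Category.assoc, ← hτ₂, ← Category.assoc, ← Category.assoc,
              ← Spec.map_comp, ← Spec.map_comp, e2]
        exact congrArg CommRingCat.Hom.hom (Spec.map_injective this) }
  exact ⟨α, ρ, α', ρ', m, hρo, hρ'o, hρ'W ▸ hpW', hρA, hρB, hρ'A, hρ'B, hφ, hβ₂, hσ₂⟩

/-- The square comparing the non-closed legs is cartesian. -/
theorem isPullback_legA : IsPullback a' f h a := by
  choose α ρ α' ρ' m hρ hρ' hmem hA hB hA' hB' hφ hβ hσ using exists_local hP hX hY hP' ha hb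
  let 𝒰 : P'.OpenCover := Scheme.Cover.mkOfCovers P' (fun p => (α' p).obj) ρ' (fun p => ⟨p, hmem p⟩) hρ'
  refine Scheme.isPullback_of_openCover _ _ _ _ 𝒰 fun p => ?_
  have hsq : IsPullback (α' p).cart.iA' (Spec.map (CommRingCat.ofHom (m p).σ))
      (Spec.map (CommRingCat.ofHom (m p).φ)) (α p).cart.iA' := by
    refine isPullback_SpecMap_of_isPushout _ _ _ _ ⟨⟨CommRingCat.hom_ext (m p).wsnd⟩,
      ⟨PushoutCocone.isColimitAux' _ fun s => ?_⟩⟩
    let ξ := Classical.choose ((m p).exists_snd_desc s.inl.hom s.inr.hom (congrArg CommRingCat.Hom.hom s.condition))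
    have hξ := Classical.choose_spec ((m p).exists_snd_desc s.inl.hom s.inr.hom (congrArg CommRingCat.Hom.hom s.condition))
    refine ⟨CommRingCat.ofHom ξ, CommRingCat.hom_ext hξ.1, CommRingCat.hom_ext hξ.2, fun {l} h₁ h₂ => ?_⟩
    exact CommRingCat.hom_ext ((m p).snd_ext _ _
      ((congrArg CommRingCat.Hom.hom h₁).trans hξ.1.symm) ((congrArg CommRingCat.Hom.hom h₂).trans hξ.2.symm))
  have h2 : IsPullback (α' p).cart.iA' ((α' p).hU.fromSpec ≫ f) (ρ' p ≫ h) a := by
    have := hsq.paste_vert (hA p)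
    rwa [hσ p, hφ p] at this
  show IsPullback (pullback.snd a' (ρ' p)) (pullback.fst a' (ρ' p) ≫ f) (ρ' p ≫ h) a
  exact h2.of_iso (hA' p).flip.isoPullback (Iso.refl _) (Iso.refl _) (Iso.refl _)
    (by simp) (by rw [← Category.assoc, (hA' p).flip.isoPullback_hom_fst]; simp) (by simp) (by simp)

/-- The square comparing the closed legs is cartesian. -/
theorem isPullback_legB : IsPullback b' g h b := by
  choose α ρ α' ρ' m hρ hρ' hmem hA hB hA' hB' hφ hβ hσ using exists_local hP hX hY hP' ha hb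
  let 𝒰 : P'.OpenCover := Scheme.Cover.mkOfCovers P' (fun p => (α' p).obj) ρ' (fun p => ⟨p, hmem p⟩) hρ'
  refine Scheme.isPullback_of_openCover _ _ _ _ 𝒰 fun p => ?_
  have hsq : IsPullback (α' p).cart.iB (Spec.map (CommRingCat.ofHom (m p).β))
      (Spec.map (CommRingCat.ofHom (m p).φ)) (α p).cart.iB := by
    refine isPullback_SpecMap_of_isPushout _ _ _ _ ⟨⟨CommRingCat.hom_ext (m p).wfst⟩,
      ⟨PushoutCocone.isColimitAux' _ fun s => ?_⟩⟩
    have hk : RingHom.ker (α' p).cart.fst ≤ RingHom.ker s.inl.hom := by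
      refine (m p).ker_fst_le.trans (Ideal.map_le_iff_le_comap.mpr fun x hx => RingHom.mem_ker.mpr ?_)
      have := ConcreteCategory.congr_hom s.condition x
      simp only [CommRingCat.comp_apply, CommRingCat.ofHom_apply] at this
      exact this.trans ((congrArg s.inr.hom (RingHom.mem_ker.mp hx)).trans (map_zero _))
    let ξ := (RingHom.liftOfSurjective (α' p).cart.fst (α' p).cart.fst_surjective) ⟨s.inl.hom, hk⟩
    have hξ : ξ.comp (α' p).cart.fst = s.inl.hom := RingHom.liftOfSurjective_comp _ _ _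
    refine ⟨CommRingCat.ofHom ξ, CommRingCat.hom_ext hξ, CommRingCat.hom_ext ?_, fun {l} h₁ _ => ?_⟩
    · refine RingHom.ext fun y => ?_
      obtain ⟨x, rfl⟩ := (α p).cart.fst_surjective y
      show ξ ((m p).β ((α p).cart.fst x)) = _
      rw [← RingHom.comp_apply (m p).β, ← (m p).wfst, RingHom.comp_apply, ← RingHom.comp_apply ξ, hξ]
      exact ConcreteCategory.congr_hom s.condition x
    · refine CommRingCat.hom_ext (RingHom.ext fun y => ?_)
      obtain ⟨x, rfl⟩ := (α' p).cart.fst_surjective y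
      exact (ConcreteCategory.congr_hom h₁ x).trans (RingHom.congr_fun hξ x).symm
  have h2 : IsPullback (α' p).cart.iB ((α' p).hV.fromSpec ≫ g) (ρ' p ≫ h) b := by
    have := hsq.paste_vert (hB p)
    rwa [hβ p, hφ p] at this
  show IsPullback (pullback.snd b' (ρ' p)) (pullback.fst b' (ρ' p) ≫ g) (ρ' p ≫ h) b
  exact h2.of_iso (hB' p).flip.isoPullback (Iso.refl _) (Iso.refl _) (Iso.refl _)
    (by simp) (by rw [← Category.assoc, (hB' p).flip.isoPullback_hom_fst]; simp) (by simp) (by simp)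

/-- Finite type passes to the pushouts. -/
theorem locallyOfFiniteType_pushoutMap [LocallyOfFiniteType f] [LocallyOfFiniteType g] :
    LocallyOfFiniteType h := by
  choose α ρ α' ρ' m hρ hρ' hmem hA hB hA' hB' hφ hβ hσ using exists_local hP hX hY hP' ha hb
  let 𝒰 : P'.OpenCover := Scheme.Cover.mkOfCovers P' (fun p => (α' p).obj) ρ' (fun p => ⟨p, hmem p⟩) hρ'
  refine IsZariskiLocalAtSource.of_openCover 𝒰 fun p => ?_
  show LocallyOfFiniteType (ρ' p ≫ h)
  rw [← hφ p]
  have key : ∀ {E E' : CommRingCat.{u}} {M M' : Scheme.{u}} (x : E ⟶ E') (e : Spec E ⟶ M)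
      [IsOpenImmersion e] (e' : Spec E' ⟶ M') [IsOpenImmersion e'] (t : M' ⟶ M) [LocallyOfFiniteType t],
      Spec.map x ≫ e = e' ≫ t → x.hom.FiniteType := by
    intro E E' M M' x e _ e' _ t _ het
    haveI : LocallyOfFiniteType (Spec.map x ≫ e) := by rw [het]; infer_instance
    haveI : LocallyOfFiniteType (Spec.map x) := locallyOfFiniteType_of_comp _ e
    exact (HasRingHomProperty.Spec_iff (P := @LocallyOfFiniteType)).mp ‹_›
  haveI : LocallyOfFiniteType (Spec.map (CommRingCat.ofHom (m p).φ)) :=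
    (HasRingHomProperty.Spec_iff (P := @LocallyOfFiniteType)).mpr
      ((m p).finiteType (key _ _ _ g (hβ p)) (key _ _ _ f (hσ p)))
  haveI := hρ p
  infer_instance

end

end Groth.Agent.FerrandPush
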