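import Mathlib

/-!
# Algebra over a ring glued from two quotients

`R → B`, `R → A'` surjective with kernels meeting in zero, `S` an `R`-algebra.
-/

set_option autoImplicit false
set_option linter.style.haveILetI false
set_option linter.unusedVariables false
universe u
open scoped TensorProduct

namespace Groth.Agent.FerrandPush.TwoAlg

/-- `N ⊗ M → M'` is injective for an ideal `N` of the quotient `B` when `M' = B ⊗ M` is flat. -/
theorem eq_zero_of_lift_eq_zero {R B M M' : Type u} [CommRing R] [CommRing B] [Algebra R B]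
    [AddCommGroup M] [Module R M] [AddCommGroup M'] [Module R M'] [Module B M']
    [IsScalarTower R B M'] [Module.Flat B M'] (hB : Function.Surjective (algebraMap R B))
    (π : M →ₗ[R] M') (hπ : Function.Surjective π)
    (hker : LinearMap.ker π ≤ RingHom.ker (algebraMap R B) • (⊤ : Submodule R M))
    (N : Ideal B) (x : N ⊗[R] M)
    (hx : TensorProduct.lift (((LinearMap.lsmul B M').restrictScalars₁₂ R R).compl₁₂
      (N.subtype.restrictScalars R) π) x = 0) : x = 0 := by
  have hz : ∀ (n : N) (m : M), π m = 0 → n ⊗ₜ[R] m = 0 := by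
    intro n m hm
    refine Submodule.smul_induction_on (hker hm) (p := fun m => n ⊗ₜ[R] m = 0) ?_ ?_
    · intro r hr m' _
      rw [← TensorProduct.smul_tmul]
      have : r • n = 0 := Subtype.ext (by
        show r • (n : B) = 0
        rw [Algebra.smul_def, RingHom.mem_ker.mp hr, zero_mul])
      rw [this, TensorProduct.zero_tmul]
    · intro a b ha hb
      rw [TensorProduct.tmul_add, ha, hb, add_zero]
  choose s hs using hπ
  have heq : ∀ (n : N) (m m' : M), π m = π m' → n ⊗ₜ[R] m = n ⊗ₜ[R] m' := by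
    intro n m m' h
    rw [← sub_eq_zero, ← TensorProduct.tmul_sub]
    exact hz n _ (by rw [map_sub, h, sub_self])
  let f : N →+ M' →+ N ⊗[R] M :=
    AddMonoidHom.mk' (fun n => AddMonoidHom.mk' (fun m' => n ⊗ₜ[R] s m') (fun a b => by
      show n ⊗ₜ[R] s (a + b) = n ⊗ₜ[R] s a + n ⊗ₜ[R] s b
      rw [← TensorProduct.tmul_add]
      exact heq n _ _ (by rw [map_add, hs, hs, hs])))
      (fun a b => by ext m'; exact TensorProduct.add_tmul a b (s m'))
  let G : N ⊗[B] M' →+ N ⊗[R] M := TensorProduct.liftAddHom f (fun b n m' => by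
    obtain ⟨r, rfl⟩ := hB b
    show (algebraMap R B r • n) ⊗ₜ[R] s m' = n ⊗ₜ[R] s (algebraMap R B r • m')
    rw [algebraMap_smul, algebraMap_smul, TensorProduct.smul_tmul]
    exact heq n _ _ (by rw [map_smul, hs, hs]))
  let F : N ⊗[R] M →+ N ⊗[B] M' := TensorProduct.liftAddHom
    (AddMonoidHom.mk' (fun n => AddMonoidHom.mk' (fun m => n ⊗ₜ[B] π m) (fun a b => by
      show n ⊗ₜ[B] π (a + b) = n ⊗ₜ[B] π a + n ⊗ₜ[B] π b
      rw [map_add, TensorProduct.tmul_add]))
      (fun a b => by ext m; exact TensorProduct.add_tmul a b (π m)))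
    (fun r n m => by
      show (r • n) ⊗ₜ[B] π m = n ⊗ₜ[B] π (r • m)
      rw [map_smul, TensorProduct.smul_tmul])
  have hGF : ∀ y, G (F y) = y := fun y => by
    induction y using TensorProduct.induction_on with
    | zero => simp
    | tmul n m => exact heq n _ _ (hs _)
    | add a b ha hb => rw [map_add, map_add, ha, hb]
  let L : N ⊗[B] M' →ₗ[B] M' := TensorProduct.lift ((LinearMap.lsmul B M').comp N.subtype)
  have hL : Function.Injective L := by
    have h1 : L = (TensorProduct.lid B M').toLinearMap ∘ₗ N.subtype.rTensor M' :=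
      TensorProduct.ext' fun n m => by simp [L]
    rw [h1]
    exact (TensorProduct.lid B M').injective.comp
      (Module.Flat.rTensor_preserves_injective_linearMap _ Subtype.val_injective)
  have hLF : ∀ y, L (F y) = TensorProduct.lift (((LinearMap.lsmul B M').restrictScalars₁₂ R R).compl₁₂
      (N.subtype.restrictScalars R) π) y := fun y => by
    induction y using TensorProduct.induction_on with
    | zero => simp
    | tmul n m => rfl
    | add a b ha hb => rw [map_add, map_add, map_add, ha, hb]
  have h0 : F x = 0 := hL (by rw [hLF, hx, map_zero])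
  rw [← hGF x, h0, map_zero]

variable {R S B B' A A' : Type u} [CommRing R] [CommRing S] [CommRing B] [CommRing B'] [CommRing A]
  [CommRing A'] [Algebra R S] [Algebra R B] [Algebra R B'] [Algebra B B'] [IsScalarTower R B B']
  [Algebra R A] [Algebra R A'] [Algebra A A'] [IsScalarTower R A A']

/-- Flatness over a ring glued from two quotients. -/
theorem flat [Module.Flat B B'] [Module.Flat A A']
    (hB : Function.Surjective (algebraMap R B)) (hA : Function.Surjective (algebraMap R A))
    (hBA : ∀ r : R, algebraMap R B r = 0 → algebraMap R A r = 0 → r = 0)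
    (π : S →ₐ[R] B') (hπ : Function.Surjective π)
    (hkπ : RingHom.ker π.toRingHom ≤ (RingHom.ker (algebraMap R B)).map (algebraMap R S))
    (ρ : S →ₐ[R] A') (hρ : Function.Surjective ρ)
    (hkρ : RingHom.ker ρ.toRingHom ≤ (RingHom.ker (algebraMap R A)).map (algebraMap R S)) :
    Module.Flat R S := by
  have hk1 : ∀ {C C' : Type u} [CommRing C] [CommRing C'] [Algebra R C] [Algebra R C'] (σ : S →ₐ[R] C'),
      RingHom.ker σ.toRingHom ≤ (RingHom.ker (algebraMap R C)).map (algebraMap R S) →
      LinearMap.ker σ.toLinearMap ≤ RingHom.ker (algebraMap R C) • (⊤ : Submodule R S) := by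
    intro C C' _ _ _ _ σ h x hx
    rw [Ideal.smul_top_eq_map]
    exact h hx
  refine Module.Flat.iff_rTensor_injective'.mpr fun K => ?_
  rw [injective_iff_map_eq_zero]
  intro x hx
  have hx' : ∀ {C C' : Type u} [CommRing C] [CommRing C'] [Algebra R C] [Algebra R C'],
      TensorProduct.lift ((LinearMap.lsmul R S).comp K.subtype) x = 0 := by
    intro C C' _ _ _ _
    have h1 : TensorProduct.lift ((LinearMap.lsmul R S).comp K.subtype) =
        (TensorProduct.lid R S).toLinearMap ∘ₗ K.subtype.rTensor S :=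
      TensorProduct.ext' fun n m => by simp
    rw [h1, LinearMap.comp_apply, hx, map_zero]
  have hx₀ : TensorProduct.lift ((LinearMap.lsmul R S).comp K.subtype) x = 0 := hx' (C := R) (C' := R)
  -- push `x` to `B`
  let NB : Ideal B := K.map (algebraMap R B)
  let u : K →ₗ[R] NB :=
    { toFun := fun k => ⟨algebraMap R B k, Ideal.mem_map_of_mem _ k.2⟩
      map_add' := fun a b => Subtype.ext (by simp)
      map_smul' := fun r a => Subtype.ext (by simp [Algebra.smul_def]) }
  have hu : Function.Surjective u := fun n => by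
    obtain ⟨k, hk, hk'⟩ := (Ideal.mem_map_iff_of_surjective _ hB).mp n.2
    exact ⟨⟨k, hk⟩, Subtype.ext hk'⟩
  have h1 : u.rTensor S x = 0 := by
    refine eq_zero_of_lift_eq_zero hB π.toLinearMap hπ (hk1 π hkπ) NB _ ?_
    rw [← LinearMap.comp_apply]
    have : TensorProduct.lift (((LinearMap.lsmul B B').restrictScalars₁₂ R R).compl₁₂
        (NB.subtype.restrictScalars R) π.toLinearMap) ∘ₗ u.rTensor S =
        π.toLinearMap ∘ₗ TensorProduct.lift ((LinearMap.lsmul R S).comp K.subtype) :=
      TensorProduct.ext' fun k s => by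
        show algebraMap R B k • π s = π ((k : R) • s)
        rw [map_smul, algebraMap_smul]
    rw [this, LinearMap.comp_apply, hx₀, map_zero]
  obtain ⟨y, rfl⟩ := (rTensor_exact S (LinearMap.exact_subtype_ker_map u) hu x).mp h1
  -- push `y` to `A`
  let NA : Ideal A := (K ⊓ RingHom.ker (algebraMap R B)).map (algebraMap R A)
  have hmem : ∀ k : LinearMap.ker u, ((k : K) : R) ∈ K ⊓ RingHom.ker (algebraMap R B) :=
    fun k => ⟨k.1.2, congrArg Subtype.val (LinearMap.mem_ker.mp k.2)⟩
  let v : LinearMap.ker u →ₗ[R] NA :=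
    { toFun := fun k => ⟨algebraMap R A ((k : K) : R), Ideal.mem_map_of_mem _ (hmem k)⟩
      map_add' := fun a b => Subtype.ext (by simp)
      map_smul' := fun r a => Subtype.ext (by simp [Algebra.smul_def]) }
  have hv : Function.Bijective v := by
    refine ⟨(injective_iff_map_eq_zero v).mpr fun k hk => ?_, fun n => ?_⟩
    · exact Subtype.ext (Subtype.ext (hBA _ (hmem k).2 (congrArg Subtype.val hk)))
    · obtain ⟨r, hr, hr'⟩ := (Ideal.mem_map_iff_of_surjective _ hA).mp n.2
      exact ⟨⟨⟨r, hr.1⟩, Subtype.ext hr.2⟩, Subtype.ext hr'⟩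
  have h2 : v.rTensor S y = 0 := by
    refine eq_zero_of_lift_eq_zero hA ρ.toLinearMap hρ (hk1 ρ hkρ) NA _ ?_
    rw [← LinearMap.comp_apply]
    have : TensorProduct.lift (((LinearMap.lsmul A A').restrictScalars₁₂ R R).compl₁₂
        (NA.subtype.restrictScalars R) ρ.toLinearMap) ∘ₗ v.rTensor S =
        (ρ.toLinearMap ∘ₗ TensorProduct.lift ((LinearMap.lsmul R S).comp K.subtype)) ∘ₗ
          (LinearMap.ker u).subtype.rTensor S :=
      TensorProduct.ext' fun k s => by
        show algebraMap R A ((k : K) : R) • ρ s = ρ (((k : K) : R) • s)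
        rw [map_smul, algebraMap_smul]
    rw [this, LinearMap.comp_apply, LinearMap.comp_apply, hx₀, map_zero]
  have h3 : y = 0 := by
    let e := LinearEquiv.ofBijective v hv
    apply (e.rTensor S).injective
    rw [map_zero]
    exact h2
  rw [h3, map_zero]

/-- Finite type over a ring glued from two quotients. -/
theorem finiteType [Algebra.FiniteType B B'] [Algebra.FiniteType A A']
    (hB : Function.Surjective (algebraMap R B)) (hA : Function.Surjective (algebraMap R A))
    (hBA : ∀ r : R, algebraMap R B r = 0 → algebraMap R A r = 0 → r = 0)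
    (π : S →ₐ[R] B') (hπ : Function.Surjective π)
    (hkπ : RingHom.ker π.toRingHom ≤ (RingHom.ker (algebraMap R B)).map (algebraMap R S))
    (ρ : S →ₐ[R] A') (hρ : Function.Surjective ρ)
    (hkρ : RingHom.ker ρ.toRingHom ≤ (RingHom.ker (algebraMap R A)).map (algebraMap R S)) :
    Algebra.FiniteType R S := by
  haveI : Algebra.FiniteType R B := Algebra.FiniteType.of_surjective (Algebra.ofId R B) hB
  haveI : Algebra.FiniteType R A := Algebra.FiniteType.of_surjective (Algebra.ofId R A) hA
  obtain ⟨s, hs⟩ := (Algebra.FiniteType.trans (R := R) (S := B) (A := B') ‹_› ‹_›).out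
  obtain ⟨t, ht⟩ := (Algebra.FiniteType.trans (R := R) (S := A) (A := A') ‹_› ‹_›).out
  choose f hf using hπ
  choose g hg using hρ
  let T : Subalgebra R S := Algebra.adjoin R (f '' (s : Set B') ∪ g '' (t : Set A'))
  have hTfg : T.FG := Subalgebra.fg_def.mpr
    ⟨_, ((s.finite_toSet.image f).union (t.finite_toSet.image g)), rfl⟩
  have hTπ : T.map π = ⊤ := by
    rw [eq_top_iff, ← hs, AlgHom.map_adjoin]
    exact Algebra.adjoin_mono fun b hb => ⟨f b, Or.inl ⟨b, hb, rfl⟩, hf b⟩
  have hTρ : T.map ρ = ⊤ := by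
    rw [eq_top_iff, ← ht, AlgHom.map_adjoin]
    exact Algebra.adjoin_mono fun b hb => ⟨g b, Or.inr ⟨b, hb, rfl⟩, hg b⟩
  have hTtop : T = ⊤ := by
    refine eq_top_iff.mpr fun z _ => ?_
    obtain ⟨z₁, hz₁, hz₂⟩ := (hTπ ▸ Algebra.mem_top : π z ∈ T.map π)
    have hd : z - z₁ ∈ (RingHom.ker (algebraMap R B)).map (algebraMap R S) :=
      hkπ (RingHom.mem_ker.mpr (show π (z - z₁) = 0 by rw [map_sub]; exact sub_eq_zero.mpr hz₂.symm))
    rw [← sub_add_cancel z z₁]
    refine add_mem ?_ hz₁
    have := Submodule.span_induction (p := fun w _ => ∀ z' : S, z' * w ∈ T) ?_ ?_ ?_ ?_ hd 1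
    · rwa [one_mul] at this
    · rintro _ ⟨r, hr, rfl⟩ z'
      obtain ⟨w, hw₁, hw₂⟩ := (hTρ ▸ Algebra.mem_top : ρ z' ∈ T.map ρ)
      have h0 : algebraMap R S r * (z' - w) = 0 := by
        have h1 : z' - w ∈ (RingHom.ker (algebraMap R A)).map (algebraMap R S) :=
          hkρ (RingHom.mem_ker.mpr (show ρ (z' - w) = 0 by rw [map_sub]; exact sub_eq_zero.mpr hw₂.symm))
        have h2 : algebraMap R S r * (z' - w) ∈ (Ideal.span {r}).map (algebraMap R S) *
            (RingHom.ker (algebraMap R A)).map (algebraMap R S) :=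
          Ideal.mul_mem_mul (Ideal.mem_map_of_mem _ (Ideal.mem_span_singleton_self r)) h1
        rw [← Ideal.map_mul] at h2
        have h3 : Ideal.span {r} * RingHom.ker (algebraMap R A) = ⊥ :=
          le_bot_iff.mp (Ideal.mul_le.mpr fun a ha b hb => by
            obtain ⟨c, rfl⟩ := Ideal.mem_span_singleton'.mp ha
            refine Submodule.mem_bot (R := R) |>.mpr (hBA _ ?_ ?_)
            · rw [map_mul, map_mul, RingHom.mem_ker.mp hr, mul_zero, zero_mul]
            · rw [map_mul, RingHom.mem_ker.mp hb, mul_zero])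
        rwa [h3, Ideal.map_bot, Submodule.mem_bot] at h2
      rw [mul_sub, sub_eq_zero] at h0
      rw [mul_comm, h0]
      exact mul_mem (T.algebraMap_mem r) hw₁
    · intro z'; rw [mul_zero]; exact zero_mem T
    · intro a b _ _ ha hb z'; rw [mul_add]; exact add_mem (ha z') (hb z')
    · intro c a _ ha z'; rw [smul_eq_mul, ← mul_assoc]; exact ha (z' * c)
  exact ⟨hTtop ▸ hTfg⟩

/-- Finite presentation over a ring glued from two quotients. -/
theorem finitePresentation [Module.Flat R S]
    [Algebra.FinitePresentation B B'] [Algebra.FinitePresentation A A']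
    (hB : Function.Surjective (algebraMap R B)) (hA : Function.Surjective (algebraMap R A))
    (hBA : ∀ r : R, algebraMap R B r = 0 → algebraMap R A r = 0 → r = 0)
    (π : S →ₐ[R] B') (hπ : Function.Surjective π)
    (hkπ : RingHom.ker π.toRingHom ≤ (RingHom.ker (algebraMap R B)).map (algebraMap R S))
    (ρ : S →ₐ[R] A') (hρ : Function.Surjective ρ)
    (hkρ : RingHom.ker ρ.toRingHom ≤ (RingHom.ker (algebraMap R A)).map (algebraMap R S)) :
    Algebra.FinitePresentation R S := by
  haveI := finiteType hB hA hBA π hπ hkπ ρ hρ hkρ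
  obtain ⟨n, φ, hφ⟩ := Algebra.FiniteType.iff_quotient_mvPolynomial''.mp ‹Algebra.FiniteType R S›
  let Kr : Ideal (MvPolynomial (Fin n) R) := RingHom.ker φ.toRingHom
  -- finitely many relations modulo each of the two kernels
  have approx : ∀ {C C' : Type u} [CommRing C] [CommRing C'] [Algebra R C] [Algebra R C'] [Algebra C C']
      [IsScalarTower R C C'] [Algebra.FinitePresentation C C'] (σ : S →ₐ[R] C'),
      Function.Surjective σ → Function.Surjective (algebraMap R C) →
      RingHom.ker σ.toRingHom ≤ (RingHom.ker (algebraMap R C)).map (algebraMap R S) →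
      ∃ s : Ideal (MvPolynomial (Fin n) R), s.FG ∧ s ≤ Kr ∧
        Kr ≤ s ⊔ (RingHom.ker (algebraMap R C)).map (algebraMap R _) := by
    intro C C' _ _ _ _ _ _ _ σ hσ hC hkσ
    let m : MvPolynomial (Fin n) R →+* MvPolynomial (Fin n) C := MvPolynomial.map (algebraMap R C)
    have hm : Function.Surjective m := MvPolynomial.map_surjective _ hC
    let φC : MvPolynomial (Fin n) C →ₐ[C] C' := MvPolynomial.aeval fun i => σ (φ (MvPolynomial.X i))
    have hcomp : ∀ p, φC (m p) = σ (φ p) := fun p => by
      show MvPolynomial.aeval _ (MvPolynomial.map (algebraMap R C) p) = _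
      rw [MvPolynomial.aeval_map_algebraMap]
      exact DFunLike.congr_fun (MvPolynomial.algHom_ext (f := MvPolynomial.aeval fun i => σ (φ (MvPolynomial.X i)))
        (g := σ.comp φ) fun i => by simp) p
    have hφC : Function.Surjective φC := fun c => by
      obtain ⟨s, rfl⟩ := hσ c
      obtain ⟨p, rfl⟩ := hφ s
      exact ⟨m p, hcomp p⟩
    obtain ⟨T, hT⟩ := Algebra.FinitePresentation.ker_fG_of_surjective φC hφC
    have hkm : RingHom.ker m = (RingHom.ker (algebraMap R C)).map MvPolynomial.C := MvPolynomial.ker_map _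
    have key : ∀ t ∈ RingHom.ker φC.toRingHom, ∃ p ∈ Kr, m p = t := by
      intro t ht
      obtain ⟨p, rfl⟩ := hm t
      have h1 : φ p ∈ (RingHom.ker (algebraMap R C)).map (algebraMap R S) :=
        hkσ (RingHom.mem_ker.mpr ((hcomp p).symm.trans ht))
      rw [← φ.comp_algebraMap, ← Ideal.map_map] at h1
      obtain ⟨q, hq, hq'⟩ := (Ideal.mem_map_iff_of_surjective φ.toRingHom hφ).mp h1
      refine ⟨p - q, RingHom.mem_ker.mpr (show φ (p - q) = 0 by rw [map_sub]; exact sub_eq_zero.mpr hq'.symm), ?_⟩
      have : q ∈ RingHom.ker m := by rw [hkm]; exact hq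
      rw [map_sub, RingHom.mem_ker.mp this, sub_zero]
    choose! l hl₁ hl₂ using key
    have hTk : ∀ t ∈ T, t ∈ RingHom.ker φC.toRingHom := fun t ht => hT ▸ Ideal.subset_span ht
    refine ⟨Ideal.span (l '' T), Submodule.fg_def.mpr ⟨_, T.finite_toSet.image l, rfl⟩,
      Ideal.span_le.mpr (by rintro _ ⟨t, ht, rfl⟩; exact hl₁ t (hTk t ht)), fun p hp => ?_⟩
    have h1 : m p ∈ (Ideal.span (l '' T)).map m := by
      have : m p ∈ RingHom.ker φC.toRingHom :=
        RingHom.mem_ker.mpr ((hcomp p).trans ((congrArg σ hp).trans (map_zero σ)))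
      rw [← hT] at this
      refine Ideal.span_le.mpr (fun t ht => ?_) this
      rw [← hl₂ t (hTk t ht)]
      exact Ideal.mem_map_of_mem _ (Ideal.subset_span ⟨t, ht, rfl⟩)
    obtain ⟨q, hq, hq'⟩ := (Ideal.mem_map_iff_of_surjective m hm).mp h1
    rw [← sub_add_cancel p q, sup_comm]
    refine Submodule.add_mem_sup ?_ hq
    have : p - q ∈ RingHom.ker m := RingHom.mem_ker.mpr (by rw [map_sub, hq', sub_self])
    rw [hkm] at this
    exact this
  obtain ⟨s, hsfg, hsK, hs⟩ := approx π hπ hB hkπ
  obtain ⟨t, htfg, htK, ht⟩ := approx ρ hρ hA hkρ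
  refine Algebra.FinitePresentation.of_surjective hφ ?_
  suffices h : Kr = s ⊔ t by
    show Kr.FG
    rw [h]; exact Submodule.FG.sup hsfg htfg
  refine le_antisymm (fun z hz => ?_) (sup_le hsK htK)
  obtain ⟨a, ha, w, hw, rfl⟩ := Submodule.mem_sup.mp (hs hz)
  refine add_mem (Submodule.mem_sup_left ha) (Submodule.mem_sup_right ?_)
  have hwK : φ w = 0 := by
    have h1 : φ (a + w) = 0 := hz
    rwa [map_add, show φ a = 0 from hsK ha, zero_add] at h1
  -- flatness: a relation with coefficients in the first kernel lies in its product with the relations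
  let IB := (RingHom.ker (algebraMap R B)).map (algebraMap R (MvPolynomial (Fin n) R))
  have hIK : w ∈ IB * Kr := by
    change w ∈ IB at hw
    obtain ⟨k, p, g, hg⟩ := Submodule.mem_span_set'.mp hw
    choose i hi hip using fun a => (g a).2
    have hsum : w = ∑ a, i a • p a := by
      rw [← hg]
      exact Finset.sum_congr rfl fun a _ => by rw [← hip a, smul_eq_mul, Algebra.smul_def, mul_comm]
    have hrel : ∑ a, i a • φ (p a) = 0 := by
      rw [← hwK, hsum, map_sum]
      exact Finset.sum_congr rfl fun a _ => (map_smul φ _ _).symm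
    obtain ⟨r, cf, y, hy₁, hy₂⟩ := Module.Flat.isTrivialRelation_of_sum_smul_eq_zero (R := R) (M := S) (f := i) (x := fun a => φ (p a)) hrel
    choose q hq using fun j => hφ (y j)
    have hκ : ∀ a, p a - ∑ j, cf a j • q j ∈ Kr := fun a => RingHom.mem_ker.mpr (by
      show φ (p a - ∑ j, cf a j • q j) = 0
      rw [map_sub, map_sum, sub_eq_zero, show φ (p a) = _ from hy₁ a]
      exact Finset.sum_congr rfl fun j _ => by rw [map_smul, hq])
    have hw2 : w = ∑ a, algebraMap R _ (i a) * (p a - ∑ j, cf a j • q j) := by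
      simp only [mul_sub, ← Algebra.smul_def, Finset.sum_sub_distrib, Finset.smul_sum, smul_smul]
      rw [← hsum, Finset.sum_comm]
      simp only [← Finset.sum_smul, hy₂, zero_smul, Finset.sum_const_zero, sub_zero]
    rw [hw2]
    exact sum_mem fun a _ => Ideal.mul_mem_mul
      (Ideal.mem_map_of_mem _ (hi a)) (hκ a)
  have h0 : IB * (RingHom.ker (algebraMap R A)).map (algebraMap R (MvPolynomial (Fin n) R)) = ⊥ := by
    rw [← Ideal.map_mul, show RingHom.ker (algebraMap R B) * RingHom.ker (algebraMap R A) = ⊥ from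
      le_bot_iff.mp (Ideal.mul_le.mpr fun a ha b hb => by
        refine Submodule.mem_bot (R := R) |>.mpr (hBA _ ?_ ?_)
        · rw [map_mul, RingHom.mem_ker.mp ha, zero_mul]
        · rw [map_mul, RingHom.mem_ker.mp hb, mul_zero]), Ideal.map_bot]
  have h1 : IB * Kr ≤ t := by
    refine le_trans (Ideal.mul_mono_right ht) ?_
    rw [Ideal.mul_sup, h0, sup_bot_eq]
    exact Ideal.mul_le_right
  exact h1 hIK

end Groth.Agent.FerrandPush.TwoAlg
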