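import Mathlib

/-!
# Milnor squares of rings and their localizations
-/

set_option autoImplicit false
set_option linter.style.haveILetI false
universe u

namespace Groth.Agent.FerrandPush

/-- A cartesian square of rings with `p` surjective. -/
structure Cart (C B A' A : Type u) [CommRing C] [CommRing B] [CommRing A'] [CommRing A] where
  fst : C →+* B
  snd : C →+* A'
  p : A' →+* A
  q : B →+* A
  surj : Function.Surjective p
  w : ∀ c, q (fst c) = p (snd c)
  ext' : ∀ x y, fst x = fst y → snd x = snd y → x = y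
  lift' : ∀ b a, q b = p a → ∃ c, fst c = b ∧ snd c = a

namespace Cart

variable {C B A' A : Type u} [CommRing C] [CommRing B] [CommRing A'] [CommRing A]
  (D : Cart C B A' A)

theorem fst_surjective : Function.Surjective D.fst := fun b => by
  obtain ⟨a, ha⟩ := D.surj (D.q b)
  obtain ⟨c, hc, -⟩ := D.lift' b a ha.symm
  exact ⟨c, hc⟩

theorem eq_zero (x : C) (h₁ : D.fst x = 0) (h₂ : D.snd x = 0) : x = 0 :=
  D.ext' _ _ (h₁.trans (map_zero _).symm) (h₂.trans (map_zero _).symm)

/-- Lift of a compatible pair of ring maps. -/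
theorem exists_hom {R : Type u} [CommRing R] (β : R →+* B) (α : R →+* A')
    (h : ∀ r, D.q (β r) = D.p (α r)) : ∃ γ : R →+* C, D.fst.comp γ = β ∧ D.snd.comp γ = α := by
  choose g h₁ h₂ using fun r => D.lift' _ _ (h r)
  refine ⟨{ toFun := g, map_one' := ?_, map_mul' := fun x y => ?_, map_zero' := ?_,
            map_add' := fun x y => ?_ }, RingHom.ext h₁, RingHom.ext h₂⟩ <;>
    (apply D.ext' <;> simp [h₁, h₂])

theorem hom_ext {R : Type u} [CommRing R] {γ γ' : R →+* C} (h₁ : D.fst.comp γ = D.fst.comp γ')
    (h₂ : D.snd.comp γ = D.snd.comp γ') : γ = γ' :=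
  RingHom.ext fun r => D.ext' _ _ (RingHom.congr_fun h₁ r) (RingHom.congr_fun h₂ r)

section Away

theorem awayMap_algebraMap {R S : Type u} [CommRing R] [CommRing S] (f : R →+* S) (r x : R) :
    Localization.awayMap f r (algebraMap R (Localization.Away r) x) =
      algebraMap S (Localization.Away (f r)) (f x) := by
  simp [Localization.awayMap, IsLocalization.Away.map, IsLocalization.map_eq]

variable (c : C)

/-- The localized map `B_{fst c} → A_{p (snd c)}`. -/
noncomputable def awayQ : Localization.Away (D.fst c) →+* Localization.Away (D.p (D.snd c)) :=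
  IsLocalization.Away.lift (D.fst c) (g := (algebraMap A (Localization.Away (D.p (D.snd c)))).comp D.q)
    (by
      simp only [RingHom.comp_apply, D.w]
      exact IsLocalization.Away.algebraMap_isUnit _)

theorem awayQ_algebraMap (b : B) :
    D.awayQ c (algebraMap _ _ b) = algebraMap A (Localization.Away (D.p (D.snd c))) (D.q b) :=
  IsLocalization.Away.lift_eq _ _ b

theorem awayQ_mk_eq (x : Localization.Away (D.fst c)) (n : ℕ) (b : B)
    (hx : x * algebraMap B _ (D.fst c ^ n) = algebraMap B _ b) :
    D.awayQ c x * algebraMap A _ (D.p (D.snd c) ^ n) = algebraMap A _ (D.q b) := by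
  have := congrArg (D.awayQ c) hx
  rw [map_mul, awayQ_algebraMap, awayQ_algebraMap, map_pow D.q, D.w] at this
  exact this

/-- Localization of a Milnor square at an element. -/
noncomputable def away : Cart (Localization.Away c) (Localization.Away (D.fst c))
    (Localization.Away (D.snd c)) (Localization.Away (D.p (D.snd c))) where
  fst := Localization.awayMap D.fst c
  snd := Localization.awayMap D.snd c
  p := Localization.awayMap D.p (D.snd c)
  q := D.awayQ c
  surj := fun z => by
    obtain ⟨n, a, ha⟩ := IsLocalization.Away.surj (D.p (D.snd c)) z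
    obtain ⟨a', rfl⟩ := D.surj a
    refine ⟨IsLocalization.mk' _ a' (⟨D.snd c ^ n, n, rfl⟩ : Submonoid.powers (D.snd c)), ?_⟩
    have h0 := congrArg (Localization.awayMap D.p (D.snd c))
      (IsLocalization.mk'_spec (Localization.Away (D.snd c)) a'
        (⟨D.snd c ^ n, n, rfl⟩ : Submonoid.powers (D.snd c)))
    simp only [map_mul, awayMap_algebraMap] at h0
    have hu : IsUnit (algebraMap A (Localization.Away (D.p (D.snd c))) (D.p (D.snd c) ^ n)) := by
      rw [map_pow]; exact (IsLocalization.Away.algebraMap_isUnit _).pow n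
    refine hu.mul_right_cancel ?_
    rw [map_pow D.p] at h0
    rw [map_pow (algebraMap _ _)]
    rw [map_pow] at h0
    exact h0.trans ha.symm
  w := by
    intro x
    have : (D.awayQ c).comp (Localization.awayMap D.fst c) =
        (Localization.awayMap D.p (D.snd c)).comp (Localization.awayMap D.snd c) := by
      refine IsLocalization.ringHom_ext (Submonoid.powers c) (RingHom.ext fun y => ?_)
      simp [Localization.awayMap, IsLocalization.Away.map, IsLocalization.map_eq, awayQ_algebraMap, D.w]
    exact RingHom.congr_fun this x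
  ext' := by
    intro x y h₁ h₂
    obtain ⟨n, a, ha⟩ := IsLocalization.Away.surj c (x - y)
    have e₁ : algebraMap B (Localization.Away (D.fst c)) (D.fst a) = 0 := by
      have := congrArg (Localization.awayMap D.fst c) ha
      rw [map_mul, map_sub, h₁, sub_self, zero_mul] at this
      rw [awayMap_algebraMap] at this
      exact this.symm
    have e₂ : algebraMap A' (Localization.Away (D.snd c)) (D.snd a) = 0 := by
      have := congrArg (Localization.awayMap D.snd c) ha
      rw [map_mul, map_sub, h₂, sub_self, zero_mul] at this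
      rw [awayMap_algebraMap] at this
      exact this.symm
    obtain ⟨⟨_, m₁, rfl⟩, hm₁⟩ := (IsLocalization.map_eq_zero_iff (Submonoid.powers (D.fst c)) _ _).mp e₁
    obtain ⟨⟨_, m₂, rfl⟩, hm₂⟩ := (IsLocalization.map_eq_zero_iff (Submonoid.powers (D.snd c)) _ _).mp e₂
    have h0 : c ^ (m₁ + m₂) * a = 0 := by
      refine D.eq_zero _ ?_ ?_
      · simp only [map_mul, map_pow, pow_add] at hm₁ ⊢
        linear_combination (D.fst c ^ m₂) * hm₁
      · simp only [map_mul, map_pow, pow_add] at hm₂ ⊢
        linear_combination (D.snd c ^ m₁) * hm₂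
    have h3 := congrArg (algebraMap C (Localization.Away c)) h0
    rw [map_mul, map_zero, map_pow, ← ha] at h3
    rw [← sub_eq_zero]
    have hu := IsLocalization.Away.algebraMap_isUnit (S := Localization.Away c) c
    exact (hu.pow n).mul_left_eq_zero.mp ((hu.pow (m₁ + m₂)).mul_right_eq_zero.mp h3)
  lift' := by
    intro x y h
    obtain ⟨n, b, hb⟩ := IsLocalization.Away.surj (D.fst c) x
    obtain ⟨m, a, ha⟩ := IsLocalization.Away.surj (D.snd c) y
    have e₁ := D.awayQ_mk_eq c x n b (by rw [map_pow]; exact hb)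
    have e₂ := congrArg (Localization.awayMap D.p (D.snd c)) ha
    simp only [map_mul, map_pow, awayMap_algebraMap] at e₂
    rw [map_pow] at e₁
    have e₃ : algebraMap A (Localization.Away (D.p (D.snd c))) (D.q b * D.p (D.snd c) ^ m) =
        algebraMap A (Localization.Away (D.p (D.snd c))) (D.p a * D.p (D.snd c) ^ n) := by
      simp only [map_mul, map_pow]
      rw [← e₁, ← e₂, h]
      simp only [Localization.awayMap, IsLocalization.Away.map]
      ring
    obtain ⟨⟨_, k, rfl⟩, hk⟩ := (IsLocalization.eq_iff_exists (Submonoid.powers (D.p (D.snd c))) _).mp e₃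
    obtain ⟨d, hd₁, hd₂⟩ := D.lift' (D.fst c ^ (k + m) * b) (D.snd c ^ (k + n) * a) (by
      simp only [map_mul, map_pow, D.w, pow_add] at hk ⊢
      linear_combination hk)
    refine ⟨IsLocalization.mk' _ d (⟨c ^ (k + m + n), k + m + n, rfl⟩ : Submonoid.powers c), ?_, ?_⟩
    · simp only [Localization.awayMap, IsLocalization.Away.map, IsLocalization.map_mk']
      rw [IsLocalization.mk'_eq_iff_eq_mul]
      simp only [hd₁, map_mul, map_pow]
      rw [← hb]
      ring
    · simp only [Localization.awayMap, IsLocalization.Away.map, IsLocalization.map_mk']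
      rw [IsLocalization.mk'_eq_iff_eq_mul]
      simp only [hd₂, map_mul, map_pow]
      rw [← ha]
      ring

theorem away_fst_algebraMap (x : C) :
    (D.away c).fst (algebraMap _ _ x) = algebraMap B (Localization.Away (D.fst c)) (D.fst x) := by
  exact awayMap_algebraMap _ _ _

theorem away_snd_algebraMap (x : C) :
    (D.away c).snd (algebraMap _ _ x) = algebraMap A' (Localization.Away (D.snd c)) (D.snd x) := by
  exact awayMap_algebraMap _ _ _

theorem away_p_algebraMap (x : A') :
    (D.away c).p (algebraMap _ _ x) = algebraMap A (Localization.Away (D.p (D.snd c))) (D.p x) := by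
  exact awayMap_algebraMap _ _ _

theorem away_q_algebraMap (x : B) :
    (D.away c).q (algebraMap _ _ x) = algebraMap A (Localization.Away (D.p (D.snd c))) (D.q x) :=
  D.awayQ_algebraMap c x

end Away

/-- Jointly surjective on primes. -/
theorem exists_prime (P : PrimeSpectrum C) :
    (∃ y : PrimeSpectrum B, PrimeSpectrum.comap D.fst y = P) ∨
      ∃ y : PrimeSpectrum A', PrimeSpectrum.comap D.snd y = P := by
  by_cases h : RingHom.ker D.fst ≤ P.asIdeal
  · exact Or.inl ⟨⟨P.asIdeal.map D.fst, Ideal.map_isPrime_of_surjective D.fst_surjective h⟩,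
      PrimeSpectrum.ext ((Ideal.comap_map_of_surjective _ D.fst_surjective _).trans
        (sup_eq_left.mpr h))⟩
  · obtain ⟨c, hc0, hcP⟩ := Set.not_subset.mp h
    refine Or.inr ?_
    have hc1 : D.fst c = 0 := hc0
    have key : (P.asIdeal.map D.snd).comap D.snd ≤ P.asIdeal := by
      intro x hx
      have hmem : ∀ a ∈ P.asIdeal.map D.snd, ∃ d ∈ P.asIdeal, D.fst d = 0 ∧ D.snd d = a * D.snd c := by
        intro a ha
        refine Submodule.span_induction ?_ ?_ ?_ ?_ ha
        · rintro _ ⟨r, hr, rfl⟩
          exact ⟨r * c, P.asIdeal.mul_mem_right _ hr, by simp [hc1], by simp⟩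
        · exact ⟨0, zero_mem _, by simp, by simp⟩
        · rintro a₁ a₂ - - ⟨d₁, m₁, f₁, s₁⟩ ⟨d₂, m₂, f₂, s₂⟩
          exact ⟨d₁ + d₂, add_mem m₁ m₂, by simp [f₁, f₂], by simp [s₁, s₂, add_mul]⟩
        · rintro t a₁ - ⟨d₁, m₁, f₁, s₁⟩
          obtain ⟨e, he₁, he₂⟩ := D.lift' 0 (t * D.snd c) (by simp [← D.w, hc1])
          have : d₁ * e ∈ P.asIdeal := P.asIdeal.mul_mem_right _ m₁
          obtain ⟨d, hd₁, hd₂⟩ := D.lift' 0 (t * a₁ * D.snd c) (by simp [← D.w, hc1])
          refine ⟨d, ?_, hd₁, by simpa using hd₂⟩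
          have hdc : d * c = d₁ * e := D.ext' _ _ (by simp [hd₁, f₁]) (by simp [hd₂, s₁, he₂]; ring)
          exact (P.2.mem_or_mem (hdc ▸ this)).resolve_right hcP
      obtain ⟨d, hd, hd₁, hd₂⟩ := hmem _ hx
      have : x * c = d := D.ext' _ _ (by simp [hc1, hd₁]) (by simp [hd₂])
      exact (P.2.mem_or_mem (this ▸ hd)).resolve_right hcP
    obtain ⟨Q, hQ, hQc⟩ := (Ideal.comap_map_eq_self_iff_of_isPrime (f := D.snd) P.asIdeal).mp
      (le_antisymm key Ideal.le_comap_map)
    exact ⟨⟨Q, hQ⟩, PrimeSpectrum.ext hQc⟩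

end Cart

end Groth.Agent.FerrandPush
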