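import Groth.Agent.FerrandPush.MorAlg
import Groth.Agent.FerrandPush.Mor
import Groth.Agent.MilnorLib.AlgProps
/-!
The two base changes of the map of glued rings in a morphism of Milnor squares.
-/

set_option autoImplicit false
set_option linter.style.haveILetI false
universe u

open TensorProduct

namespace Groth.Agent.FerrandPush.CartMor

variable {C B A' A C' B' A₁' A₁ : Type u} [CommRing C] [CommRing B] [CommRing A'] [CommRing A]
  [CommRing C'] [CommRing B'] [CommRing A₁'] [CommRing A₁]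
  {D : Cart C B A' A} {D' : Cart C' B' A₁' A₁} (m : CartMor D D')

section
variable [Algebra C B] [Algebra C C'] [Algebra B B'] (hfst : algebraMap C B = D.fst)
  (hφ : algebraMap C C' = m.φ) (hβ : algebraMap B B' = m.β)
include hfst hφ hβ

/-- Base change of the glued map to the first factor. -/
theorem exists_equiv_fst : Nonempty (B ⊗[C] C' ≃ₐ[B] B') := by
  letI : Algebra C B' := (m.β.comp D.fst).toAlgebra
  haveI : IsScalarTower C B B' := IsScalarTower.of_algebraMap_eq fun r => by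
    rw [hfst, hβ]
    rfl
  let f : C' →ₐ[C] B' :=
    { D'.fst with
      commutes' := fun r => by
        show D'.fst (algebraMap C C' r) = m.β (D.fst r)
        rw [hφ]
        exact RingHom.congr_fun m.wfst r }
  let Φ : B ⊗[C] C' →ₐ[B] B' :=
    Algebra.TensorProduct.lift (Algebra.ofId B B') f fun _ _ => Commute.all _ _
  have hΦ : ∀ z, Φ ((1 : B) ⊗ₜ[C] z) = D'.fst z := fun z => by simp [Φ, f]
  have hsB : Function.Surjective (algebraMap C B) := hfst ▸ D.fst_surjective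
  have hone : ∀ x : B ⊗[C] C', ∃ z, (1 : B) ⊗ₜ[C] z = x :=
    fun x => TensorProduct.mk_surjective C C' B hsB x
  refine ⟨AlgEquiv.ofBijective Φ ⟨?_, fun y => ?_⟩⟩
  · rw [injective_iff_map_eq_zero]
    intro x hx
    obtain ⟨z, rfl⟩ := hone x
    rw [hΦ] at hx
    let G : C' →ₐ[C] B ⊗[C] C' := Algebra.TensorProduct.includeRight
    refine (show (RingHom.ker D.fst).map m.φ ≤ RingHom.ker G.toRingHom from ?_) (m.ker_fst_le hx)
    rw [Ideal.map_le_iff_le_comap]
    intro c hc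
    rw [Ideal.mem_comap, RingHom.mem_ker, ← hφ]
    show (1 : B) ⊗ₜ[C] algebraMap C C' c = 0
    rw [Algebra.algebraMap_eq_smul_one, MilnorLib.smul_one_tmul, hfst, RingHom.mem_ker.1 hc, zero_tmul]
  · obtain ⟨z, rfl⟩ := D'.fst_surjective y
    exact ⟨(1 : B) ⊗ₜ[C] z, hΦ z⟩

end

section
variable [Algebra C A'] [Algebra C C'] [Algebra A' A₁'] (hsnd : algebraMap C A' = D.snd)
  (hφ : algebraMap C C' = m.φ) (hσ : algebraMap A' A₁' = m.σ)
include hsnd hφ hσ

/-- Base change of the glued map to the second factor. -/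
theorem exists_equiv_snd : Nonempty (A' ⊗[C] C' ≃ₐ[A'] A₁') := by
  letI : Algebra C A₁' := (m.σ.comp D.snd).toAlgebra
  haveI : IsScalarTower C A' A₁' := IsScalarTower.of_algebraMap_eq fun r => by
    rw [hsnd, hσ]
    rfl
  let f : C' →ₐ[C] A₁' :=
    { D'.snd with
      commutes' := fun r => by
        show D'.snd (algebraMap C C' r) = m.σ (D.snd r)
        rw [hφ]
        exact RingHom.congr_fun m.wsnd r }
  let Φ : A' ⊗[C] C' →ₐ[A'] A₁' :=
    Algebra.TensorProduct.lift (Algebra.ofId A' A₁') f fun _ _ => Commute.all _ _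
  obtain ⟨ξ, hξ₁, hξ₂⟩ := m.exists_snd_desc
    (Algebra.TensorProduct.includeRight : C' →ₐ[C] A' ⊗[C] C').toRingHom
    (algebraMap A' (A' ⊗[C] C')) (RingHom.ext fun c => by
      rw [RingHom.comp_apply, RingHom.comp_apply, ← hφ, ← hsnd]
      show (1 : A') ⊗ₜ[C] algebraMap C C' c = algebraMap C A' c ⊗ₜ[C] (1 : C')
      rw [Algebra.algebraMap_eq_smul_one, Algebra.algebraMap_eq_smul_one, smul_tmul])
  have h1 : ∀ x, ξ (Φ x) = x := fun x => by
    induction x using TensorProduct.induction_on with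
    | zero => simp
    | tmul a z =>
      have e1 : Φ (a ⊗ₜ[C] z) = m.σ a * D'.snd z := by simp [Φ, f, hσ]
      rw [e1, map_mul, ← RingHom.comp_apply ξ, hξ₂, ← RingHom.comp_apply ξ, hξ₁]
      show (a ⊗ₜ[C] (1 : C')) * ((1 : A') ⊗ₜ[C] z) = a ⊗ₜ[C] z
      rw [Algebra.TensorProduct.tmul_mul_tmul, mul_one, one_mul]
    | add a b ha hb => rw [map_add, map_add, ha, hb]
  refine ⟨AlgEquiv.ofBijective Φ ⟨Function.LeftInverse.injective h1, fun y => ?_⟩⟩
  refine (show ⊤ ≤ Φ.toRingHom.range from ?_) (Subring.mem_top y)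
  rw [← m.closure_A₁', Subring.closure_le]
  rintro _ (⟨z, rfl⟩ | ⟨a, rfl⟩)
  · exact ⟨(1 : A') ⊗ₜ[C] z, by simp [Φ, f]⟩
  · exact ⟨a ⊗ₜ[C] (1 : C'), by simp [Φ, f, hσ]⟩

end

/-- The fibre square underlying a Milnor square of rings. -/
theorem isFibreSquare [Algebra C B] [Algebra C A'] [Algebra B A] [Algebra A' A]
    (hfst : algebraMap C B = D.fst) (hsnd : algebraMap C A' = D.snd) (hp : algebraMap A' A = D.p)
    (hq : algebraMap B A = D.q) : EtMil.IsFibreSquare C B A' A := by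
  refine ⟨hp ▸ D.surj, fun b a h => ?_⟩
  rw [hp, hq] at h
  obtain ⟨c, h1, h2⟩ := D.lift' b a h
  exact ⟨c, ⟨by rw [hfst, h1], by rw [hsnd, h2]⟩,
    fun c' ⟨h1', h2'⟩ => D.ext' _ _ (by rw [← hfst, h1', hfst, h1]) (by rw [← hsnd, h2', hsnd, h2])⟩

/-- The glued map is étale if both factors are. -/
theorem etale (hβ : m.β.Etale) (hσ : m.σ.Etale) : m.φ.Etale := by
  algebraize [D.fst, D.snd, D.p, D.q, m.φ, m.β, m.σ]
  letI : Algebra C A := (D.q.comp D.fst).toAlgebra
  haveI : IsScalarTower C B A := IsScalarTower.of_algebraMap_eq' rfl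
  haveI : IsScalarTower C A' A := IsScalarTower.of_algebraMap_eq fun c => D.w c
  obtain ⟨e₁⟩ := m.exists_equiv_fst rfl rfl rfl
  obtain ⟨e₂⟩ := m.exists_equiv_snd rfl rfl rfl
  haveI : Algebra.Etale B B' := RingHom.etale_algebraMap.1 hβ
  haveI : Algebra.Etale A' A₁' := RingHom.etale_algebraMap.1 hσ
  haveI := Algebra.Etale.of_equiv e₁.symm
  haveI := Algebra.Etale.of_equiv e₂.symm
  exact RingHom.etale_algebraMap.2
    (MilnorLib.etale (isFibreSquare (D := D) rfl rfl rfl rfl) C')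

end Groth.Agent.FerrandPush.CartMor

namespace Groth.Agent.FerrandPush

open CategoryTheory CategoryTheory.Limits AlgebraicGeometry

/-- Etale maps glue to an etale map of the pushouts. -/
theorem etale_pushoutMap {X Y Z P X' Y' Z' P' : Scheme.{u}} {i : Z ⟶ X} {j : Z ⟶ Y} [IsClosedImmersion i]
    [IsAffineHom j] {a : X ⟶ P} {b : Y ⟶ P} [IsAffineHom a] [IsAffineHom b] (hP : IsPushout i j a b)
    {f : X' ⟶ X} {g : Y' ⟶ Y} {i' : Z' ⟶ X'} {j' : Z' ⟶ Y'} [IsClosedImmersion i'] [IsAffineHom j']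
    {c : Z' ⟶ Z} (hX : IsPullback i' c f i) (hY : IsPullback j' c g j)
    {a' : X' ⟶ P'} {b' : Y' ⟶ P'} [IsAffineHom a'] [IsAffineHom b'] (hP' : IsPushout i' j' a' b')
    {h : P' ⟶ P} (ha : a' ≫ h = f ≫ a) (hb : b' ≫ h = g ≫ b) [Etale f] [Etale g] : Etale h := by
  choose α ρ α' ρ' m hρ hρ' hmem hA hB hA' hB' hφ hβ hσ using exists_local hP hX hY hP' ha hb
  let 𝒰 : P'.OpenCover := Scheme.Cover.mkOfCovers P' (fun p => (α' p).obj) ρ' (fun p => ⟨p, hmem p⟩) hρ'
  refine IsZariskiLocalAtSource.of_openCover 𝒰 fun p => ?_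
  show Etale (ρ' p ≫ h)
  rw [← hφ p]
  have key : ∀ {E E' : CommRingCat.{u}} {M M' : Scheme.{u}} (x : E ⟶ E') (e : Spec E ⟶ M)
      [IsOpenImmersion e] (e' : Spec E' ⟶ M') [IsOpenImmersion e'] (t : M' ⟶ M) [Etale t],
      Spec.map x ≫ e = e' ≫ t → x.hom.Etale := by
    intro E E' M M' x e _ e' _ t _ het
    haveI : Etale (Spec.map x ≫ e) := by rw [het]; infer_instance
    haveI : Etale (Spec.map x) := Etale.of_comp (Spec.map x) e
    exact (HasRingHomProperty.Spec_iff (P := @Etale)).mp ‹_›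
  haveI : Etale (Spec.map (CommRingCat.ofHom (m p).φ)) :=
    (HasRingHomProperty.Spec_iff (P := @Etale)).mpr
      ((m p).etale (key _ _ _ g (hβ p)) (key _ _ _ f (hσ p)))
  haveI := hρ p
  infer_instance

end Groth.Agent.FerrandPush
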