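import Groth.Agent.FerrandPush.Cover

/-!
# An arbitrary pushout square of a closed immersion along an integral morphism
-/

set_option autoImplicit false
set_option linter.style.haveILetI false
universe u
open CategoryTheory CategoryTheory.Limits AlgebraicGeometry

namespace Groth.Agent.FerrandPush

/-- Consequences for any pushout square. -/
theorem props_of_isPushout {X Y Z P : Scheme.{u}} {i : Z ⟶ X} {j : Z ⟶ Y} [IsClosedImmersion i]
    [IsIntegralHom j]
    (haff : ∀ y : Y, ∃ U : X.Opens, IsAffineOpen U ∧ j ⁻¹' {y} ⊆ i ⁻¹' (U : Set X))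
    {a : X ⟶ P} {b : Y ⟶ P} (hP : IsPushout i j a b) :
    IsIntegralHom a ∧ IsClosedImmersion b ∧ IsPullback i j a b ∧
      (∀ p : P, (∃ x, a x = p) ∨ ∃ y, b y = p) := by
  obtain ⟨hX, hY⟩ := exists_chart_of_integral i j haff
  obtain ⟨a₀, b₀, hP₀, ha, hb⟩ := exists_pushout_charts i j hX hY
  let e := hP₀.isoIsPushout _ _ hP
  have ea : a₀ ≫ e.hom = a := hP₀.inl_isoIsPushout_hom _ _ hP
  have eb : b₀ ≫ e.hom = b := hP₀.inr_isoIsPushout_hom _ _ hP
  refine ⟨?_, ?_, ?_, fun p => ?_⟩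
  · haveI := isIntegralHom_a ha hX
    rw [← ea]; infer_instance
  · haveI := isClosedImmersion_b hb hY
    rw [← eb]; infer_instance
  · refine (isPullback_glued hP₀.w ha hX hb hY).of_iso (Iso.refl _) (Iso.refl _) (Iso.refl _) e
      (by simp) (by simp) ?_ ?_
    · simp [ea]
    · simp [eb]
  · obtain ⟨α, c, hc⟩ := Scheme.IsLocallyDirected.ι_jointly_surjective (chartFunctor i j) (e.inv p)
    have hp : e.hom (e.inv p) = p := by
      rw [← Scheme.Hom.comp_apply, e.inv_hom_id]; rfl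
    rcases α.cart.exists_prime c with ⟨y, hy⟩ | ⟨y, hy⟩
    · refine Or.inr ⟨α.hV.fromSpec y, ?_⟩
      rw [← hp, ← eb, Scheme.Hom.comp_apply, ← Scheme.Hom.comp_apply α.hV.fromSpec b₀, hb]
      congr 1
      rw [toGluedV, Scheme.Hom.comp_apply, ← hc, ← hy]
      rfl
    · refine Or.inl ⟨α.hU.fromSpec y, ?_⟩
      rw [← hp, ← ea, Scheme.Hom.comp_apply, ← Scheme.Hom.comp_apply α.hU.fromSpec a₀, ha]
      congr 1
      rw [toGluedU, Scheme.Hom.comp_apply, ← hc, ← hy]
      rfl

end Groth.Agent.FerrandPush
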