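import Groth.Agent.FerrandPush.Algebra

/-!
# Base change of Milnor squares
-/

set_option autoImplicit false
set_option linter.style.haveILetI false
universe u
open scoped TensorProduct

namespace Groth.Agent.FerrandPush

namespace Cart

variable {C B A' A : Type u} [CommRing C] [CommRing B] [CommRing A'] [CommRing A]
  (D : Cart C B A' A) (R : Type u) [CommRing R]
  [Algebra R C] [Algebra R B] [Algebra R A'] [Algebra R A]

/-- Compatibility of a Milnor square with algebra structures. -/
structure IsOver : Prop where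
  fst : ∀ r, D.fst (algebraMap R C r) = algebraMap R B r
  snd : ∀ r, D.snd (algebraMap R C r) = algebraMap R A' r
  p : ∀ r, D.p (algebraMap R A' r) = algebraMap R A r

variable {D R} (h : D.IsOver R)
include h

theorem IsOver.q (r : R) : D.q (algebraMap R B r) = algebraMap R A r := by
  rw [← h.fst, D.w, h.snd, h.p]

/-- The four maps as algebra maps. -/
def IsOver.fstₐ : C →ₐ[R] B := { D.fst with commutes' := h.fst }
def IsOver.sndₐ : C →ₐ[R] A' := { D.snd with commutes' := h.snd }
def IsOver.pₐ : A' →ₐ[R] A := { D.p with commutes' := h.p }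
def IsOver.qₐ : B →ₐ[R] A := { D.q with commutes' := h.q }

variable (R' : Type u) [CommRing R'] [Algebra R R']

theorem IsOver.tensor_key (hflat : Module.Flat R R' ∨ Module.Flat R A ∨
      (Function.Injective D.q ∧ Module.Flat R (A ⧸ Submodule.span R (Set.range D.q)))) :
    (∀ x : R' ⊗[R] C, Algebra.TensorProduct.map (AlgHom.id R R') h.fstₐ x = 0 →
      Algebra.TensorProduct.map (AlgHom.id R R') h.sndₐ x = 0 → x = 0) ∧
    (∀ (b : R' ⊗[R] B) (a : R' ⊗[R] A'), Algebra.TensorProduct.map (AlgHom.id R R') h.qₐ b =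
      Algebra.TensorProduct.map (AlgHom.id R R') h.pₐ a →
      ∃ c, Algebra.TensorProduct.map (AlgHom.id R R') h.fstₐ c = b ∧
        Algebra.TensorProduct.map (AlgHom.id R R') h.sndₐ c = a) := by
  let g : C →ₗ[R] B × A' := h.fstₐ.toLinearMap.prod h.sndₐ.toLinearMap
  let f : B × A' →ₗ[R] A := h.qₐ.toLinearMap.coprod (-h.pₐ.toLinearMap)
  have hf : ∀ b a, f (b, a) = D.q b - D.p a := fun b a => by
    simp only [f, LinearMap.coprod_apply, LinearMap.neg_apply, sub_eq_add_neg]; rfl
  have hg : ∀ c, g c = (D.fst c, D.snd c) := fun c => rfl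
  have hfs : Function.Surjective f := fun z => by
    obtain ⟨a, ha⟩ := D.surj (-z)
    exact ⟨(0, a), by rw [hf, map_zero, ha, zero_sub, neg_neg]⟩
  have hgi : Function.Injective g := fun x y e =>
    D.ext' x y (congrArg Prod.fst e) (congrArg Prod.snd e)
  have hex : Function.Exact g f := by
    rintro ⟨b, a⟩
    rw [hf, sub_eq_zero]
    refine ⟨fun e => ?_, ?_⟩
    · obtain ⟨c, hc₁, hc₂⟩ := D.lift' b a e
      exact ⟨c, by rw [hg, hc₁, hc₂]⟩
    · rintro ⟨c, hc⟩
      rw [hg, Prod.mk.injEq] at hc
      rw [← hc.1, ← hc.2, D.w]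
  have hinj : Function.Injective (g.lTensor R') := by
    rcases hflat with h1 | h1 | ⟨hq, h1⟩
    · exact Module.Flat.lTensor_preserves_injective_linearMap g hgi
    · exact LinearMap.lTensor_injective_of_exact_of_flat f hfs g hgi hex R'
    · let f' : A' →ₗ[R] A ⧸ Submodule.span R (Set.range D.q) :=
        (Submodule.mkQ _).comp h.pₐ.toLinearMap
      have hsp : Submodule.span R (Set.range D.q) = LinearMap.range h.qₐ.toLinearMap :=
        (congrArg (Submodule.span R) (show Set.range D.q = (LinearMap.range h.qₐ.toLinearMap : Set A) from rfl)).trans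
          (Submodule.span_eq _)
      have hf's : Function.Surjective f' := (Submodule.mkQ_surjective _).comp D.surj
      have hs1 : Function.Injective h.sndₐ.toLinearMap := fun x y e => D.ext' x y (hq (by
        rw [D.w, D.w]; exact congrArg D.p e)) e
      have hex1 : Function.Exact h.sndₐ.toLinearMap f' := fun a => by
        show Submodule.Quotient.mk (D.p a) = 0 ↔ a ∈ Set.range D.snd
        rw [Submodule.Quotient.mk_eq_zero, hsp]
        refine ⟨fun ⟨b, hb⟩ => ?_, fun ⟨c, hc⟩ => ⟨D.fst c, ?_⟩⟩
        · obtain ⟨c, -, hc⟩ := D.lift' b a hb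
          exact ⟨c, hc⟩
        · show D.q (D.fst c) = D.p a
          rw [D.w, hc]
      have := LinearMap.lTensor_injective_of_exact_of_flat f' hf's h.sndₐ.toLinearMap hs1 hex1 R'
      refine Function.Injective.of_comp (f := (LinearMap.snd R B A').lTensor R') ?_
      rw [← LinearMap.coe_comp, ← LinearMap.lTensor_comp]
      exact this
  have hex' := lTensor_exact R' hex hfs
  let e := TensorProduct.prodRight R R R' B A'
  have e1 : ∀ x, (e (g.lTensor R' x)).1 = Algebra.TensorProduct.map (AlgHom.id R R') h.fstₐ x := fun x => by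
    induction x using TensorProduct.induction_on with
    | zero => simp
    | tmul r c => simp [e, hg]; rfl
    | add x y hx hy => simp [hx, hy]
  have e2 : ∀ x, (e (g.lTensor R' x)).2 = Algebra.TensorProduct.map (AlgHom.id R R') h.sndₐ x := fun x => by
    induction x using TensorProduct.induction_on with
    | zero => simp
    | tmul r c => simp [e, hg]; rfl
    | add x y hx hy => simp [hx, hy]
  have e3 : ∀ x, f.lTensor R' x = Algebra.TensorProduct.map (AlgHom.id R R') h.qₐ (e x).1 -
      Algebra.TensorProduct.map (AlgHom.id R R') h.pₐ (e x).2 := fun x => by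
    induction x using TensorProduct.induction_on with
    | zero => simp
    | tmul r c => obtain ⟨b, a⟩ := c; simp [e, hf, TensorProduct.tmul_sub]; rfl
    | add x y hx hy => simp only [map_add, hx, hy, Prod.fst_add, Prod.snd_add]; abel
  refine ⟨fun x h₁ h₂ => hinj ?_, fun b a hba => ?_⟩
  · rw [map_zero]
    apply e.injective
    rw [map_zero]
    exact Prod.ext ((e1 x).trans h₁) ((e2 x).trans h₂)
  · obtain ⟨x, hx⟩ := (hex' (e.symm (b, a))).mp
      (by rw [e3, LinearEquiv.apply_symm_apply, hba, sub_self])
    refine ⟨x, ?_, ?_⟩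
    · rw [← e1, hx, LinearEquiv.apply_symm_apply]
    · rw [← e2, hx, LinearEquiv.apply_symm_apply]

/-- The base change of a Milnor square, when it stays exact. -/
noncomputable def IsOver.tensor (hflat : Module.Flat R R' ∨ Module.Flat R A ∨
      (Function.Injective D.q ∧ Module.Flat R (A ⧸ Submodule.span R (Set.range D.q)))) :
    Cart (R' ⊗[R] C) (R' ⊗[R] B) (R' ⊗[R] A') (R' ⊗[R] A) where
  fst := (Algebra.TensorProduct.map (AlgHom.id R R') h.fstₐ).toRingHom
  snd := (Algebra.TensorProduct.map (AlgHom.id R R') h.sndₐ).toRingHom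
  p := (Algebra.TensorProduct.map (AlgHom.id R R') h.pₐ).toRingHom
  q := (Algebra.TensorProduct.map (AlgHom.id R R') h.qₐ).toRingHom
  surj := fun z => by
    obtain ⟨x, hx⟩ := LinearMap.lTensor_surjective R'
      (g := h.pₐ.toLinearMap) D.surj z
    exact ⟨x, hx⟩
  w := fun x => by
    induction x using TensorProduct.induction_on with
    | zero => simp
    | tmul r c =>
      show r ⊗ₜ[R] D.q (D.fst c) = r ⊗ₜ[R] D.p (D.snd c)
      rw [D.w]
    | add x y hx hy => simp only [map_add, hx, hy]
  ext' := fun x y h₁ h₂ => sub_eq_zero.mp ((h.tensor_key R' hflat).1 _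
    (by rw [map_sub]; exact sub_eq_zero.mpr h₁) (by rw [map_sub]; exact sub_eq_zero.mpr h₂))
  lift' := fun b a hba => (h.tensor_key R' hflat).2 b a hba

end Cart

end Groth.Agent.FerrandPush
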