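import Groth.Agent.FerrandPush.Of
import Groth.Agent.FerrandPush.Tensor

/-!
# Base change of pushouts of closed immersions along affine morphisms
-/

set_option autoImplicit false
set_option linter.style.haveILetI false
set_option linter.unusedVariables false
universe u v
open CategoryTheory CategoryTheory.Limits AlgebraicGeometry
open scoped TensorProduct

namespace Groth.Agent.FerrandPush

/-- A square which is a Milnor square locally on the target is a pushout. -/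
theorem isPushout_of_cover {X Y Z P : Scheme.{u}} {i : Z ⟶ X} {j : Z ⟶ Y} {a : X ⟶ P} {b : Y ⟶ P}
    (w : i ≫ a = j ≫ b) {K : Type v} (C B A' A : K → Type u)
    [∀ k, CommRing (C k)] [∀ k, CommRing (B k)] [∀ k, CommRing (A' k)] [∀ k, CommRing (A k)]
    (D : ∀ k, Cart (C k) (B k) (A' k) (A k))
    (ι : ∀ k, Spec (.of (C k)) ⟶ P) [∀ k, IsOpenImmersion (ι k)]
    (cov : ∀ x : P, ∃ k, x ∈ Set.range (ι k))
    (eA : ∀ k, Spec (.of (A' k)) ⟶ X) (eB : ∀ k, Spec (.of (B k)) ⟶ Y) (eZ : ∀ k, Spec (.of (A k)) ⟶ Z)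
    (hA : ∀ k, IsPullback (D k).iA' (eA k) (ι k) a) (hB : ∀ k, IsPullback (D k).iB (eB k) (ι k) b)
    (hp : ∀ k, Spec.map (CommRingCat.ofHom (D k).p) ≫ eA k = eZ k ≫ i)
    (hq : ∀ k, Spec.map (CommRingCat.ofHom (D k).q) ≫ eB k = eZ k ≫ j) :
    IsPushout i j a b := by
  refine ⟨⟨w⟩, ⟨PushoutCocone.isColimitAux' _ fun s => ?_⟩⟩
  have hex : ∀ k, ∃ l : Spec (.of (C k)) ⟶ s.pt,
      (D k).iA' ≫ l = eA k ≫ s.inl ∧ (D k).iB ≫ l = eB k ≫ s.inr := fun k => by
    refine (D k).exists_desc _ _ ?_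
    rw [reassoc_of% (hq k), reassoc_of% (hp k), s.condition]
  choose l hlA hlB using hex
  let 𝒰 : P.OpenCover := Scheme.Cover.mkOfCovers K (fun k => Spec (.of (C k))) ι
    (fun x => by obtain ⟨k, y, hy⟩ := cov x; exact ⟨k, y, hy⟩) inferInstance
  haveI : ∀ k, IsOpenImmersion (𝒰.f k) := fun k => inferInstanceAs (IsOpenImmersion (ι k))
  have glue : ∀ k m, pullback.fst (ι k) (ι m) ≫ l k = pullback.snd (ι k) (ι m) ≫ l m := by
    intro k m
    refine (D k).hom_ext_of_isOpenImmersion (pullback.fst (ι k) (ι m)) _ _ ?_ ?_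
    · intro W r t hrt
      have h1 : (r ≫ pullback.snd (ι k) (ι m)) ≫ ι m = (t ≫ eB k) ≫ b := by
        refine Eq.trans ?_ ((reassoc_of% hrt) (ι k) |>.trans ?_)
        · exact (Category.assoc _ _ _).trans (congrArg (r ≫ ·) pullback.condition.symm)
        · rw [(hB k).w, ← Category.assoc]
      obtain ⟨t', ht₁, ht₂⟩ := (hB m).exists_lift (r ≫ pullback.snd (ι k) (ι m)) (t ≫ eB k) h1
      refine ((reassoc_of% hrt) (l k)).trans ?_
      rw [hlB]
      refine Eq.trans ?_ (Category.assoc r _ _)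
      rw [← Category.assoc t, ← ht₂, Category.assoc, ← hlB, ← Category.assoc, ht₁]
    · intro W r t hrt
      have h1 : (r ≫ pullback.snd (ι k) (ι m)) ≫ ι m = (t ≫ eA k) ≫ a := by
        refine Eq.trans ?_ ((reassoc_of% hrt) (ι k) |>.trans ?_)
        · exact (Category.assoc _ _ _).trans (congrArg (r ≫ ·) pullback.condition.symm)
        · rw [(hA k).w, ← Category.assoc]
      obtain ⟨t', ht₁, ht₂⟩ := (hA m).exists_lift (r ≫ pullback.snd (ι k) (ι m)) (t ≫ eA k) h1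
      refine ((reassoc_of% hrt) (l k)).trans ?_
      rw [hlA]
      refine Eq.trans ?_ (Category.assoc r _ _)
      rw [← Category.assoc t, ← ht₂, Category.assoc, ← hlA, ← Category.assoc, ht₁]
  refine ⟨𝒰.glueMorphisms l glue, ?_, ?_, fun {m} hm₁ hm₂ => ?_⟩
  · show a ≫ 𝒰.glueMorphisms l glue = s.inl
    refine (𝒰.pullback₁ a).hom_ext fun k => ?_
    show pullback.fst a (𝒰.f k) ≫ a ≫ 𝒰.glueMorphisms l glue = pullback.fst a (𝒰.f k) ≫ s.inl
    rw [pullback.condition_assoc, Scheme.Cover.ι_glueMorphisms]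
    obtain ⟨t', ht₁, ht₂⟩ := (hA k).exists_lift (pullback.snd a (𝒰.f k)) (pullback.fst a (𝒰.f k))
      pullback.condition.symm
    erw [← reassoc_of% ht₁]
    rw [hlA, reassoc_of% ht₂]
  · show b ≫ 𝒰.glueMorphisms l glue = s.inr
    refine (𝒰.pullback₁ b).hom_ext fun k => ?_
    show pullback.fst b (𝒰.f k) ≫ b ≫ 𝒰.glueMorphisms l glue = pullback.fst b (𝒰.f k) ≫ s.inr
    rw [pullback.condition_assoc, Scheme.Cover.ι_glueMorphisms]
    obtain ⟨t', ht₁, ht₂⟩ := (hB k).exists_lift (pullback.snd b (𝒰.f k)) (pullback.fst b (𝒰.f k))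
      pullback.condition.symm
    erw [← reassoc_of% ht₁]
    rw [hlB, reassoc_of% ht₂]
  · refine 𝒰.hom_ext _ _ fun k => ?_
    rw [Scheme.Cover.ι_glueMorphisms]
    refine (D k).isPushout_Spec.hom_ext ?_ ?_
    · rw [hlA]
      exact ((reassoc_of% (hA k).w) m).trans (congrArg (eA k ≫ ·) hm₁)
    · rw [hlB]
      exact ((reassoc_of% (hB k).w) m).trans (congrArg (eB k ≫ ·) hm₂)

/-- Affine opens of a pushout with affine structure maps are Milnor squares. -/
theorem exists_cart_of_affineOpen {X Y Z P : Scheme.{u}} {i : Z ⟶ X} {j : Z ⟶ Y} [IsClosedImmersion i]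
    [IsAffineHom j] {a : X ⟶ P} {b : Y ⟶ P} [IsAffineHom a] [IsAffineHom b]
    (hP : IsPushout i j a b) {W : P.Opens} (hW : IsAffineOpen W) :
    ∃ α : Chart i j, ∃ ρ : α.obj ⟶ P, IsOpenImmersion ρ ∧ Set.range ρ = (W : Set P) ∧
      IsPullback α.cart.iA' α.hU.fromSpec ρ a ∧ IsPullback α.cart.iB α.hV.fromSpec ρ b := by
  have htr : ∀ O : P.Opens, i ⁻¹ᵁ (a ⁻¹ᵁ O) = j ⁻¹ᵁ (b ⁻¹ᵁ O) := fun O => by
    rw [← Scheme.Hom.comp_preimage, ← Scheme.Hom.comp_preimage, hP.w]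
  let chartOf : P.affineOpens → Chart i j := fun O =>
    ⟨(⟨a ⁻¹ᵁ O.1, O.2.preimage a⟩, ⟨b ⁻¹ᵁ O.1, O.2.preimage b⟩), htr O.1⟩
  have hX : ∀ x : X, ∃ α : Chart i j, x ∈ α.U := fun x => by
    obtain ⟨U, hU, hx, -⟩ := exists_isAffineOpen_mem_and_subset (U := ⊤) (show a x ∈ (⊤ : P.Opens) from trivial)
    exact ⟨chartOf ⟨U, hU⟩, hx⟩
  have hY : ∀ y : Y, ∃ α : Chart i j, y ∈ α.V := fun y => by
    obtain ⟨U, hU, hy, -⟩ := exists_isAffineOpen_mem_and_subset (U := ⊤) (show b y ∈ (⊤ : P.Opens) from trivial)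
    exact ⟨chartOf ⟨U, hU⟩, hy⟩
  obtain ⟨a₀, b₀, hP₀, ha, hb⟩ := exists_pushout_charts i j hX hY
  let e := hP₀.isoIsPushout _ _ hP
  have ea : a₀ ≫ e.hom = a := hP₀.inl_isoIsPushout_hom _ _ hP
  have eb : b₀ ≫ e.hom = b := hP₀.inr_isoIsPushout_hom _ _ hP
  let α := chartOf ⟨W, hW⟩
  have hpA : IsPullback α.cart.iA' α.hU.fromSpec (chartι i j α ≫ e.hom) a :=
    (isPullback_chartι_U ha hX α).of_iso (Iso.refl _) (Iso.refl _) (Iso.refl _) e (by simp) (by simp)
      (by simp) (by simp [ea])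
  have hpB : IsPullback α.cart.iB α.hV.fromSpec (chartι i j α ≫ e.hom) b :=
    (isPullback_chartι_V hb hY α).of_iso (Iso.refl _) (Iso.refl _) (Iso.refl _) e (by simp) (by simp)
      (by simp) (by simp [eb])
  refine ⟨α, chartι i j α ≫ e.hom, inferInstance, ?_, hpA, hpB⟩
  ext x
  constructor
  · rintro ⟨c, rfl⟩
    rcases α.cart.exists_prime c with ⟨y, rfl⟩ | ⟨y, rfl⟩
    · have h2 := congrArg (fun t => t y) hpB.w
      simp only [Scheme.Hom.comp_apply] at h2 ⊢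
      have h3 : α.hV.fromSpec y ∈ b ⁻¹ᵁ W := fromSpec_mem α.hV y
      exact h2.symm ▸ h3
    · have h2 := congrArg (fun t => t y) hpA.w
      simp only [Scheme.Hom.comp_apply] at h2 ⊢
      have h3 : α.hU.fromSpec y ∈ a ⁻¹ᵁ W := fromSpec_mem α.hU y
      exact h2.symm ▸ h3
  · intro hx
    obtain ⟨β, c, hc⟩ := Scheme.IsLocallyDirected.ι_jointly_surjective (chartFunctor i j) (e.inv x)
    have hxx : e.hom (e.inv x) = x := by rw [← Scheme.Hom.comp_apply, e.inv_hom_id]; rfl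
    rcases β.cart.exists_prime c with ⟨y, hy⟩ | ⟨y, hy⟩
    · have h0 : b (β.hV.fromSpec y) = x := by
        rw [← eb, ← Scheme.Hom.comp_apply, ← Category.assoc, hb β, Scheme.Hom.comp_apply, toGluedV,
          Scheme.Hom.comp_apply]
        exact (congrArg e.hom ((congrArg _ hy).trans hc)).trans hxx
      obtain ⟨w, hw⟩ := mem_range_fromSpec α.hV (show β.hV.fromSpec y ∈ b ⁻¹ᵁ W by
        show b (β.hV.fromSpec y) ∈ W; rw [h0]; exact hx)
      exact ⟨α.cart.iB w, by rw [← Scheme.Hom.comp_apply, hpB.w, Scheme.Hom.comp_apply, hw, h0]⟩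
    · have h0 : a (β.hU.fromSpec y) = x := by
        rw [← ea, ← Scheme.Hom.comp_apply, ← Category.assoc, ha β, Scheme.Hom.comp_apply, toGluedU,
          Scheme.Hom.comp_apply]
        exact (congrArg e.hom ((congrArg _ hy).trans hc)).trans hxx
      obtain ⟨w, hw⟩ := mem_range_fromSpec α.hU (show β.hU.fromSpec y ∈ a ⁻¹ᵁ W by
        show a (β.hU.fromSpec y) ∈ W; rw [h0]; exact hx)
      exact ⟨α.cart.iA' w, by rw [← Scheme.Hom.comp_apply, hpA.w, Scheme.Hom.comp_apply, hw, h0]⟩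

/-- Base change of a pushout along `g` when `g` is flat, the common part is flat over the base, or the cokernels are flat. -/
theorem isPushout_baseChange' {S T X Y Z P XT YT ZT PT : Scheme.{u}} {i : Z ⟶ X} {j : Z ⟶ Y}
    [IsClosedImmersion i] [IsAffineHom j] {a : X ⟶ P} {b : Y ⟶ P} [IsAffineHom a] [IsAffineHom b]
    (hP : IsPushout i j a b) (q : P ⟶ S) (g : T ⟶ S) (hflat : Flat g ∨ Flat ((i ≫ a) ≫ q) ∨
      ∀ (α : Chart i j) (S₀ : S.Opens), IsAffineOpen S₀ → ∀ hle : α.W ≤ ((i ≫ a) ≫ q) ⁻¹ᵁ S₀,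
        α.V ≤ (b ≫ q) ⁻¹ᵁ S₀ → Function.Injective α.qMap.hom ∧
        letI := (((i ≫ a) ≫ q).appLE S₀ α.W hle).hom.toAlgebra
        Module.Flat Γ(S, S₀) (Γ(Z, α.W) ⧸ Submodule.span Γ(S, S₀) (Set.range α.qMap.hom)))
    {pP : PT ⟶ P} {sPT : PT ⟶ T} (hPT : IsPullback pP sPT q g)
    {pX : XT ⟶ X} {aT : XT ⟶ PT} (hXT : IsPullback pX aT a pP)
    {pY : YT ⟶ Y} {bT : YT ⟶ PT} (hYT : IsPullback pY bT b pP)
    {pZ : ZT ⟶ Z} {iT : ZT ⟶ XT} (hZT : IsPullback pZ iT i pX)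
    {jT : ZT ⟶ YT} (hj₁ : jT ≫ pY = pZ ≫ j) (hj₂ : jT ≫ bT = iT ≫ aT) :
    IsPushout iT jT aT bT := by
  let K := Σ' (S₀ : S.affineOpens) (T₀ : T.affineOpens) (W : P.affineOpens),
    T₀.1 ≤ g ⁻¹ᵁ S₀.1 ∧ W.1 ≤ q ⁻¹ᵁ S₀.1
  have main : ∀ k : K, ∃ (C B A' A : Type u) (_ : CommRing C) (_ : CommRing B) (_ : CommRing A')
      (_ : CommRing A) (D : Cart C B A' A) (ι : Spec (.of C) ⟶ PT) (_ : IsOpenImmersion ι)
      (eA : Spec (.of A') ⟶ XT) (eB : Spec (.of B) ⟶ YT) (eZ : Spec (.of A) ⟶ ZT),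
      (∀ x : PT, sPT x ∈ k.2.1.1 → pP x ∈ k.2.2.1.1 → x ∈ Set.range ι) ∧
      IsPullback D.iA' eA ι aT ∧ IsPullback D.iB eB ι bT ∧
      Spec.map (CommRingCat.ofHom D.p) ≫ eA = eZ ≫ iT ∧
      Spec.map (CommRingCat.ofHom D.q) ≫ eB = eZ ≫ jT := by
    rintro ⟨⟨S₀, hS₀⟩, ⟨T₀, hT₀⟩, ⟨W, hW⟩, hT, hWS⟩
    obtain ⟨α, ρ, hρo, hρW, hρA, hρB⟩ := exists_cart_of_affineOpen hP hW
    let D := α.cart
    have hlift : Set.range (ρ ≫ q) ⊆ Set.range hS₀.fromSpec := by
      rintro _ ⟨c, rfl⟩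
      rw [hS₀.range_fromSpec, Scheme.Hom.comp_apply]
      exact hWS (show ρ c ∈ (W : Set P) from hρW ▸ ⟨c, rfl⟩)
    obtain ⟨φ, hφ⟩ := Spec.map_surjective (IsOpenImmersion.lift hS₀.fromSpec (ρ ≫ q) hlift)
    have eφ : Spec.map φ ≫ hS₀.fromSpec = ρ ≫ q := by rw [hφ, IsOpenImmersion.lift_fac]
    let R : Type u := Γ(S, S₀)
    let R' : Type u := Γ(T, T₀)
    let ψ : Γ(S, S₀) ⟶ Γ(T, T₀) := g.appLE S₀ T₀ hT
    letI : Algebra R R' := ψ.hom.toAlgebra
    letI : Algebra R α.subring := φ.hom.toAlgebra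
    letI : Algebra R Γ(Y, α.V) := (D.fst.comp φ.hom).toAlgebra
    letI : Algebra R Γ(X, α.U) := (D.snd.comp φ.hom).toAlgebra
    letI : Algebra R Γ(Z, α.W) := ((D.p.comp D.snd).comp φ.hom).toAlgebra
    have hover : D.IsOver R := ⟨fun _ => rfl, fun _ => rfl, fun _ => rfl⟩
    have hle : α.W ≤ ((i ≫ a) ≫ q) ⁻¹ᵁ S₀ := fun z hz => by
      obtain ⟨y, hy⟩ := mem_range_fromSpec α.hU (show i z ∈ α.U from hz)
      show q (a (i z)) ∈ S₀
      apply hWS
      rw [← hy, ← Scheme.Hom.comp_apply, ← hρA.w, Scheme.Hom.comp_apply]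
      show ρ (α.cart.iA' y) ∈ (W : Set P)
      rw [← hρW]
      exact ⟨_, rfl⟩
    have h3 : ((i ≫ a) ≫ q).appLE S₀ α.W hle = φ ≫ CommRingCat.ofHom (D.p.comp D.snd) := by
      apply Spec.map_injective
      rw [← cancel_mono hS₀.fromSpec, hS₀.SpecMap_appLE_fromSpec _ α.hW hle, Spec.map_comp]
      refine Eq.trans ?_ ((congrArg (Spec.map (CommRingCat.ofHom (D.p.comp D.snd)) ≫ ·) eφ).symm.trans (Category.assoc _ _ _).symm)
      have : Spec.map (CommRingCat.ofHom (D.p.comp D.snd)) =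
          Spec.map (CommRingCat.ofHom D.p) ≫ D.iA' := by
        rw [Cart.iA', ← Spec.map_comp]; rfl
      rw [this]
      refine Eq.trans ?_ (Category.assoc _ _ _).symm
      show _ = Spec.map (CommRingCat.ofHom α.cart.p) ≫ α.cart.iA' ≫ ρ ≫ q
      rw [reassoc_of% hρA.w, reassoc_of% (Chart.specMap_p_fromSpec (α := α)), Category.assoc i]
    have hfl : Module.Flat R R' ∨ Module.Flat R Γ(Z, α.W) ∨
        (Function.Injective D.q ∧ Module.Flat R (Γ(Z, α.W) ⧸ Submodule.span R (Set.range D.q))) := by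
      rcases hflat with h1 | h1 | h1
      · left
        have : ψ.hom.Flat := Flat.flat_appLE g hS₀ hT₀ hT
        exact this
      · right; left
        have h2 : (((i ≫ a) ≫ q).appLE S₀ α.W hle).hom.Flat := Flat.flat_appLE _ hS₀ α.hW hle
        rw [h3] at h2
        exact h2
      · right; right
        have hleV : α.V ≤ (b ≫ q) ⁻¹ᵁ S₀ := fun z hz => by
          obtain ⟨y, hy⟩ := mem_range_fromSpec α.hV hz
          show q (b z) ∈ S₀
          apply hWS
          rw [← hy, ← Scheme.Hom.comp_apply, ← hρB.w, Scheme.Hom.comp_apply]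
          show ρ (α.cart.iB y) ∈ (W : Set P)
          rw [← hρW]
          exact ⟨_, rfl⟩
        have h2 := h1 α S₀ hS₀ hle hleV
        rw [h3] at h2
        exact h2
    let D' := hover.tensor R' hfl
    let sR := Spec.map (CommRingCat.ofHom (algebraMap R R'))
    have sqC : IsPullback (Spec.map (CommRingCat.ofHom (Algebra.TensorProduct.includeLeftRingHom : R' →+* R' ⊗[R] α.subring)))
        (Spec.map (CommRingCat.ofHom (Algebra.TensorProduct.includeRight : α.subring →ₐ[R] R' ⊗[R] α.subring).toRingHom))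
        sR (Spec.map φ) :=
      isPullback_SpecMap_of_isPushout _ _ _ _ (CommRingCat.isPushout_tensorProduct R R' α.subring)
    let ι₀ := sqC.isoPullback.hom ≫
      pullback.map sR (Spec.map φ) g q hT₀.fromSpec ρ hS₀.fromSpec
        (hS₀.SpecMap_appLE_fromSpec g hT₀ hT) eφ ≫ hPT.flip.isoPullback.inv
    haveI hι₀ : IsOpenImmersion ι₀ := inferInstance
    have hι₁ : ι₀ ≫ sPT = Spec.map (CommRingCat.ofHom Algebra.TensorProduct.includeLeftRingHom) ≫ hT₀.fromSpec := by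
      dsimp only [ι₀]
      rw [Category.assoc, Category.assoc, hPT.flip.isoPullback_inv_fst]
      erw [pullback.lift_fst]
      rw [← Category.assoc, sqC.isoPullback_hom_fst]
    have hι₂ : ι₀ ≫ pP = Spec.map (CommRingCat.ofHom
        (Algebra.TensorProduct.includeRight : α.subring →ₐ[R] R' ⊗[R] α.subring).toRingHom) ≫ ρ := by
      dsimp only [ι₀]
      rw [Category.assoc, Category.assoc, hPT.flip.isoPullback_inv_snd]
      erw [pullback.lift_snd]
      rw [← Category.assoc, sqC.isoPullback_hom_snd]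
    have hrange : ∀ x : PT, sPT x ∈ T₀ → pP x ∈ W → x ∈ Set.range ι₀ := by
      intro x h1 h2
      have hm : hPT.flip.isoPullback.hom x ∈ Set.range (pullback.map sR (Spec.map φ) g q hT₀.fromSpec ρ hS₀.fromSpec
          (hS₀.SpecMap_appLE_fromSpec g hT₀ hT) eφ) := by
        rw [Scheme.Pullback.range_map]
        constructor
        · rw [Set.mem_preimage]
          rw [← Scheme.Hom.comp_apply, IsPullback.isoPullback_hom_fst, hT₀.range_fromSpec]
          exact h1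
        · rw [Set.mem_preimage]
          rw [← Scheme.Hom.comp_apply, IsPullback.isoPullback_hom_snd, hρW]
          exact h2
      obtain ⟨y, hy⟩ := hm
      refine ⟨sqC.isoPullback.inv y, ?_⟩
      simp only [ι₀, Scheme.Hom.comp_apply]
      rw [← Scheme.Hom.comp_apply sqC.isoPullback.inv, Iso.inv_hom_id]
      erw [hy]
      rw [← Scheme.Hom.comp_apply, Iso.hom_inv_id]
      rfl
    have mkSq : ∀ {E : Type u} [CommRing E] [Algebra R E] {M MT : Scheme.{u}} (f : α.subring →ₐ[R] E)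
        (eE : Spec (.of E) ⟶ M) (m : M ⟶ P) (mT : MT ⟶ PT) (pM : MT ⟶ M)
        (hsq : IsPullback (Spec.map (CommRingCat.ofHom f.toRingHom)) eE ρ m) (hMT : IsPullback pM mT m pP),
        ∃ eT : Spec (.of (R' ⊗[R] E)) ⟶ MT,
          eT ≫ pM = Spec.map (CommRingCat.ofHom (Algebra.TensorProduct.includeRight : E →ₐ[R] R' ⊗[R] E).toRingHom) ≫ eE ∧
          IsPullback (Spec.map (CommRingCat.ofHom (Algebra.TensorProduct.map (AlgHom.id R R') f).toRingHom)) eT ι₀ mT := by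
      intro E _ _ M MT f eE m mT pM hsq hMT
      let top := Spec.map (CommRingCat.ofHom (Algebra.TensorProduct.map (AlgHom.id R R') f).toRingHom)
      let inE := Spec.map (CommRingCat.ofHom (Algebra.TensorProduct.includeRight : E →ₐ[R] R' ⊗[R] E).toRingHom)
      let inC := Spec.map (CommRingCat.ofHom
        (Algebra.TensorProduct.includeRight : α.subring →ₐ[R] R' ⊗[R] α.subring).toRingHom)
      have sqE := isPullback_SpecMap_of_isPushout _ _ _ _ (CommRingCat.isPushout_tensorProduct R R' E)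
      have e1 : top ≫ Spec.map (CommRingCat.ofHom (Algebra.TensorProduct.includeLeftRingHom : R' →+* R' ⊗[R] α.subring)) =
          Spec.map (CommRingCat.ofHom (Algebra.TensorProduct.includeLeftRingHom : R' →+* R' ⊗[R] E)) := by
        rw [← Spec.map_comp]
        congr 1
        ext r
        simp
      have e2 : top ≫ inC = inE ≫ Spec.map (CommRingCat.ofHom f.toRingHom) := by
        rw [← Spec.map_comp, ← Spec.map_comp]
        congr 1
      have e3 : Spec.map (CommRingCat.ofHom f.toRingHom) ≫ Spec.map φ =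
          Spec.map (CommRingCat.ofHom (algebraMap R E)) := by
        rw [← Spec.map_comp]
        congr 1
        ext r
        exact f.commutes r
      have hleft : IsPullback top inE inC (Spec.map (CommRingCat.ofHom f.toRingHom)) := by
        refine IsPullback.of_right ?_ e2 sqC
        rw [e1, e3]
        exact sqE
      have houter := hleft.paste_vert hsq
      let eT := hMT.lift (inE ≫ eE) (top ≫ ι₀) (by
        rw [Category.assoc, Category.assoc, ← hsq.w, hι₂, reassoc_of% e2])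
      refine ⟨eT, hMT.lift_fst _ _ _, ?_⟩
      refine IsPullback.flip ?_
      refine IsPullback.of_right ?_ (hMT.lift_snd _ _ _) hMT
      rw [hMT.lift_fst, hι₂]
      exact houter.flip
    obtain ⟨eA, heA, hA⟩ := mkSq hover.sndₐ α.hU.fromSpec a aT pX hρA hXT
    obtain ⟨eB, heB, hB⟩ := mkSq hover.fstₐ α.hV.fromSpec b bT pY hρB hYT
    let inA := Spec.map (CommRingCat.ofHom
      (Algebra.TensorProduct.includeRight : Γ(Z, α.W) →ₐ[R] R' ⊗[R] Γ(Z, α.W)).toRingHom)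
    let eZ := hZT.lift (inA ≫ α.hW.fromSpec) (Spec.map (CommRingCat.ofHom D'.p) ≫ eA) (by
      rw [Category.assoc, Category.assoc, heA, ← Chart.specMap_p_fromSpec, ← Category.assoc,
        ← Category.assoc, ← Spec.map_comp, ← Spec.map_comp]
      congr 2)
    refine ⟨_, _, _, _, _, _, _, _, D', ι₀, hι₀, eA, eB, eZ, hrange, hA, hB,
      (hZT.lift_snd _ _ _).symm, ?_⟩
    apply hYT.hom_ext
    · rw [Category.assoc, Category.assoc, heB, hj₁, hZT.lift_fst_assoc, Category.assoc,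
        ← Chart.specMap_q_fromSpec, ← Category.assoc, ← Category.assoc, ← Spec.map_comp, ← Spec.map_comp]
      congr 2
    · rw [Category.assoc, Category.assoc, ← hB.w, hj₂, hZT.lift_snd_assoc, Category.assoc, ← hA.w,
        ← Category.assoc, ← Category.assoc]
      exact congrArg (· ≫ ι₀) D'.isPushout_Spec.w.symm
  choose C B A' A i₁ i₂ i₃ i₄ D ι hι eA eB eZ hr hA hB hp hq using main
  refine isPushout_of_cover hj₂.symm C B A' A D ι (fun x => ?_) eA eB eZ hA hB hp hq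
  obtain ⟨S₀, hS₀, hs, -⟩ := exists_isAffineOpen_mem_and_subset (U := ⊤)
    (show q (pP x) ∈ (⊤ : S.Opens) from trivial)
  have hsT : sPT x ∈ g ⁻¹ᵁ S₀ := by
    show g (sPT x) ∈ S₀
    rw [← Scheme.Hom.comp_apply, ← hPT.w]
    exact hs
  obtain ⟨T₀, hT₀, ht, hT⟩ := exists_isAffineOpen_mem_and_subset (U := g ⁻¹ᵁ S₀) hsT
  obtain ⟨W, hW, hw, hWS⟩ := exists_isAffineOpen_mem_and_subset (U := q ⁻¹ᵁ S₀) (show pP x ∈ q ⁻¹ᵁ S₀ from hs)
  exact ⟨⟨⟨S₀, hS₀⟩, ⟨T₀, hT₀⟩, ⟨W, hW⟩, hT, hWS⟩, hr _ x ht hw⟩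


/-- Base change of a pushout along `g` when `g` is flat or the common part is flat over the base. -/
theorem isPushout_baseChange {S T X Y Z P XT YT ZT PT : Scheme.{u}} {i : Z ⟶ X} {j : Z ⟶ Y}
    [IsClosedImmersion i] [IsAffineHom j] {a : X ⟶ P} {b : Y ⟶ P} [IsAffineHom a] [IsAffineHom b]
    (hP : IsPushout i j a b) (q : P ⟶ S) (g : T ⟶ S) (hflat : Flat g ∨ Flat ((i ≫ a) ≫ q))
    {pP : PT ⟶ P} {sPT : PT ⟶ T} (hPT : IsPullback pP sPT q g)
    {pX : XT ⟶ X} {aT : XT ⟶ PT} (hXT : IsPullback pX aT a pP)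
    {pY : YT ⟶ Y} {bT : YT ⟶ PT} (hYT : IsPullback pY bT b pP)
    {pZ : ZT ⟶ Z} {iT : ZT ⟶ XT} (hZT : IsPullback pZ iT i pX)
    {jT : ZT ⟶ YT} (hj₁ : jT ≫ pY = pZ ≫ j) (hj₂ : jT ≫ bT = iT ≫ aT) :
    IsPushout iT jT aT bT :=
  isPushout_baseChange' hP q g (hflat.imp id Or.inl) hPT hXT hYT hZT hj₁ hj₂

end Groth.Agent.FerrandPush
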