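import Groth.Agent.FerrandPush.MorProps
import Mathlib.AlgebraicGeometry.Morphisms.Smooth
/-!
Flatness, finite presentation and smoothness of maps of glued schemes.
-/

set_option autoImplicit false
set_option linter.style.haveILetI false
set_option backward.isDefEq.respectTransparency false
universe u

open CategoryTheory CategoryTheory.Limits AlgebraicGeometry TensorProduct

namespace Groth.Agent.FerrandPush

namespace CartMor

variable {C B A' A C' B' A₁' A₁ : Type u} [CommRing C] [CommRing B] [CommRing A'] [CommRing A]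
  [CommRing C'] [CommRing B'] [CommRing A₁'] [CommRing A₁]
  {D : Cart C B A' A} {D' : Cart C' B' A₁' A₁} (m : CartMor D D')

/-- The glued map is flat if both factors are. -/
theorem flat (hβ : m.β.Flat) (hσ : m.σ.Flat) : m.φ.Flat := by
  algebraize [D.fst, D.snd, D.p, D.q, m.φ, m.β, m.σ]
  letI : Algebra C A := (D.q.comp D.fst).toAlgebra
  haveI : IsScalarTower C B A := IsScalarTower.of_algebraMap_eq' rfl
  haveI : IsScalarTower C A' A := IsScalarTower.of_algebraMap_eq fun c => D.w c
  obtain ⟨e₁⟩ := m.exists_equiv_fst rfl rfl rfl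
  obtain ⟨e₂⟩ := m.exists_equiv_snd rfl rfl rfl
  haveI : Module.Flat B B' := RingHom.flat_algebraMap_iff.1 hβ
  haveI : Module.Flat A' A₁' := RingHom.flat_algebraMap_iff.1 hσ
  haveI := Module.Flat.of_linearEquiv e₁.toLinearEquiv
  haveI := Module.Flat.of_linearEquiv e₂.toLinearEquiv
  exact RingHom.flat_algebraMap_iff.2
    (MilnorLib.flat C' (isFibreSquare (D := D) rfl rfl rfl rfl))

/-- The glued map is of finite presentation if both factors are and the second is flat. -/
theorem finitePresentation (hβ : m.β.FinitePresentation) (hσ : m.σ.FinitePresentation) (hσ' : m.σ.Flat) :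
    m.φ.FinitePresentation := by
  algebraize [D.fst, D.snd, D.p, D.q, m.φ, m.β, m.σ]
  letI : Algebra C A := (D.q.comp D.fst).toAlgebra
  haveI : IsScalarTower C B A := IsScalarTower.of_algebraMap_eq' rfl
  haveI : IsScalarTower C A' A := IsScalarTower.of_algebraMap_eq fun c => D.w c
  obtain ⟨e₁⟩ := m.exists_equiv_fst rfl rfl rfl
  obtain ⟨e₂⟩ := m.exists_equiv_snd rfl rfl rfl
  haveI : Algebra.FinitePresentation B B' := RingHom.finitePresentation_algebraMap.1 hβ
  haveI : Algebra.FinitePresentation A' A₁' := RingHom.finitePresentation_algebraMap.1 hσ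
  haveI : Module.Flat A' A₁' := RingHom.flat_algebraMap_iff.1 hσ'
  haveI := Algebra.FinitePresentation.equiv e₁.symm
  haveI := Algebra.FinitePresentation.equiv e₂.symm
  haveI := Module.Flat.of_linearEquiv e₂.toLinearEquiv
  exact RingHom.finitePresentation_algebraMap.2
    (MilnorLib.algebra_finitePresentation (isFibreSquare (D := D) rfl rfl rfl rfl) C')

/-- The glued map is smooth if both factors are. -/
theorem smooth (hβ : m.β.Smooth) (hσ : m.σ.Smooth) : m.φ.Smooth := by
  algebraize [D.fst, D.snd, D.p, D.q, m.φ, m.β, m.σ]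
  letI : Algebra C A := (D.q.comp D.fst).toAlgebra
  haveI : IsScalarTower C B A := IsScalarTower.of_algebraMap_eq' rfl
  haveI : IsScalarTower C A' A := IsScalarTower.of_algebraMap_eq fun c => D.w c
  obtain ⟨e₁⟩ := m.exists_equiv_fst rfl rfl rfl
  obtain ⟨e₂⟩ := m.exists_equiv_snd rfl rfl rfl
  haveI : Algebra.Smooth B B' := RingHom.smooth_algebraMap.1 hβ
  haveI : Algebra.Smooth A' A₁' := RingHom.smooth_algebraMap.1 hσ
  haveI := Algebra.Smooth.of_equiv e₁.symm
  haveI := Algebra.Smooth.of_equiv e₂.symm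
  exact RingHom.smooth_algebraMap.2
    (MilnorLib.smooth (isFibreSquare (D := D) rfl rfl rfl rfl) C')

end CartMor

variable {X Y Z P X' Y' Z' P' : Scheme.{u}} {i : Z ⟶ X} {j : Z ⟶ Y} [IsClosedImmersion i]
  [IsAffineHom j] {a : X ⟶ P} {b : Y ⟶ P} [IsAffineHom a] [IsAffineHom b] (hP : IsPushout i j a b)
  {f : X' ⟶ X} {g : Y' ⟶ Y} {i' : Z' ⟶ X'} {j' : Z' ⟶ Y'} [IsClosedImmersion i'] [IsAffineHom j']
  {c : Z' ⟶ Z} (hX : IsPullback i' c f i) (hY : IsPullback j' c g j)
  {a' : X' ⟶ P'} {b' : Y' ⟶ P'} [IsAffineHom a'] [IsAffineHom b'] (hP' : IsPushout i' j' a' b')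
  {h : P' ⟶ P} (ha : a' ≫ h = f ≫ a) (hb : b' ≫ h = g ≫ b)

include hP hX hY hP' ha hb

/-- A property of ring maps passes to maps of glued schemes. -/
theorem pushoutMap_of_charts (Q : MorphismProperty Scheme.{u})
    {QR : ∀ {R S : Type u} [CommRing R] [CommRing S], (R →+* S) → Prop} [HasRingHomProperty Q QR] [Flat f]
    [Q.IsStableUnderBaseChange] [Q.IsStableUnderComposition]
    (hopen : ∀ {U V : Scheme.{u}} (e : U ⟶ V) [IsOpenImmersion e], Q e)
    (hm : ∀ {C B A' A C' B' A₁' A₁ : Type u} [CommRing C] [CommRing B] [CommRing A'] [CommRing A]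
      [CommRing C'] [CommRing B'] [CommRing A₁'] [CommRing A₁] {D : Cart C B A' A} {D' : Cart C' B' A₁' A₁}
      (m : CartMor D D'), QR m.β → QR m.σ → m.σ.Flat → QR m.φ)
    (hf : Q f) (hg : Q g) : Q h := by
  choose α ρ α' ρ' m hρ hρ' hmem hA hB hA' hB' hφ hβ hσ using exists_local hP hX hY hP' ha hb
  let 𝒰 : P'.OpenCover := Scheme.Cover.mkOfCovers P' (fun p => (α' p).obj) ρ' (fun p => ⟨p, hmem p⟩) hρ'
  haveI := HasRingHomProperty.isLocal_ringHomProperty Q
  refine IsZariskiLocalAtSource.of_openCover 𝒰 fun p => ?_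
  show Q (ρ' p ≫ h)
  rw [← hφ p]
  have key : ∀ (Q' : MorphismProperty Scheme.{u})
      {QR' : ∀ {R S : Type u} [CommRing R] [CommRing S], (R →+* S) → Prop} [HasRingHomProperty Q' QR'] [Q'.IsStableUnderBaseChange]
      {E E' : CommRingCat.{u}} {M M' : Scheme.{u}} (x : E ⟶ E') (e : Spec E ⟶ M)
      [IsOpenImmersion e] (e' : Spec E' ⟶ M') [IsOpenImmersion e'] (t : M' ⟶ M), Q' t →
      Spec.map x ≫ e = e' ≫ t → QR' x.hom := by
    intro Q' QR' _ _ E E' M M' x e _ e' _ t ht het
    have h1 : Q' (e' ≫ t) := IsZariskiLocalAtSource.comp ht e'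
    have h2 : IsPullback (Spec.map x) (𝟙 _) e (Spec.map x ≫ e) := ⟨⟨by simp⟩,
      ⟨PullbackCone.IsLimit.mk _ (fun s => s.snd)
        (fun s => (cancel_mono e).1 (by rw [Category.assoc]; exact s.condition.symm))
        (fun s => Category.comp_id _) (fun s w _ hw => (Category.comp_id w).symm.trans hw)⟩⟩
    have h3 : Q' (Spec.map x) := MorphismProperty.of_isPullback h2.flip (by rw [het]; exact h1)
    exact (HasRingHomProperty.Spec_iff (P := Q')).mp h3
  haveI := hρ p
  have h4 : Q (Spec.map (CommRingCat.ofHom (m p).φ)) :=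
    (HasRingHomProperty.Spec_iff (P := Q)).mpr
      (hm (m p) (key Q _ _ _ g hg (hβ p)) (key Q _ _ _ f hf (hσ p)) (key @Flat _ _ _ f ‹_› (hσ p)))
  exact Q.comp_mem _ _ h4 (hopen _)

theorem flat_pushoutMap [Flat f] [Flat g] : Flat h :=
  pushoutMap_of_charts hP hX hY hP' ha hb @Flat (fun e _ => inferInstance) (fun m h1 h2 _ => m.flat h1 h2) ‹_› ‹_›

theorem finitePresentation_pushoutMap [Flat f] [LocallyOfFinitePresentation f]
    [LocallyOfFinitePresentation g] : LocallyOfFinitePresentation h :=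
  pushoutMap_of_charts hP hX hY hP' ha hb @LocallyOfFinitePresentation
    (fun e _ => inferInstance) (fun m h1 h2 h3 => m.finitePresentation h1 h2 h3) ‹_› ‹_›

theorem smooth_pushoutMap [Smooth f] [Smooth g] : Smooth h :=
  haveI : Flat f := inferInstance
  pushoutMap_of_charts hP hX hY hP' ha hb @Smooth (fun e _ => inferInstance) (fun m h1 h2 _ => m.smooth h1 h2) ‹_› ‹_›

end Groth.Agent.FerrandPush
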