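import Groth.Agent.FerrandPush.Affine

set_option autoImplicit false
universe u
open CategoryTheory CategoryTheory.Limits AlgebraicGeometry

namespace Groth.Agent.FerrandPush

/-- A Milnor square from a pullback cone in `CommRingCat`. -/
theorem exists_cart_of_isPullback {C B A' A : CommRingCat.{u}} {f : C ⟶ B} {g : C ⟶ A'}
    {q : B ⟶ A} {p : A' ⟶ A} (h : IsPullback f g q p) (hp : Function.Surjective p.hom) :
    ∃ D : Cart C B A' A, D.fst = f.hom ∧ D.snd = g.hom ∧ D.p = p.hom ∧ D.q = q.hom := by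
  refine ⟨⟨f.hom, g.hom, p.hom, q.hom, hp, fun c => ConcreteCategory.congr_hom h.w c,
    fun x y h₁ h₂ => ?_, fun b a hba => ?_⟩, rfl, rfl, rfl, rfl⟩
  · have hh : ∀ z, h.isoPullback.inv (h.isoPullback.hom z) = z := fun z => by
      rw [← ConcreteCategory.comp_apply, Iso.hom_inv_id]; rfl
    rw [← hh x, ← hh y]
    congr 1
    obtain ⟨a₁, b₁, w₁, e₁⟩ := Concrete.pullbackMk_surjective q p (h.isoPullback.hom x)
    obtain ⟨a₂, b₂, w₂, e₂⟩ := Concrete.pullbackMk_surjective q p (h.isoPullback.hom y)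
    have f₁ : ∀ z, pullback.fst q p (h.isoPullback.hom z) = f z := fun z => by
      rw [← ConcreteCategory.comp_apply, h.isoPullback_hom_fst]
    have f₂ : ∀ z, pullback.snd q p (h.isoPullback.hom z) = g z := fun z => by
      rw [← ConcreteCategory.comp_apply, h.isoPullback_hom_snd]
    have i₁ : a₁ = a₂ := by
      have := (f₁ x).trans (h₁.trans (f₁ y).symm)
      rw [e₁, e₂, Concrete.pullbackMk_fst, Concrete.pullbackMk_fst] at this
      exact this
    have i₂ : b₁ = b₂ := by
      have := (f₂ x).trans (h₂.trans (f₂ y).symm)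
      rw [e₁, e₂, Concrete.pullbackMk_snd, Concrete.pullbackMk_snd] at this
      exact this
    subst i₁ i₂
    exact e₁.trans e₂.symm
  let e := h.isoPullback
  refine ⟨e.inv (Concrete.pullbackMk q p b a hba), ?_, ?_⟩
  · rw [← ConcreteCategory.comp_apply, h.isoPullback_inv_fst, Concrete.pullbackMk_fst]
  · rw [← ConcreteCategory.comp_apply, h.isoPullback_inv_snd, Concrete.pullbackMk_snd]

theorem isPushout_Spec_of_isPullback {C B A' A : CommRingCat.{u}} {f : C ⟶ B} {g : C ⟶ A'}
    {q : B ⟶ A} {p : A' ⟶ A} (h : IsPullback f g q p) (hp : Function.Surjective p.hom) :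
    IsPushout (Spec.map p) (Spec.map q) (Spec.map g) (Spec.map f) := by
  obtain ⟨D, h₁, h₂, h₃, h₄⟩ := exists_cart_of_isPullback h hp
  have := D.isPushout_Spec
  simpa only [Cart.iA', Cart.iB, h₁, h₂, h₃, h₄, CommRingCat.ofHom_hom] using this

end Groth.Agent.FerrandPush
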