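import Groth.Agent.FerrandPush.BaseChange

/-!
# Flatness of a glued pushout
-/

set_option autoImplicit false
set_option linter.style.haveILetI false
set_option linter.unusedVariables false
universe u
open CategoryTheory CategoryTheory.Limits AlgebraicGeometry

namespace Groth.Agent.FerrandPush

theorem flat_of_exact {R M N P : Type u} [CommRing R] [AddCommGroup M] [Module R M] [AddCommGroup N]
    [Module R N] [AddCommGroup P] [Module R P] [Module.Flat R N] [Module.Flat R P] (g : M →ₗ[R] N)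
    (hg : Function.Injective g) (f : N →ₗ[R] P) (hf : Function.Surjective f) (H : Function.Exact g f) :
    Module.Flat R M := by
  refine (Module.Flat.iff_lTensor_injective' (M := M)).mpr fun I => ?_
  have h1 : Function.Injective (g.rTensor I) := by
    rw [← LinearMap.lTensor_inj_iff_rTensor_inj]
    exact LinearMap.lTensor_injective_of_exact_of_flat f hf g hg H I
  have h2 : Function.Injective (I.subtype.lTensor N) :=
    Module.Flat.lTensor_preserves_injective_linearMap _ I.injective_subtype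
  have h3 : (g.rTensor R).comp (I.subtype.lTensor M) = (I.subtype.lTensor N).comp (g.rTensor I) := by
    rw [LinearMap.rTensor_comp_lTensor, LinearMap.lTensor_comp_rTensor]
  have h4 : Function.Injective ((g.rTensor R).comp (I.subtype.lTensor M)) := by
    rw [h3]; exact h2.comp h1
  exact Function.Injective.of_comp (f := g.rTensor R) h4

theorem flat_prod {R N P : Type u} [CommRing R] [AddCommGroup N] [Module R N] [AddCommGroup P] [Module R P]
    [Module.Flat R N] [Module.Flat R P] : Module.Flat R (N × P) := by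
  refine (Module.Flat.iff_lTensor_injective' (M := N × P)).mpr fun I => ?_
  have key : ∀ x, TensorProduct.prodLeft R R N P R (I.subtype.lTensor (N × P) x) =
      Prod.map (I.subtype.lTensor N) (I.subtype.lTensor P) (TensorProduct.prodLeft R R N P I x) := fun x => by
    induction x using TensorProduct.induction_on with
    | zero => simp only [map_zero]; exact Prod.ext (by simp) (by simp)
    | tmul z r => obtain ⟨a, b⟩ := z; simp [Prod.map]
    | add x y hx hy => simp only [map_add, hx, hy]; exact Prod.ext (by simp) (by simp)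
  intro x y hxy
  apply (TensorProduct.prodLeft R R N P I).injective
  have h := congrArg (TensorProduct.prodLeft R R N P R) hxy
  rw [key, key] at h
  exact (Module.Flat.lTensor_preserves_injective_linearMap I.subtype I.injective_subtype).prodMap
    (Module.Flat.lTensor_preserves_injective_linearMap I.subtype I.injective_subtype) h

theorem Cart.flat {C B A' A R : Type u} [CommRing C] [CommRing B] [CommRing A'] [CommRing A] [CommRing R]
    (D : Cart C B A' A) [Algebra R C] [Algebra R B] [Algebra R A'] [Algebra R A] (h : D.IsOver R)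
    [Module.Flat R B] [Module.Flat R A'] [Module.Flat R A] : Module.Flat R C := by
  let g : C →ₗ[R] B × A' := h.fstₐ.toLinearMap.prod h.sndₐ.toLinearMap
  let f : B × A' →ₗ[R] A := h.qₐ.toLinearMap.coprod (-h.pₐ.toLinearMap)
  have hf : ∀ b a, f (b, a) = D.q b - D.p a := fun b a => by
    simp only [f, LinearMap.coprod_apply, LinearMap.neg_apply, sub_eq_add_neg]; rfl
  have hg : ∀ c, g c = (D.fst c, D.snd c) := fun c => rfl
  haveI : Module.Flat R (B × A') := flat_prod
  refine flat_of_exact g (fun x y e => D.ext' x y (congrArg Prod.fst e) (congrArg Prod.snd e)) f ?_ ?_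
  · intro z
    obtain ⟨a, ha⟩ := D.surj (-z)
    exact ⟨(0, a), by rw [hf, map_zero, ha, zero_sub, neg_neg]⟩
  · rintro ⟨b, a⟩
    rw [hf, sub_eq_zero]
    refine ⟨fun e => ?_, ?_⟩
    · obtain ⟨c, hc₁, hc₂⟩ := D.lift' b a e
      exact ⟨c, by rw [hg, hc₁, hc₂]⟩
    · rintro ⟨c, hc⟩
      rw [hg, Prod.mk.injEq] at hc
      rw [← hc.1, ← hc.2, D.w]

theorem hom_flat_of_flat_comp {R E : CommRingCat.{u}} {S M : Scheme.{u}} (φ : R ⟶ E)
    (s : Spec R ⟶ S) [IsOpenImmersion s] (e : Spec E ⟶ M) [IsOpenImmersion e] (t : M ⟶ S) [Flat t]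
    (h : Spec.map φ ≫ s = e ≫ t) : φ.hom.Flat := by
  haveI : Flat (Spec.map φ ≫ s) := h ▸ inferInstance
  rw [← Flat.SpecMap_iff]
  have hw : 𝟙 (Spec E) ≫ (Spec.map φ ≫ s) = Spec.map φ ≫ s := Category.id_comp _
  have hpb : IsPullback (Spec.map φ) (𝟙 (Spec E)) s (Spec.map φ ≫ s) :=
    ⟨⟨hw.symm⟩, ⟨PullbackCone.isLimitAux' _ fun c =>
      ⟨c.snd, (cancel_mono s).mp ((Category.assoc _ _ _).trans c.condition.symm), Category.comp_id _,
        fun _ hm => (Category.comp_id _).symm.trans hm⟩⟩⟩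
  exact MorphismProperty.of_isPullback hpb.flip ‹_›

/-- Flatness over the base descends to the pushout. -/
theorem flat_of_isPushout {S X Y Z P : Scheme.{u}} {i : Z ⟶ X} {j : Z ⟶ Y}
    [IsClosedImmersion i] [IsAffineHom j] {a : X ⟶ P} {b : Y ⟶ P} [IsAffineHom a] [IsAffineHom b]
    (hP : IsPushout i j a b) (q : P ⟶ S) [Flat (a ≫ q)] [Flat (b ≫ q)] [Flat (j ≫ b ≫ q)] :
    Flat q := by
  let K := Σ' (S₀ : S.affineOpens) (W : P.affineOpens), W.1 ≤ q ⁻¹ᵁ S₀.1
  have main : ∀ k : K, ∃ (C : CommRingCat.{u}) (ρ : Spec C ⟶ P), IsOpenImmersion ρ ∧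
      Set.range ρ = (k.2.1.1 : Set P) ∧ Flat (ρ ≫ q) := by
    rintro ⟨⟨S₀, hS₀⟩, ⟨W, hW⟩, hWS⟩
    obtain ⟨α, ρ, hρo, hρW, hρA, hρB⟩ := exists_cart_of_affineOpen hP hW
    have hlift : Set.range (ρ ≫ q) ⊆ Set.range hS₀.fromSpec := by
      rintro _ ⟨c, rfl⟩
      rw [hS₀.range_fromSpec, Scheme.Hom.comp_apply]
      exact hWS (show ρ c ∈ (W : Set P) from hρW ▸ ⟨c, rfl⟩)
    obtain ⟨φ, hφ⟩ := Spec.map_surjective (IsOpenImmersion.lift hS₀.fromSpec (ρ ≫ q) hlift)
    have eφ : Spec.map φ ≫ hS₀.fromSpec = ρ ≫ q := by rw [hφ, IsOpenImmersion.lift_fac]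
    have key : ∀ {E : CommRingCat.{u}} {M : Scheme.{u}} (f : CommRingCat.of α.subring ⟶ E)
        (e : Spec E ⟶ M) [IsOpenImmersion e] (t : M ⟶ P) [Flat (t ≫ q)],
        Spec.map f ≫ ρ = e ≫ t → (φ ≫ f).hom.Flat := by
      intro E M f e _ t _ het
      refine hom_flat_of_flat_comp _ hS₀.fromSpec e (t ≫ q) ?_
      rw [Spec.map_comp, Category.assoc, eφ, reassoc_of% het]
    have eZ : (Spec.map (CommRingCat.ofHom α.cart.q) ≫ α.cart.iB) ≫ ρ = α.hW.fromSpec ≫ j ≫ b := by
      rw [Category.assoc, hρB.w, reassoc_of% (Chart.specMap_q_fromSpec (α := α))]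
    have hB := key (CommRingCat.ofHom α.cart.fst) α.hV.fromSpec b hρB.w
    have hA' := key (CommRingCat.ofHom α.cart.snd) α.hU.fromSpec a hρA.w
    haveI : Flat ((j ≫ b) ≫ q) := by rw [Category.assoc]; infer_instance
    have hA := key (CommRingCat.ofHom α.cart.fst ≫ CommRingCat.ofHom α.cart.q) α.hW.fromSpec (j ≫ b)
      (by rw [Spec.map_comp]; exact eZ)
    let R : Type u := Γ(S, S₀)
    letI : Algebra R α.subring := φ.hom.toAlgebra
    letI : Algebra R Γ(Y, α.V) := (α.cart.fst.comp φ.hom).toAlgebra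
    letI : Algebra R Γ(X, α.U) := (α.cart.snd.comp φ.hom).toAlgebra
    letI : Algebra R Γ(Z, α.W) := ((α.cart.q.comp α.cart.fst).comp φ.hom).toAlgebra
    haveI : Module.Flat R Γ(Y, α.V) := hB
    haveI : Module.Flat R Γ(X, α.U) := hA'
    haveI : Module.Flat R Γ(Z, α.W) := hA
    have hover : α.cart.IsOver R := ⟨fun _ => rfl, fun _ => rfl, fun r => (α.cart.w _).symm⟩
    have hC : φ.hom.Flat := α.cart.flat hover
    refine ⟨_, ρ, hρo, hρW, ?_⟩
    haveI : Flat (Spec.map φ) := Flat.SpecMap_iff.mpr hC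
    rw [← eφ]
    infer_instance
  choose C ρ hρ hr hflat using main
  let 𝒰 : P.OpenCover := Scheme.Cover.mkOfCovers K (fun k => Spec (C k)) ρ (fun x => by
    obtain ⟨S₀, hS₀, hs, -⟩ := exists_isAffineOpen_mem_and_subset (U := ⊤)
      (show q x ∈ (⊤ : S.Opens) from trivial)
    obtain ⟨W, hW, hw, hWS⟩ := exists_isAffineOpen_mem_and_subset (U := q ⁻¹ᵁ S₀) hs
    obtain ⟨y, hy⟩ : x ∈ Set.range (ρ ⟨⟨S₀, hS₀⟩, ⟨W, hW⟩, hWS⟩) := by rw [hr]; exact hw
    exact ⟨⟨⟨S₀, hS₀⟩, ⟨W, hW⟩, hWS⟩, y, hy⟩) hρ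
  exact IsZariskiLocalAtSource.of_openCover 𝒰 hflat

end Groth.Agent.FerrandPush
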