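import Groth.Agent.FerrandPush.Opens

/-!
# Spectra of Milnor squares are pushouts of schemes
-/

set_option autoImplicit false
set_option linter.style.haveILetI false
universe u
open CategoryTheory CategoryTheory.Limits AlgebraicGeometry

namespace Groth.Agent.FerrandPush

theorem exists_affine_mem (T : Scheme.{u}) (t : T) :
    ∃ i : T.affineOpens, t ∈ Set.range (i.2.fromSpec) := by
  obtain ⟨U, hU, ht, -⟩ := exists_isAffineOpen_mem_and_subset (U := ⊤) (show t ∈ (⊤ : T.Opens) from trivial)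
  exact ⟨⟨U, hU⟩, by rw [hU.range_fromSpec]; exact ht⟩

theorem range_Spec_away {R : Type u} [CommRing R] (c : R) :
    Set.range (Spec.map (CommRingCat.ofHom (algebraMap R (Localization.Away c)))) =
      (PrimeSpectrum.basicOpen c : Set (PrimeSpectrum R)) :=
  PrimeSpectrum.localization_away_comap_range (Localization.Away c) c

namespace Cart

variable {C B A' A : Type u} [CommRing C] [CommRing B] [CommRing A'] [CommRing A]
  (D : Cart C B A' A)

noncomputable abbrev iB : Spec (.of B) ⟶ Spec (.of C) := Spec.map (CommRingCat.ofHom D.fst)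
noncomputable abbrev iA' : Spec (.of A') ⟶ Spec (.of C) := Spec.map (CommRingCat.ofHom D.snd)

theorem away_comp_fst (c : C) :
    Spec.map (CommRingCat.ofHom (D.away c).fst) ≫ Spec.map (CommRingCat.ofHom (algebraMap C _)) =
      Spec.map (CommRingCat.ofHom (algebraMap B _)) ≫ D.iB := by
  rw [iB, ← Spec.map_comp, ← Spec.map_comp]
  congr 1
  ext x
  exact D.away_fst_algebraMap c x

theorem away_comp_snd (c : C) :
    Spec.map (CommRingCat.ofHom (D.away c).snd) ≫ Spec.map (CommRingCat.ofHom (algebraMap C _)) =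
      Spec.map (CommRingCat.ofHom (algebraMap A' _)) ≫ D.iA' := by
  rw [iA', ← Spec.map_comp, ← Spec.map_comp]
  congr 1
  ext x
  exact D.away_snd_algebraMap c x

/-- Morphisms out of `Spec C` are determined by their restrictions, open version. -/
theorem hom_ext_of_isOpenImmersion {U T : Scheme.{u}} (ι : U ⟶ Spec (.of C)) [IsOpenImmersion ι]
    (g h : U ⟶ T)
    (hB : ∀ (W : Scheme.{u}) (r : W ⟶ U) (s : W ⟶ Spec (.of B)), r ≫ ι = s ≫ D.iB → r ≫ g = r ≫ h)
    (hA : ∀ (W : Scheme.{u}) (r : W ⟶ U) (s : W ⟶ Spec (.of A')), r ≫ ι = s ≫ D.iA' → r ≫ g = r ≫ h) :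
    g = h := by
  have pts : ∀ x : U, g x = h x := by
    intro x
    have key : ∀ {E : Scheme.{u}} (j : E ⟶ Spec (.of C)) (y : E), j y = ι x →
        (∀ (W : Scheme.{u}) (r : W ⟶ U) (s : W ⟶ E), r ≫ ι = s ≫ j → r ≫ g = r ≫ h) → g x = h x := by
      intro E j y hy hE
      let s := E.fromSpecResidueField y
      have hrange : Set.range (s ≫ j) ⊆ Set.range ι := by
        rintro _ ⟨z, rfl⟩
        refine ⟨x, ?_⟩
        rw [Scheme.Hom.comp_apply, Scheme.fromSpecResidueField_apply]
        exact hy.symm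
      let r := IsOpenImmersion.lift ι (s ≫ j) hrange
      have hr : r ≫ ι = s ≫ j := IsOpenImmersion.lift_fac _ _ _
      have hrx : r (IsLocalRing.closedPoint _) = x := by
        apply ι.isOpenEmbedding.injective
        rw [← Scheme.Hom.comp_apply, hr, Scheme.Hom.comp_apply, Scheme.fromSpecResidueField_apply]
        exact hy
      have := congrArg (fun t => t (IsLocalRing.closedPoint (E.residueField y))) (hE _ r s hr)
      simp only [Scheme.Hom.comp_apply, hrx] at this
      exact this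
    rcases D.exists_prime (ι x) with ⟨y, hy⟩ | ⟨y, hy⟩
    · exact key D.iB y hy hB
    · exact key D.iA' y hy hA
  have loc : ∀ x : U, ∃ (V : Scheme.{u}) (k : V ⟶ U) (_ : IsOpenImmersion k),
      x ∈ Set.range k ∧ k ≫ g = k ≫ h := by
    intro x
    obtain ⟨i, y, hy⟩ := exists_affine_mem T (g x)
    let O := (i.2.fromSpec).opensRange
    have hO : IsOpen (ι '' (g ⁻¹ᵁ O : Set U)) := ι.isOpenEmbedding.isOpenMap _ (g ⁻¹ᵁ O).isOpen
    obtain ⟨_, ⟨c, rfl⟩, hxc, hcV⟩ :=
      PrimeSpectrum.isTopologicalBasis_basic_opens.exists_subset_of_mem_open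
        (show (ι x : PrimeSpectrum C) ∈ ι '' (g ⁻¹ᵁ O : Set U) from ⟨x, ⟨y, hy⟩, rfl⟩) hO
    let a := Spec.map (CommRingCat.ofHom (algebraMap C (Localization.Away c)))
    have ha : Set.range a ⊆ Set.range ι := by
      rw [range_Spec_away]
      exact hcV.trans (Set.image_subset_range _ _)
    let k := IsOpenImmersion.lift ι a ha
    have hk : k ≫ ι = a := IsOpenImmersion.lift_fac _ _ _
    haveI : IsOpenImmersion a := .of_isLocalization c
    haveI : IsOpenImmersion (k ≫ ι) := hk ▸ inferInstance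
    haveI : IsOpenImmersion k := IsOpenImmersion.of_comp k ι
    refine ⟨_, k, inferInstance, ?_, ?_⟩
    · obtain ⟨z, hz⟩ : (ι x : PrimeSpectrum C) ∈ Set.range a := by rw [range_Spec_away]; exact hxc
      exact ⟨z, ι.isOpenEmbedding.injective (by rw [← Scheme.Hom.comp_apply, hk]; exact hz)⟩
    · have hg : ∀ z, g (k z) ∈ Set.range (i.2.fromSpec) := by
        intro z
        have : ι (k z) ∈ (PrimeSpectrum.basicOpen c : Set (PrimeSpectrum C)) := by
          rw [← range_Spec_away, ← Scheme.Hom.comp_apply, hk]; exact ⟨z, rfl⟩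
        obtain ⟨w, hw, hwz⟩ := hcV this
        rw [← ι.isOpenEmbedding.injective hwz]
        exact hw
      have hgr : Set.range (k ≫ g) ⊆ Set.range (i.2.fromSpec) := by
        rintro _ ⟨z, rfl⟩; exact hg z
      have hhr : Set.range (k ≫ h) ⊆ Set.range (i.2.fromSpec) := by
        rintro _ ⟨z, rfl⟩
        rw [Scheme.Hom.comp_apply, ← pts]
        exact hg z
      let g' := IsOpenImmersion.lift (i.2.fromSpec) _ hgr
      let h' := IsOpenImmersion.lift (i.2.fromSpec) _ hhr
      suffices hgh : g' = h' by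
        rw [← IsOpenImmersion.lift_fac _ _ hgr, ← IsOpenImmersion.lift_fac _ _ hhr]
        exact congrArg (fun t => t ≫ _) hgh
      obtain ⟨φ, hφ⟩ := Spec.map_surjective g'
      obtain ⟨ψ, hψ⟩ := Spec.map_surjective h'
      rw [← hφ, ← hψ]
      congr 1
      refine CommRingCat.hom_ext ((D.away c).hom_ext ?_ ?_)
      · have e1 := hB _ (Spec.map (CommRingCat.ofHom (D.away c).fst) ≫ k)
          (Spec.map (CommRingCat.ofHom (algebraMap B _)))
          (by rw [Category.assoc, hk]; exact D.away_comp_fst c)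
        have e2 : Spec.map (φ ≫ CommRingCat.ofHom (D.away c).fst) =
            Spec.map (ψ ≫ CommRingCat.ofHom (D.away c).fst) := by
          rw [Spec.map_comp, Spec.map_comp, hφ, hψ, ← cancel_mono (i.2.fromSpec),
            Category.assoc, Category.assoc, IsOpenImmersion.lift_fac, IsOpenImmersion.lift_fac]
          simpa only [Category.assoc] using e1
        exact congrArg CommRingCat.Hom.hom (Spec.map_injective e2)
      · have e1 := hA _ (Spec.map (CommRingCat.ofHom (D.away c).snd) ≫ k)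
          (Spec.map (CommRingCat.ofHom (algebraMap A' _)))
          (by rw [Category.assoc, hk]; exact D.away_comp_snd c)
        have e2 : Spec.map (φ ≫ CommRingCat.ofHom (D.away c).snd) =
            Spec.map (ψ ≫ CommRingCat.ofHom (D.away c).snd) := by
          rw [Spec.map_comp, Spec.map_comp, hφ, hψ, ← cancel_mono (i.2.fromSpec),
            Category.assoc, Category.assoc, IsOpenImmersion.lift_fac, IsOpenImmersion.lift_fac]
          simpa only [Category.assoc] using e1
        exact congrArg CommRingCat.Hom.hom (Spec.map_injective e2)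
  choose V k hk hx hkgh using loc
  let 𝒰 : U.OpenCover := Scheme.Cover.mkOfCovers U V k (fun x => ⟨x, hx x⟩) hk
  exact 𝒰.hom_ext _ _ fun x => hkgh x

/-- Extension of a compatible pair to a morphism on an open subscheme of `Spec C`. -/
theorem exists_desc_open {O U V T : Scheme.{u}} (ι : O ⟶ Spec (.of C)) [IsOpenImmersion ι]
    (eA : U ⟶ Spec (.of A')) [IsOpenImmersion eA] (eB : V ⟶ Spec (.of B)) [IsOpenImmersion eB]
    (hA : Set.range eA = D.iA' ⁻¹' Set.range ι) (hB : Set.range eB = D.iB ⁻¹' Set.range ι)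
    (u : U ⟶ T) (v : V ⟶ T)
    (hw : ∀ (W : Scheme.{u}) (r : W ⟶ U) (s : W ⟶ V) (t : W ⟶ Spec (.of A)),
      r ≫ eA = t ≫ Spec.map (CommRingCat.ofHom D.p) → s ≫ eB = t ≫ Spec.map (CommRingCat.ofHom D.q) →
      r ≫ u = s ≫ v) :
    ∃ l : O ⟶ T, (∀ (W : Scheme.{u}) (r : W ⟶ O) (s : W ⟶ V), r ≫ ι = (s ≫ eB) ≫ D.iB → r ≫ l = s ≫ v) ∧
      (∀ (W : Scheme.{u}) (r : W ⟶ O) (s : W ⟶ U), r ≫ ι = (s ≫ eA) ≫ D.iA' → r ≫ l = s ≫ u) := by
  have loc : ∀ x : O, ∃ (Q : Scheme.{u}) (k : Q ⟶ O) (_ : IsOpenImmersion k), x ∈ Set.range k ∧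
      ∃ l : Q ⟶ T,
        (∀ (W : Scheme.{u}) (r : W ⟶ Q) (s : W ⟶ V), r ≫ k ≫ ι = (s ≫ eB) ≫ D.iB → r ≫ l = s ≫ v) ∧
        (∀ (W : Scheme.{u}) (r : W ⟶ Q) (s : W ⟶ U), r ≫ k ≫ ι = (s ≫ eA) ≫ D.iA' → r ≫ l = s ≫ u) := by
    intro x
    have comp : ∀ (w : PrimeSpectrum A) (y : U), eA y = PrimeSpectrum.comap D.p w →
        ∃ z : V, eB z = PrimeSpectrum.comap D.q w ∧ u y = v z := by
      intro w y hy
      have h1 : PrimeSpectrum.comap D.q w ∈ Set.range eB := by
        rw [hB]
        have h2 : D.iA' (eA y) ∈ Set.range ι := (Set.ext_iff.mp hA (eA y)).mp ⟨y, rfl⟩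
        rw [hy] at h2
        show PrimeSpectrum.comap D.fst (PrimeSpectrum.comap D.q w) ∈ Set.range ι
        rw [D.comap_w]
        exact h2
      obtain ⟨z, hz⟩ := h1
      refine ⟨z, hz, ?_⟩
      let s := (Spec (CommRingCat.of A)).fromSpecResidueField w
      have hsA : Set.range (s ≫ Spec.map (CommRingCat.ofHom D.p)) ⊆ Set.range eA := by
        rintro _ ⟨o, rfl⟩
        rw [Scheme.Hom.comp_apply, Scheme.fromSpecResidueField_apply]
        exact ⟨y, hy⟩
      have hsB : Set.range (s ≫ Spec.map (CommRingCat.ofHom D.q)) ⊆ Set.range eB := by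
        rintro _ ⟨o, rfl⟩
        rw [Scheme.Hom.comp_apply, Scheme.fromSpecResidueField_apply]
        exact ⟨z, hz⟩
      have h3 := congrArg (fun t => t (IsLocalRing.closedPoint ((Spec (CommRingCat.of A)).residueField w)))
        (hw _ (IsOpenImmersion.lift eA _ hsA) (IsOpenImmersion.lift eB _ hsB) s
          (IsOpenImmersion.lift_fac _ _ _) (IsOpenImmersion.lift_fac _ _ _))
      simp only [Scheme.Hom.comp_apply] at h3
      have hy' : IsOpenImmersion.lift eA _ hsA (IsLocalRing.closedPoint _) = y := by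
        apply eA.isOpenEmbedding.injective
        rw [← Scheme.Hom.comp_apply, IsOpenImmersion.lift_fac, Scheme.Hom.comp_apply,
          Scheme.fromSpecResidueField_apply]
        exact hy.symm
      have hz' : IsOpenImmersion.lift eB _ hsB (IsLocalRing.closedPoint _) = z := by
        apply eB.isOpenEmbedding.injective
        rw [← Scheme.Hom.comp_apply, IsOpenImmersion.lift_fac, Scheme.Hom.comp_apply,
          Scheme.fromSpecResidueField_apply]
        exact hz.symm
      rwa [hy', hz'] at h3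
    have comp' : ∀ (w : PrimeSpectrum A) (z : V), eB z = PrimeSpectrum.comap D.q w →
        ∃ y : U, eA y = PrimeSpectrum.comap D.p w ∧ u y = v z := by
      intro w z hz
      have h1 : PrimeSpectrum.comap D.p w ∈ Set.range eA := by
        rw [hA]
        have h2 : D.iB (eB z) ∈ Set.range ι := (Set.ext_iff.mp hB (eB z)).mp ⟨z, rfl⟩
        rw [hz] at h2
        show PrimeSpectrum.comap D.snd (PrimeSpectrum.comap D.p w) ∈ Set.range ι
        rw [← D.comap_w]
        exact h2
      obtain ⟨y, hy⟩ := h1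
      obtain ⟨z', hz', he⟩ := comp w y hy
      exact ⟨y, hy, (eB.isOpenEmbedding.injective (hz'.trans hz.symm)) ▸ he⟩
    have hx0 : (∃ y : U, D.iA' (eA y) = ι x) ∨ ∃ z : V, D.iB (eB z) = ι x := by
      rcases D.exists_prime (ι x) with ⟨y, hy⟩ | ⟨y, hy⟩
      · obtain ⟨z, rfl⟩ : y ∈ Set.range eB := by rw [hB]; exact ⟨x, hy.symm⟩
        exact Or.inr ⟨z, hy⟩
      · obtain ⟨z, rfl⟩ : y ∈ Set.range eA := by rw [hA]; exact ⟨x, hy.symm⟩
        exact Or.inl ⟨z, hy⟩
    obtain ⟨i, hxi⟩ : ∃ i : T.affineOpens,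
        (ι x : PrimeSpectrum C) ∈ D.glueSet (eA '' (u ⁻¹' Set.range i.2.fromSpec))
          (eB '' (v ⁻¹' Set.range i.2.fromSpec)) := by
      rcases hx0 with ⟨y, hy⟩ | ⟨z, hz⟩
      · obtain ⟨i, hi⟩ := exists_affine_mem T (u y)
        exact ⟨i, Or.inr ⟨eA y, ⟨y, hi, rfl⟩, hy⟩⟩
      · obtain ⟨i, hi⟩ := exists_affine_mem T (v z)
        exact ⟨i, Or.inl ⟨eB z, ⟨z, hi, rfl⟩, hz⟩⟩
    have hsat : D.IsSat (eA '' (u ⁻¹' Set.range i.2.fromSpec))
        (eB '' (v ⁻¹' Set.range i.2.fromSpec)) := by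
      intro w
      constructor
      · rintro ⟨y, hy, e⟩
        obtain ⟨z, hz, he⟩ := comp w y e
        exact ⟨z, by rw [Set.mem_preimage, ← he]; exact hy, hz⟩
      · rintro ⟨z, hz, e⟩
        obtain ⟨y, hy, he⟩ := comp' w z e
        exact ⟨y, by rw [Set.mem_preimage, he]; exact hz, hy⟩
    have hiO : IsOpen (Set.range i.2.fromSpec) := i.2.fromSpec.isOpenEmbedding.isOpen_range
    obtain ⟨c, hcx, hcB, hcA⟩ := D.exists_elem hsat
      (eA.isOpenEmbedding.isOpenMap _ (hiO.preimage u.continuous))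
      (eB.isOpenEmbedding.isOpenMap _ (hiO.preimage v.continuous)) hxi
    let aB := Spec.map (CommRingCat.ofHom (algebraMap B (Localization.Away (D.fst c))))
    let aA := Spec.map (CommRingCat.ofHom (algebraMap A' (Localization.Away (D.snd c))))
    let aC := Spec.map (CommRingCat.ofHom (algebraMap C (Localization.Away c)))
    haveI : IsOpenImmersion aB := .of_isLocalization (D.fst c)
    haveI : IsOpenImmersion aA := .of_isLocalization (D.snd c)
    haveI : IsOpenImmersion aC := .of_isLocalization c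
    have hsubA : Set.range aA ⊆ Set.range eA := by
      rintro _ ⟨z, rfl⟩
      exact Set.image_subset_range _ _ (hcA _ ((range_Spec_away (D.snd c)).le ⟨z, rfl⟩))
    have hsubB : Set.range aB ⊆ Set.range eB := by
      rintro _ ⟨z, rfl⟩
      exact Set.image_subset_range _ _ (hcB _ ((range_Spec_away (D.fst c)).le ⟨z, rfl⟩))
    let kA := IsOpenImmersion.lift eA aA hsubA
    let kB := IsOpenImmersion.lift eB aB hsubB
    have hkA : kA ≫ eA = aA := IsOpenImmersion.lift_fac _ _ _
    have hkB : kB ≫ eB = aB := IsOpenImmersion.lift_fac _ _ _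
    have hrA : Set.range (kA ≫ u) ⊆ Set.range i.2.fromSpec := by
      rintro _ ⟨z, rfl⟩
      obtain ⟨y, hy, e⟩ := hcA (aA z) ((range_Spec_away (D.snd c)).le ⟨z, rfl⟩)
      rw [Scheme.Hom.comp_apply, show kA z = y from eA.isOpenEmbedding.injective
        (by rw [← Scheme.Hom.comp_apply, hkA, e])]
      exact hy
    have hrB : Set.range (kB ≫ v) ⊆ Set.range i.2.fromSpec := by
      rintro _ ⟨z, rfl⟩
      obtain ⟨y, hy, e⟩ := hcB (aB z) ((range_Spec_away (D.fst c)).le ⟨z, rfl⟩)
      rw [Scheme.Hom.comp_apply, show kB z = y from eB.isOpenEmbedding.injective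
        (by rw [← Scheme.Hom.comp_apply, hkB, e])]
      exact hy
    obtain ⟨β, hβ⟩ := Spec.map_surjective (IsOpenImmersion.lift i.2.fromSpec _ hrB)
    obtain ⟨α, hα⟩ := Spec.map_surjective (IsOpenImmersion.lift i.2.fromSpec _ hrA)
    have eβ : Spec.map β ≫ i.2.fromSpec = kB ≫ v := by rw [hβ, IsOpenImmersion.lift_fac]
    have eα : Spec.map α ≫ i.2.fromSpec = kA ≫ u := by rw [hα, IsOpenImmersion.lift_fac]
    have hq : Spec.map (CommRingCat.ofHom (D.away c).q) ≫ aB =
        Spec.map (CommRingCat.ofHom (algebraMap A (Localization.Away (D.p (D.snd c))))) ≫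
          Spec.map (CommRingCat.ofHom D.q) := by
      rw [← Spec.map_comp, ← Spec.map_comp]
      congr 1
      ext z
      exact D.away_q_algebraMap c z
    have hp : Spec.map (CommRingCat.ofHom (D.away c).p) ≫ aA =
        Spec.map (CommRingCat.ofHom (algebraMap A (Localization.Away (D.p (D.snd c))))) ≫
          Spec.map (CommRingCat.ofHom D.p) := by
      rw [← Spec.map_comp, ← Spec.map_comp]
      congr 1
      ext z
      exact D.away_p_algebraMap c z
    have compat : α ≫ CommRingCat.ofHom (D.away c).p = β ≫ CommRingCat.ofHom (D.away c).q := by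
      apply Spec.map_injective
      rw [Spec.map_comp, Spec.map_comp, ← cancel_mono i.2.fromSpec, Category.assoc, Category.assoc,
        eα, eβ, ← Category.assoc, ← Category.assoc]
      exact hw _ _ _ (Spec.map (CommRingCat.ofHom (algebraMap A (Localization.Away (D.p (D.snd c))))))
        (by rw [Category.assoc, hkA, hp]) (by rw [Category.assoc, hkB, hq])
    obtain ⟨γ, hγ₁, hγ₂⟩ := (D.away c).exists_hom β.hom α.hom
      (fun r => (RingHom.congr_fun (congrArg CommRingCat.Hom.hom compat) r).symm)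
    have hsubC : Set.range aC ⊆ Set.range ι := by
      rintro _ ⟨z, rfl⟩
      have h1 := D.basicOpen_subset_glueSet hcB hcA ((range_Spec_away c).le ⟨z, rfl⟩)
      rcases h1 with ⟨_, ⟨y, -, rfl⟩, e⟩ | ⟨_, ⟨y, -, rfl⟩, e⟩
      · exact e ▸ (Set.ext_iff.mp hB (eB y)).mp ⟨y, rfl⟩
      · exact e ▸ (Set.ext_iff.mp hA (eA y)).mp ⟨y, rfl⟩
    let k := IsOpenImmersion.lift ι aC hsubC
    have hk : k ≫ ι = aC := IsOpenImmersion.lift_fac _ _ _
    haveI : IsOpenImmersion (k ≫ ι) := hk ▸ inferInstance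
    haveI : IsOpenImmersion k := IsOpenImmersion.of_comp k ι
    refine ⟨_, k, inferInstance, ?_, Spec.map (CommRingCat.ofHom γ) ≫ i.2.fromSpec,
      fun W r s hrs => ?_, fun W r s hrs => ?_⟩
    · obtain ⟨z, hz⟩ : (ι x : PrimeSpectrum C) ∈ Set.range aC := by
        rw [range_Spec_away]; exact hcx
      exact ⟨z, ι.isOpenEmbedding.injective (by rw [← Scheme.Hom.comp_apply, hk]; exact hz)⟩
    · rw [hk] at hrs
      have hs : Set.range (s ≫ eB) ⊆ Set.range aB := by
        rintro _ ⟨z, rfl⟩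
        rw [range_Spec_away]
        have h0 : (r ≫ aC) z ∈ Set.range aC := ⟨r z, rfl⟩
        rw [hrs, range_Spec_away] at h0
        exact h0
      let s' := IsOpenImmersion.lift aB (s ≫ eB) hs
      have hs' : s' ≫ aB = s ≫ eB := IsOpenImmersion.lift_fac _ _ _
      have hr : r = s' ≫ Spec.map (CommRingCat.ofHom (D.away c).fst) := by
        rw [← cancel_mono aC, hrs, ← hs', Category.assoc, Category.assoc, D.away_comp_fst c]
      have hs2 : s' ≫ kB = s := by rw [← cancel_mono eB, Category.assoc, hkB, hs']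
      rw [hr, Category.assoc, ← Spec.map_comp_assoc]
      have : CommRingCat.ofHom γ ≫ CommRingCat.ofHom (D.away c).fst = β := CommRingCat.hom_ext hγ₁
      rw [this, eβ, reassoc_of% hs2]
    · rw [hk] at hrs
      have hs : Set.range (s ≫ eA) ⊆ Set.range aA := by
        rintro _ ⟨z, rfl⟩
        rw [range_Spec_away]
        have h0 : (r ≫ aC) z ∈ Set.range aC := ⟨r z, rfl⟩
        rw [hrs, range_Spec_away] at h0
        exact h0
      let s' := IsOpenImmersion.lift aA (s ≫ eA) hs
      have hs' : s' ≫ aA = s ≫ eA := IsOpenImmersion.lift_fac _ _ _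
      have hr : r = s' ≫ Spec.map (CommRingCat.ofHom (D.away c).snd) := by
        rw [← cancel_mono aC, hrs, ← hs', Category.assoc, Category.assoc, D.away_comp_snd c]
      have hs2 : s' ≫ kA = s := by rw [← cancel_mono eA, Category.assoc, hkA, hs']
      rw [hr, Category.assoc, ← Spec.map_comp_assoc]
      have : CommRingCat.ofHom γ ≫ CommRingCat.ofHom (D.away c).snd = α := CommRingCat.hom_ext hγ₂
      rw [this, eα, reassoc_of% hs2]
  choose Q k hk hx l hlB hlA using loc
  let 𝒰 : O.OpenCover := Scheme.Cover.mkOfCovers O Q k (fun x => ⟨x, hx x⟩) hk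
  haveI : ∀ P, IsOpenImmersion (𝒰.f P) := hk
  have glue : ∀ P R, pullback.fst (𝒰.f P) (𝒰.f R) ≫ l P = pullback.snd (𝒰.f P) (𝒰.f R) ≫ l R := by
    intro P R
    refine D.hom_ext_of_isOpenImmersion (pullback.fst (𝒰.f P) (𝒰.f R) ≫ 𝒰.f P ≫ ι) _ _ ?_ ?_
    · intro W r s hrs
      have hs : Set.range s ⊆ Set.range eB := by
        rintro _ ⟨z, rfl⟩
        rw [hB]
        exact ⟨(r ≫ pullback.fst (𝒰.f P) (𝒰.f R) ≫ 𝒰.f P) z, by
          have := congrArg (fun t => t z) hrs
          simp only [Scheme.Hom.comp_apply] at this ⊢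
          exact this⟩
      obtain ⟨s, rfl⟩ : ∃ s', s' ≫ eB = s := ⟨_, IsOpenImmersion.lift_fac eB s hs⟩
      refine (Category.assoc _ _ _).symm.trans ((hlB P W _ s ?_).trans ((hlB R W _ s ?_).symm.trans (Category.assoc _ _ _)))
      · exact (Category.assoc _ _ _).trans hrs
      · exact (Category.assoc _ _ _).trans ((congrArg (r ≫ ·) ((reassoc_of% pullback.condition (f := 𝒰.f P) (g := 𝒰.f R)) ι).symm).trans hrs)
    · intro W r s hrs
      have hs : Set.range s ⊆ Set.range eA := by
        rintro _ ⟨z, rfl⟩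
        rw [hA]
        exact ⟨(r ≫ pullback.fst (𝒰.f P) (𝒰.f R) ≫ 𝒰.f P) z, by
          have := congrArg (fun t => t z) hrs
          simp only [Scheme.Hom.comp_apply] at this ⊢
          exact this⟩
      obtain ⟨s, rfl⟩ : ∃ s', s' ≫ eA = s := ⟨_, IsOpenImmersion.lift_fac eA s hs⟩
      refine (Category.assoc _ _ _).symm.trans ((hlA P W _ s ?_).trans ((hlA R W _ s ?_).symm.trans (Category.assoc _ _ _)))
      · exact (Category.assoc _ _ _).trans hrs
      · exact (Category.assoc _ _ _).trans ((congrArg (r ≫ ·) ((reassoc_of% pullback.condition (f := 𝒰.f P) (g := 𝒰.f R)) ι).symm).trans hrs)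
  refine ⟨𝒰.glueMorphisms l glue, fun W r s hrs => ?_, fun W r s hrs => ?_⟩
  · refine (𝒰.pullback₁ r).hom_ext fun P => ?_
    show pullback.fst r (𝒰.f P) ≫ r ≫ 𝒰.glueMorphisms l glue = pullback.fst r (𝒰.f P) ≫ s ≫ v
    rw [pullback.condition_assoc, Scheme.Cover.ι_glueMorphisms, ← Category.assoc (pullback.fst _ _) s v]
    refine hlB P _ _ _ ?_
    rw [Category.assoc (pullback.fst _ _) s eB, Category.assoc (pullback.fst _ _) _ D.iB, ← hrs]
    exact ((reassoc_of% pullback.condition (f := r) (g := 𝒰.f P)) ι).symm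
  · refine (𝒰.pullback₁ r).hom_ext fun P => ?_
    show pullback.fst r (𝒰.f P) ≫ r ≫ 𝒰.glueMorphisms l glue = pullback.fst r (𝒰.f P) ≫ s ≫ u
    rw [pullback.condition_assoc, Scheme.Cover.ι_glueMorphisms, ← Category.assoc (pullback.fst _ _) s u]
    refine hlA P _ _ _ ?_
    rw [Category.assoc (pullback.fst _ _) s eA, Category.assoc (pullback.fst _ _) _ D.iA', ← hrs]
    exact ((reassoc_of% pullback.condition (f := r) (g := 𝒰.f P)) ι).symm

theorem exists_desc {T : Scheme.{u}} (u : Spec (.of A') ⟶ T) (v : Spec (.of B) ⟶ T)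
    (hw : Spec.map (CommRingCat.ofHom D.q) ≫ v = Spec.map (CommRingCat.ofHom D.p) ≫ u) :
    ∃ l : Spec (.of C) ⟶ T, D.iA' ≫ l = u ∧ D.iB ≫ l = v := by
  obtain ⟨l, hB, hA⟩ := D.exists_desc_open (𝟙 _) (𝟙 _) (𝟙 _)
    (by ext; simp) (by ext; simp) u v (fun W r s t hr hs => by
      rw [Category.comp_id] at hr hs
      rw [hr, hs, Category.assoc, Category.assoc, hw])
  refine ⟨l, ?_, ?_⟩
  · simpa using hA _ D.iA' (𝟙 _) (by simp)
  · simpa using hB _ D.iB (𝟙 _) (by simp)

/-- The spectrum of a Milnor square is a pushout in schemes. -/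
theorem isPushout_Spec :
    IsPushout (Spec.map (CommRingCat.ofHom D.p)) (Spec.map (CommRingCat.ofHom D.q)) D.iA' D.iB := by
  have hsq : CommSq (Spec.map (CommRingCat.ofHom D.p)) (Spec.map (CommRingCat.ofHom D.q)) D.iA' D.iB :=
    ⟨by rw [iA', iB, ← Spec.map_comp, ← Spec.map_comp]; congr 1; ext x; exact (D.w x).symm⟩
  refine ⟨hsq, ⟨PushoutCocone.isColimitAux' _ fun s => ?_⟩⟩
  let l := Classical.choose (D.exists_desc s.inl s.inr s.condition.symm)
  have hl := Classical.choose_spec (D.exists_desc s.inl s.inr s.condition.symm)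
  refine ⟨l, hl.1, hl.2, fun {m} hm₁ hm₂ => ?_⟩
  refine D.hom_ext_of_isOpenImmersion (𝟙 _) m l (fun W r t hrt => ?_) (fun W r t hrt => ?_)
  · rw [Category.comp_id] at hrt
    rw [hrt, Category.assoc, Category.assoc]
    exact congrArg (t ≫ ·) (hm₂.trans hl.2.symm)
  · rw [Category.comp_id] at hrt
    rw [hrt, Category.assoc, Category.assoc]
    exact congrArg (t ≫ ·) (hm₁.trans hl.1.symm)

end Cart

end Groth.Agent.FerrandPush
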