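import Groth.Agent.FerrandPush.Cat

/-!
# Pushouts of a closed immersion along an affine morphism: charts

A chart is a pair of affine opens of `X` and `Y` with the same preimage in `Z`.
-/

set_option autoImplicit false
set_option linter.style.haveILetI false
universe u
open CategoryTheory CategoryTheory.Limits AlgebraicGeometry

namespace Groth.Agent.FerrandPush

variable {X Y Z : Scheme.{u}} (i : Z ⟶ X) (j : Z ⟶ Y)

/-- A pair of affine opens of `X` and `Y` with the same trace on `Z`. -/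
def Chart : Type u := {α : X.affineOpens × Y.affineOpens // i ⁻¹ᵁ α.1.1 = j ⁻¹ᵁ α.2.1}

instance : PartialOrder (Chart i j) := Subtype.partialOrder _

variable {i j}

namespace Chart

variable (α : Chart i j)

abbrev U : X.Opens := α.1.1.1
abbrev V : Y.Opens := α.1.2.1
abbrev W : Z.Opens := i ⁻¹ᵁ α.U

theorem hU : IsAffineOpen α.U := α.1.1.2
theorem hV : IsAffineOpen α.V := α.1.2.2
theorem W_eq : α.W = j ⁻¹ᵁ α.V := α.2
theorem hW [IsAffineHom i] : IsAffineOpen α.W := α.hU.preimage i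
theorem le_U {α β : Chart i j} (h : α ≤ β) : α.U ≤ β.U := h.1
theorem le_V {α β : Chart i j} (h : α ≤ β) : α.V ≤ β.V := h.2

/-- The compatibility condition defining the glued ring. -/
noncomputable abbrev qMap : Γ(Y, α.V) ⟶ Γ(Z, α.W) := j.appLE α.V α.W α.W_eq.le

noncomputable abbrev pMap : Γ(X, α.U) ⟶ Γ(Z, α.W) := i.appLE α.U α.W le_rfl

/-- The glued ring of a chart. -/
noncomputable def subring : Subring (Γ(Y, α.V) × Γ(X, α.U)) :=
  RingHom.eqLocus (α.qMap.hom.comp (RingHom.fst _ _)) (α.pMap.hom.comp (RingHom.snd _ _))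

theorem mem_subring {x : Γ(Y, α.V) × Γ(X, α.U)} : x ∈ α.subring ↔ α.qMap x.1 = α.pMap x.2 := Iff.rfl

theorem pMap_surjective [IsClosedImmersion i] : Function.Surjective α.pMap := by
  rw [pMap, ← Scheme.Hom.app_eq_appLE]
  exact i.app_surjective _ α.hU

/-- The Milnor square of a chart. -/
noncomputable def cart [IsClosedImmersion i] :
    Cart α.subring Γ(Y, α.V) Γ(X, α.U) Γ(Z, α.W) where
  fst := (RingHom.fst _ _).comp α.subring.subtype
  snd := (RingHom.snd _ _).comp α.subring.subtype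
  p := α.pMap.hom
  q := α.qMap.hom
  surj := α.pMap_surjective
  w := fun c => c.2
  ext' := fun x y h₁ h₂ => Subtype.ext (Prod.ext h₁ h₂)
  lift' := fun b a h => ⟨⟨(b, a), h⟩, rfl, rfl⟩

/-- The affine piece of the pushout. -/
noncomputable abbrev obj : Scheme.{u} := Spec (.of α.subring)

variable {α} {β : Chart i j}

theorem res_compat (h : α ≤ β) {x : Γ(Y, β.V) × Γ(X, β.U)} (hx : x ∈ β.subring) :
    ((Y.presheaf.map (homOfLE (le_V h)).op x.1, X.presheaf.map (homOfLE (le_U h)).op x.2) :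
      Γ(Y, α.V) × Γ(X, α.U)) ∈ α.subring := by
  rw [mem_subring] at hx ⊢
  have hW : α.W ≤ β.W := i.preimage_mono (le_U h)
  have e1 : Y.presheaf.map (homOfLE (le_V h)).op ≫ α.qMap = β.qMap ≫ Z.presheaf.map (homOfLE hW).op := by
    simp [qMap, Scheme.Hom.map_appLE, Scheme.Hom.appLE_map]
  have e2 : X.presheaf.map (homOfLE (le_U h)).op ≫ α.pMap = β.pMap ≫ Z.presheaf.map (homOfLE hW).op := by
    simp [pMap, Scheme.Hom.map_appLE, Scheme.Hom.appLE_map]
  have h1 := ConcreteCategory.congr_hom e1 x.1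
  have h2 := ConcreteCategory.congr_hom e2 x.2
  simp only [CommRingCat.comp_apply] at h1 h2
  rw [h1, h2, hx]

/-- Restriction of glued rings. -/
noncomputable def res (h : α ≤ β) : β.subring →+* α.subring :=
  (((Y.presheaf.map (homOfLE (le_V h)).op).hom.prodMap (X.presheaf.map (homOfLE (le_U h)).op).hom).comp
    β.subring.subtype).codRestrict α.subring (fun x => res_compat h x.2)

noncomputable def map (h : α ≤ β) : α.obj ⟶ β.obj := Spec.map (CommRingCat.ofHom (res h))

theorem map_id (α : Chart i j) : map (le_refl α) = 𝟙 _ := by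
  rw [map, ← Spec.map_id]
  congr 1
  ext x
  · simp [res]
  · simp [res]

theorem map_comp {γ : Chart i j} (h : α ≤ β) (h' : β ≤ γ) : map h ≫ map h' = map (h.trans h') := by
  rw [map, map, map, ← Spec.map_comp]
  congr 1
  ext x
  · simp [res, ← ConcreteCategory.comp_apply, ← Functor.map_comp]
    rfl
  · simp [res, ← ConcreteCategory.comp_apply, ← Functor.map_comp]
    rfl

variable [IsClosedImmersion i]

theorem iB_map (h : α ≤ β) :
    α.cart.iB ≫ map h = Spec.map (Y.presheaf.map (homOfLE (le_V h)).op) ≫ β.cart.iB := by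
  rw [Cart.iB, Cart.iB, map, ← Spec.map_comp, ← Spec.map_comp]
  congr 1

theorem iA'_map (h : α ≤ β) :
    α.cart.iA' ≫ map h = Spec.map (X.presheaf.map (homOfLE (le_U h)).op) ≫ β.cart.iA' := by
  rw [Cart.iA', Cart.iA', map, ← Spec.map_comp, ← Spec.map_comp]
  congr 1

theorem specMap_p_fromSpec :
    Spec.map (CommRingCat.ofHom α.cart.p) ≫ α.hU.fromSpec = α.hW.fromSpec ≫ i :=
  α.hU.SpecMap_appLE_fromSpec i α.hW le_rfl

theorem specMap_q_fromSpec :
    Spec.map (CommRingCat.ofHom α.cart.q) ≫ α.hV.fromSpec = α.hW.fromSpec ≫ j :=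
  α.hV.SpecMap_appLE_fromSpec j α.hW α.W_eq.le

theorem isSat (O₁ : X.Opens) (O₂ : Y.Opens) (h : i ⁻¹ᵁ O₁ = j ⁻¹ᵁ O₂) :
    α.cart.IsSat (α.hU.fromSpec ⁻¹' (O₁ : Set X)) (α.hV.fromSpec ⁻¹' (O₂ : Set Y)) := by
  intro w
  have h1 : α.hU.fromSpec (PrimeSpectrum.comap α.cart.p w) = i (α.hW.fromSpec w) := by
    have := congrArg (fun t => t w) (specMap_p_fromSpec (α := α))
    simp only [Scheme.Hom.comp_apply] at this
    exact this
  have h2 : α.hV.fromSpec (PrimeSpectrum.comap α.cart.q w) = j (α.hW.fromSpec w) := by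
    have := congrArg (fun t => t w) (specMap_q_fromSpec (α := α))
    simp only [Scheme.Hom.comp_apply] at this
    exact this
  simp only [Set.mem_preimage]
  rw [h1, h2]
  exact SetLike.ext_iff.mp h _

/-- The open subset of `β.obj` cut out by a compatible pair of opens. -/
noncomputable def openOf (β : Chart i j) (O₁ : X.Opens) (O₂ : Y.Opens) (h : i ⁻¹ᵁ O₁ = j ⁻¹ᵁ O₂) :
    β.obj.Opens :=
  ⟨β.cart.glueSet (β.hU.fromSpec ⁻¹' (O₁ : Set X)) (β.hV.fromSpec ⁻¹' (O₂ : Set Y)),
    β.cart.isOpen_glueSet (β.isSat O₁ O₂ h) (O₁.isOpen.preimage β.hU.fromSpec.continuous)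
      (O₂.isOpen.preimage β.hV.fromSpec.continuous)⟩

theorem iA'_preimage_openOf (β : Chart i j) (O₁ : X.Opens) (O₂ : Y.Opens) (h : i ⁻¹ᵁ O₁ = j ⁻¹ᵁ O₂) :
    β.cart.iA' ⁻¹' (openOf β O₁ O₂ h : Set β.obj) = β.hU.fromSpec ⁻¹' (O₁ : Set X) :=
  β.cart.preimage_snd_glueSet (β.isSat O₁ O₂ h)

theorem iB_preimage_openOf (β : Chart i j) (O₁ : X.Opens) (O₂ : Y.Opens) (h : i ⁻¹ᵁ O₁ = j ⁻¹ᵁ O₂) :
    β.cart.iB ⁻¹' (openOf β O₁ O₂ h : Set β.obj) = β.hV.fromSpec ⁻¹' (O₂ : Set Y) :=
  β.cart.preimage_fst_glueSet (β.isSat O₁ O₂ h)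

theorem isOpenImmersion_SpecMap_restrict {T : Scheme.{u}} {U U' : T.Opens} (hU : IsAffineOpen U)
    (hU' : IsAffineOpen U') (h : U' ≤ U) : IsOpenImmersion (Spec.map (T.presheaf.map (homOfLE h).op)) := by
  haveI : IsOpenImmersion (Spec.map (T.presheaf.map (homOfLE h).op) ≫ hU.fromSpec) := by
    rw [hU.map_fromSpec hU']; infer_instance
  exact IsOpenImmersion.of_comp _ hU.fromSpec

theorem range_SpecMap_restrict {T : Scheme.{u}} {U U' : T.Opens} (hU : IsAffineOpen U)
    (hU' : IsAffineOpen U') (h : U' ≤ U) :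
    Set.range (Spec.map (T.presheaf.map (homOfLE h).op)) = hU.fromSpec ⁻¹' (U' : Set T) := by
  ext x
  rw [Set.mem_preimage]
  constructor
  · rintro ⟨y, rfl⟩
    rw [← Scheme.Hom.comp_apply, hU.map_fromSpec hU']
    exact hU'.range_fromSpec ▸ ⟨y, rfl⟩
  · intro hx
    obtain ⟨y, hy⟩ := hU'.range_fromSpec.symm ▸ hx
    refine ⟨y, hU.fromSpec.isOpenEmbedding.injective ?_⟩
    rw [← Scheme.Hom.comp_apply, hU.map_fromSpec hU']
    exact hy

theorem isOpenImmersion_map_and_range (h : α ≤ β) :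
    IsOpenImmersion (map h) ∧ Set.range (map h) = (openOf β α.U α.V α.2 : Set β.obj) := by
  let O := openOf β α.U α.V α.2
  let eA := Spec.map (X.presheaf.map (homOfLE (le_U h)).op)
  let eB := Spec.map (Y.presheaf.map (homOfLE (le_V h)).op)
  haveI : IsOpenImmersion eA := isOpenImmersion_SpecMap_restrict β.hU α.hU (le_U h)
  haveI : IsOpenImmersion eB := isOpenImmersion_SpecMap_restrict β.hV α.hV (le_V h)
  have hA : Set.range eA = β.cart.iA' ⁻¹' Set.range O.ι := by
    rw [Scheme.Opens.range_ι]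
    exact (range_SpecMap_restrict β.hU α.hU (le_U h)).trans (iA'_preimage_openOf β _ _ _).symm
  have hB : Set.range eB = β.cart.iB ⁻¹' Set.range O.ι := by
    rw [Scheme.Opens.range_ι]
    exact (range_SpecMap_restrict β.hV α.hV (le_V h)).trans (iB_preimage_openOf β _ _ _).symm
  obtain ⟨ψ, hψB, hψA⟩ := β.cart.exists_desc_open O.ι eA eB hA hB α.cart.iA' α.cart.iB (by
    intro W r s t hr hs
    have hWW : α.W ≤ β.W := i.preimage_mono (le_U h)
    let eZ := Spec.map (Z.presheaf.map (homOfLE hWW).op)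
    haveI : IsOpenImmersion eZ := isOpenImmersion_SpecMap_restrict β.hW α.hW hWW
    have ht : Set.range t ⊆ Set.range eZ := by
      rintro _ ⟨w, rfl⟩
      rw [range_SpecMap_restrict β.hW α.hW hWW]
      have h1 : (r ≫ eA) w ∈ Set.range eA := ⟨r w, rfl⟩
      rw [hr, range_SpecMap_restrict β.hU α.hU (le_U h)] at h1
      simp only [Set.mem_preimage, Scheme.Hom.comp_apply] at h1 ⊢
      have h2 := congrArg (fun g => g (t w)) (specMap_p_fromSpec (α := β))
      simp only [Scheme.Hom.comp_apply] at h2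
      show i (β.hW.fromSpec (t w)) ∈ α.U
      rw [← h2]
      exact h1
    let t' := IsOpenImmersion.lift eZ t ht
    have ht' : t' ≫ eZ = t := IsOpenImmersion.lift_fac _ _ _
    have e1 : Spec.map (CommRingCat.ofHom α.cart.p) ≫ eA = eZ ≫ Spec.map (CommRingCat.ofHom β.cart.p) := by
      rw [← cancel_mono β.hU.fromSpec, Category.assoc, Category.assoc, β.hU.map_fromSpec α.hU,
        specMap_p_fromSpec, specMap_p_fromSpec, ← Category.assoc, β.hW.map_fromSpec α.hW]
    have e2 : Spec.map (CommRingCat.ofHom α.cart.q) ≫ eB = eZ ≫ Spec.map (CommRingCat.ofHom β.cart.q) := by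
      rw [← cancel_mono β.hV.fromSpec, Category.assoc, Category.assoc, β.hV.map_fromSpec α.hV,
        specMap_q_fromSpec, specMap_q_fromSpec, ← Category.assoc, β.hW.map_fromSpec α.hW]
    have hr' : r = t' ≫ Spec.map (CommRingCat.ofHom α.cart.p) := by
      rw [← cancel_mono eA, hr, Category.assoc, e1, reassoc_of% ht']
    have hs' : s = t' ≫ Spec.map (CommRingCat.ofHom α.cart.q) := by
      rw [← cancel_mono eB, hs, Category.assoc, e2, reassoc_of% ht']
    rw [hr', hs', Category.assoc, Category.assoc, α.cart.isPushout_Spec.w])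
  have hsub : Set.range (map h) ⊆ Set.range O.ι := by
    rintro _ ⟨P, rfl⟩
    rcases α.cart.exists_prime P with ⟨y, rfl⟩ | ⟨y, rfl⟩
    · have h1 : eB y ∈ β.cart.iB ⁻¹' Set.range O.ι := hB ▸ ⟨y, rfl⟩
      have h2 := congrArg (fun g => g y) (iB_map h)
      simp only [Scheme.Hom.comp_apply] at h2
      exact h2.symm ▸ h1
    · have h1 : eA y ∈ β.cart.iA' ⁻¹' Set.range O.ι := hA ▸ ⟨y, rfl⟩
      have h2 := congrArg (fun g => g y) (iA'_map h)
      simp only [Scheme.Hom.comp_apply] at h2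
      exact h2.symm ▸ h1
  let φ := IsOpenImmersion.lift O.ι (map h) hsub
  have hφ : φ ≫ O.ι = map h := IsOpenImmersion.lift_fac _ _ _
  have e1 : φ ≫ ψ = 𝟙 _ := by
    refine α.cart.hom_ext_of_isOpenImmersion (𝟙 _) _ _ (fun W r s hr => ?_) (fun W r s hr => ?_)
    · rw [Category.comp_id] at hr ⊢
      rw [hr, ← Category.assoc]
      exact hψB W _ s (by rw [Category.assoc, Category.assoc, hφ, iB_map h, Category.assoc])
    · rw [Category.comp_id] at hr ⊢
      rw [hr, ← Category.assoc]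
      exact hψA W _ s (by rw [Category.assoc, Category.assoc, hφ, iA'_map h, Category.assoc])
  have e2 : ψ ≫ φ = 𝟙 _ := by
    refine β.cart.hom_ext_of_isOpenImmersion O.ι _ _ (fun W r s hr => ?_) (fun W r s hr => ?_)
    · obtain ⟨s, rfl⟩ : ∃ s', s' ≫ eB = s := by
        refine ⟨_, IsOpenImmersion.lift_fac eB s ?_⟩
        rintro _ ⟨w, rfl⟩
        rw [hB]
        exact ⟨r w, by simpa using congrArg (fun g => g w) hr⟩
      rw [← cancel_mono O.ι]
      simp only [Category.assoc, Category.id_comp, hφ]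
      rw [reassoc_of% (hψB W r s hr), hr, iB_map h, Category.assoc]
    · obtain ⟨s, rfl⟩ : ∃ s', s' ≫ eA = s := by
        refine ⟨_, IsOpenImmersion.lift_fac eA s ?_⟩
        rintro _ ⟨w, rfl⟩
        rw [hA]
        exact ⟨r w, by simpa using congrArg (fun g => g w) hr⟩
      rw [← cancel_mono O.ι]
      simp only [Category.assoc, Category.id_comp, hφ]
      rw [reassoc_of% (hψA W r s hr), hr, iA'_map h, Category.assoc]
  haveI : IsIso φ := ⟨ψ, e1, e2⟩
  refine ⟨hφ ▸ inferInstance, ?_⟩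
  rw [← hφ, Scheme.Hom.comp_base, TopCat.coe_comp, Set.range_comp]
  rw [Set.range_eq_univ.mpr φ.surjective, Set.image_univ, Scheme.Opens.range_ι]

end Chart

end Groth.Agent.FerrandPush
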