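import Groth.Agent.FerrandPush.Props

/-!
# Charts around points
-/

set_option autoImplicit false
set_option linter.style.haveILetI false
set_option linter.unusedVariables false
universe u
open CategoryTheory CategoryTheory.Limits AlgebraicGeometry

namespace Groth.Agent.FerrandPush

theorem exists_affine_compl {X : Scheme.{u}} {s : Set X} (hs : IsClosed s) {x : X} (hx : x ∉ s) :
    ∃ U : X.Opens, IsAffineOpen U ∧ x ∈ U ∧ ∀ z ∈ U, z ∉ s := by
  obtain ⟨U, hU, hxU, hsub⟩ := exists_isAffineOpen_mem_and_subset (U := ⟨sᶜ, hs.isOpen_compl⟩) hx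
  exact ⟨U, hU, hxU, fun z hz => hsub hz⟩

/-- A chart around a point outside the image of `i`. -/
theorem exists_chart_of_notMem {X Y Z : Scheme.{u}} (i : Z ⟶ X) (j : Z ⟶ Y) [IsClosedImmersion i]
    {x : X} (hx : x ∉ Set.range i) : ∃ α : Chart i j, x ∈ α.U := by
  obtain ⟨U, hU, hxU, hU'⟩ := exists_affine_compl i.isClosedEmbedding.isClosed_range hx
  refine ⟨⟨(⟨U, hU⟩, ⟨⊥, isAffineOpen_bot Y⟩), ?_⟩, hxU⟩
  ext z
  simp only [Scheme.Hom.preimage_bot]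
  exact ⟨fun h => absurd ⟨z, rfl⟩ (hU' _ h), fun h => h.elim⟩

/-- A principal open of an affine open containing the fibre of an integral morphism. -/
theorem exists_basicOpen_eq_preimage {Z Y : Scheme.{u}} (j : Z ⟶ Y) [IsIntegralHom j] {W : Z.Opens}
    (hW : IsAffineOpen W) (y : Y) (hy : ∀ z, j z = y → z ∈ W) :
    ∃ V : Y.Opens, IsAffineOpen V ∧ y ∈ V ∧ ∃ g : Γ(Z, W), Z.basicOpen g = j ⁻¹ᵁ V := by
  classical
  have hclosed : ∀ O : Z.Opens, IsClosed (j '' (O : Set Z)ᶜ) := fun O =>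
    j.isClosedMap _ O.isOpen.isClosed_compl
  have hy0 : y ∉ j '' (W : Set Z)ᶜ := by
    rintro ⟨z, hz, rfl⟩; exact hz (hy z rfl)
  obtain ⟨V₀, hV₀, hyV₀, hV₀'⟩ := exists_affine_compl (hclosed W) hy0
  let W₀ := j ⁻¹ᵁ V₀
  have hW₀ : IsAffineOpen W₀ := hV₀.preimage j
  have hle : W₀ ≤ W := fun z hz => by_contra fun h => hV₀' _ hz ⟨z, h, rfl⟩
  have hex : ∀ z : W₀, ∃ g : Γ(Z, W), Z.basicOpen g ≤ W₀ ∧ z.1 ∈ Z.basicOpen g := fun z =>
    hW.exists_basicOpen_le z (hle z.2)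
  choose g hgle hgmem using hex
  obtain ⟨t, ht⟩ := hW₀.isCompact.elim_finite_subcover (fun z : W₀ => (Z.basicOpen (g z) : Set Z))
    (fun z => (Z.basicOpen (g z)).isOpen) (fun z hz => Set.mem_iUnion.mpr ⟨⟨z, hz⟩, hgmem ⟨z, hz⟩⟩)
  let res : Γ(Z, W) →+* Γ(Z, W₀) := (Z.presheaf.map (homOfLE hle).op).hom
  letI : Algebra Γ(Y, V₀) Γ(Z, W₀) := (j.app V₀).hom.toAlgebra
  haveI : Algebra.IsIntegral Γ(Y, V₀) Γ(Z, W₀) := ⟨IsIntegralHom.isIntegral_app j V₀ hV₀⟩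
  let S := Algebra.adjoin Γ(Y, V₀) ((fun z => res (g z)) '' (SetLike.coe t))
  haveI : Module.Finite Γ(Y, V₀) S :=
    Algebra.finite_adjoin_of_finite_of_isIntegral (t.finite_toSet.image _)
      fun x _ => Algebra.IsIntegral.isIntegral x
  let ψ : MvPolynomial t ℤ →+* Γ(Z, W) := (MvPolynomial.aeval fun z : t => g z.1).toRingHom
  let φ : MvPolynomial t ℤ →+* S := (MvPolynomial.aeval fun z : t =>
    (⟨res (g z.1), Algebra.subset_adjoin ⟨z.1, z.2, rfl⟩⟩ : S)).toRingHom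
  have hφψ : (algebraMap S Γ(Z, W₀)).comp φ = res.comp ψ := by
    refine MvPolynomial.ringHom_ext (fun n => by simp) fun z => ?_
    simp [φ, ψ]
  obtain ⟨y₀, hy₀⟩ := mem_range_fromSpec hV₀ hyV₀
  let F := PrimeSpectrum.comap φ '' (PrimeSpectrum.comap (algebraMap Γ(Y, V₀) S) ⁻¹' {y₀})
  have hF : F.Finite := (Algebra.QuasiFinite.finite_comap_preimage_singleton y₀).image _
  let M : Ideal (MvPolynomial t ℤ) := Ideal.span (Set.range MvPolynomial.X)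
  let F' := {P ∈ F | ¬ M ≤ P.asIdeal}
  obtain ⟨P, hPM, hP⟩ : ∃ P ∈ M, ∀ q ∈ F', P ∉ q.asIdeal := by
    by_contra hne
    push Not at hne
    have hsub : (M : Set (MvPolynomial t ℤ)) ⊆ ⋃ q ∈ F', (q.asIdeal : Set (MvPolynomial t ℤ)) :=
      fun x hx => by
        obtain ⟨q, hq, hxq⟩ := hne x hx
        exact Set.mem_biUnion hq hxq
    rcases F'.eq_empty_or_nonempty with h0 | ⟨q₀, hq₀⟩
    · obtain ⟨q, hq, -⟩ := hne 0 M.zero_mem
      rw [h0] at hq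
      exact hq
    obtain ⟨q, hq, hqM⟩ := (Ideal.subset_union_prime_finite (hF.subset fun q hq => hq.1) q₀ q₀
      fun q _ _ _ => q.2).mp hsub
    exact hq.2 hqM
  have hfib : ∀ z, j z = y → z ∈ Z.basicOpen (ψ P) := by
    intro z hz
    have hzW₀ : z ∈ W₀ := show j z ∈ V₀ by rw [hz]; exact hyV₀
    obtain ⟨k, hk, hzk⟩ := Set.mem_iUnion₂.mp (ht hzW₀)
    obtain ⟨z₀, hz₀⟩ := mem_range_fromSpec hW₀ hzW₀
    have key : ∀ h : Γ(Z, W), z ∈ Z.basicOpen h ↔ res h ∉ z₀.asIdeal := by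
      intro h
      have e : Z.basicOpen (res h) = W₀ ⊓ Z.basicOpen h := Scheme.basicOpen_res _ _ _
      have e2 := SetLike.ext_iff.mp (hW₀.fromSpec_preimage_basicOpen (res h)) z₀
      constructor
      · intro hh
        exact e2.mp (show hW₀.fromSpec z₀ ∈ Z.basicOpen (res h) by rw [e, hz₀]; exact ⟨hzW₀, hh⟩)
      · intro hh
        have h3 : hW₀.fromSpec z₀ ∈ Z.basicOpen (res h) := e2.mpr hh
        rw [e, hz₀] at h3
        exact h3.2
    have hz0y : PrimeSpectrum.comap (j.app V₀).hom z₀ = y₀ := by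
      apply hV₀.fromSpec.isOpenEmbedding.injective
      have := congrArg (fun t => t z₀) (hV₀.SpecMap_appLE_fromSpec j hW₀ le_rfl)
      simp only [Scheme.Hom.comp_apply] at this
      rw [hy₀, ← hz, ← hz₀]
      rw [← Scheme.Hom.app_eq_appLE] at this
      exact this
    let q := PrimeSpectrum.comap (algebraMap S Γ(Z, W₀)) z₀
    have hqF : PrimeSpectrum.comap φ q ∈ F := ⟨q, hz0y, rfl⟩
    have hev : ∀ R : MvPolynomial t ℤ, R ∈ (PrimeSpectrum.comap φ q).asIdeal ↔ res (ψ R) ∈ z₀.asIdeal := by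
      intro R
      show algebraMap S Γ(Z, W₀) (φ R) ∈ z₀.asIdeal ↔ _
      rw [← RingHom.comp_apply, hφψ]
      rfl
    have hnM : ¬ M ≤ (PrimeSpectrum.comap φ q).asIdeal := fun hM => by
      have h1 := (hev (MvPolynomial.X (⟨k, hk⟩ : t))).mp (hM (Ideal.subset_span ⟨_, rfl⟩))
      refine (key (g k)).mp hzk ?_
      simpa [ψ] using h1
    exact (key _).mpr fun h => hP _ ⟨hqF, hnM⟩ ((hev P).mpr h)
  have hgW₀ : Z.basicOpen (ψ P) ≤ W₀ := by
    intro z hz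
    have hzW : z ∈ W := Z.basicOpen_le _ hz
    by_contra hzn
    obtain ⟨z₁, hz₁⟩ := mem_range_fromSpec hW hzW
    have key : ∀ h : Γ(Z, W), z ∈ Z.basicOpen h ↔ h ∉ z₁.asIdeal := fun h => by
      rw [← hz₁]
      exact SetLike.ext_iff.mp (hW.fromSpec_preimage_basicOpen h) z₁
    have hM : M ≤ z₁.asIdeal.comap ψ := Ideal.span_le.mpr (by
      rintro _ ⟨k, rfl⟩
      by_contra hk
      refine hzn (hgle k.1 ((key _).mpr ?_))
      simpa [ψ] using hk)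
    exact (key _).mp hz (hM hPM)
  have hy1 : y ∉ j '' (Z.basicOpen (ψ P) : Set Z)ᶜ := by
    rintro ⟨z, hz, rfl⟩; exact hz (hfib z rfl)
  obtain ⟨b, hbsub, hyb⟩ : ∃ b : Γ(Y, V₀), j ⁻¹ᵁ Y.basicOpen b ≤ Z.basicOpen (ψ P) ∧ y ∈ Y.basicOpen b := by
    let O : Y.Opens := ⟨(j '' (Z.basicOpen (ψ P) : Set Z)ᶜ)ᶜ, (hclosed _).isOpen_compl⟩
    obtain ⟨b, hb, hyb⟩ := hV₀.exists_basicOpen_le (V := O) ⟨y, hy1⟩ hyV₀
    exact ⟨b, fun z hz => by_contra fun h => hb hz ⟨z, h, rfl⟩, hyb⟩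
  letI := (Z.presheaf.map (homOfLE (Z.basicOpen_le (ψ P))).op).hom.toAlgebra
  haveI := hW.isLocalization_basicOpen (ψ P)
  obtain ⟨n, h, hh⟩ := IsLocalization.Away.surj (S := Γ(Z, Z.basicOpen (ψ P))) (ψ P)
    (Z.presheaf.map (homOfLE hgW₀).op (j.app V₀ b))
  refine ⟨Y.basicOpen b, hV₀.basicOpen b, hyb, ψ P * h, ?_⟩
  rw [Scheme.basicOpen_mul]
  have e1 : j ⁻¹ᵁ Y.basicOpen b = Z.basicOpen (j.app V₀ b) := Scheme.preimage_basicOpen j b
  have hu : ∀ x : Γ(Z, Z.basicOpen (ψ P)), IsUnit x → Z.basicOpen x = Z.basicOpen (ψ P) := fun x hx =>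
    Scheme.basicOpen_of_isUnit _ hx
  have e2 := congrArg Z.basicOpen hh
  rw [Scheme.basicOpen_mul, hu _ ((IsLocalization.Away.algebraMap_isUnit (S := Γ(Z, Z.basicOpen (ψ P))) (ψ P)).pow n)] at e2
  erw [Scheme.basicOpen_res, Scheme.basicOpen_res] at e2
  erw [← e2, ← e1]
  apply le_antisymm
  · exact inf_le_left.trans inf_le_right
  · exact le_inf (le_inf (hbsub.trans le_rfl) le_rfl) hbsub

/-- Charts around every point for an integral morphism. -/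
theorem exists_chart_of_integral {X Y Z : Scheme.{u}} (i : Z ⟶ X) (j : Z ⟶ Y) [IsClosedImmersion i]
    [IsIntegralHom j]
    (haff : ∀ y : Y, ∃ U : X.Opens, IsAffineOpen U ∧ j ⁻¹' {y} ⊆ i ⁻¹' (U : Set X)) :
    (∀ x : X, ∃ α : Chart i j, x ∈ α.U) ∧ (∀ y : Y, ∃ α : Chart i j, y ∈ α.V) := by
  have hY : ∀ y : Y, ∃ α : Chart i j, y ∈ α.V := by
    intro y
    obtain ⟨U, hU, hUy⟩ := haff y
    obtain ⟨V, hV, hyV, g, hg⟩ :=
      exists_basicOpen_eq_preimage j (W := i ⁻¹ᵁ U) (hU.preimage i) y fun z hz => hUy hz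
    obtain ⟨a, ha⟩ := i.app_surjective U hU g
    refine ⟨⟨(⟨X.basicOpen a, hU.basicOpen a⟩, ⟨V, hV⟩), ?_⟩, hyV⟩
    show i ⁻¹ᵁ X.basicOpen a = j ⁻¹ᵁ V
    rw [Scheme.preimage_basicOpen, ha, hg]
  refine ⟨fun x => ?_, hY⟩
  by_cases hx : x ∈ Set.range i
  · obtain ⟨z, rfl⟩ := hx
    obtain ⟨α, hα⟩ := hY (j z)
    exact ⟨α, (SetLike.ext_iff.mp α.2 z).mpr hα⟩
  · exact exists_chart_of_notMem i j hx

end Groth.Agent.FerrandPush

namespace Groth.Agent.FerrandPush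

/-- Existence of the pushout of a closed immersion along an integral morphism. -/
theorem exists_pushout_integral {X Y Z : Scheme.{u}} (i : Z ⟶ X) (j : Z ⟶ Y) [IsClosedImmersion i]
    [IsIntegralHom j]
    (haff : ∀ y : Y, ∃ U : X.Opens, IsAffineOpen U ∧ j ⁻¹' {y} ⊆ i ⁻¹' (U : Set X)) :
    ∃ (P : Scheme.{u}) (a : X ⟶ P) (b : Y ⟶ P),
      IsPushout i j a b ∧ IsPullback i j a b ∧ IsIntegralHom a ∧ IsClosedImmersion b := by
  obtain ⟨hX, hY⟩ := exists_chart_of_integral i j haff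
  obtain ⟨a, b, hP, ha, hb⟩ := exists_pushout_charts i j hX hY
  exact ⟨_, a, b, hP, isPullback_glued hP.w ha hX hb hY, isIntegralHom_a ha hX,
    isClosedImmersion_b hb hY⟩

end Groth.Agent.FerrandPush
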