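import Groth.Agent.FerrandPush.Chart

/-!
# Pushouts of a closed immersion along an affine morphism

If every point of `X` and of `Y` lies in a chart, the pushout exists and is covered by the spectra of
the glued rings of the charts.
-/

set_option autoImplicit false
set_option linter.style.haveILetI false
set_option linter.unusedVariables false
universe u
open CategoryTheory CategoryTheory.Limits AlgebraicGeometry

namespace Groth.Agent.FerrandPush

variable {X Y Z : Scheme.{u}} (i : Z ⟶ X) (j : Z ⟶ Y) [IsClosedImmersion i]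

/-- The diagram of affine pieces. -/
noncomputable def chartFunctor : Chart i j ⥤ Scheme.{u} where
  obj α := α.obj
  map h := Chart.map (leOfHom h)
  map_id α := Chart.map_id α
  map_comp f g := (Chart.map_comp (leOfHom f) (leOfHom g)).symm

instance {α β : Chart i j} (f : α ⟶ β) : IsOpenImmersion ((chartFunctor i j).map f) :=
  (Chart.isOpenImmersion_map_and_range (leOfHom f)).1

variable {i j}

theorem mem_range_fromSpec {T : Scheme.{u}} {U : T.Opens} (hU : IsAffineOpen U) {x : T} (h : x ∈ U) :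
    ∃ y, hU.fromSpec y = x :=
  Set.mem_range.mp (hU.range_fromSpec.symm ▸ (show x ∈ (U : Set T) from h))

theorem fromSpec_mem {T : Scheme.{u}} {U : T.Opens} (hU : IsAffineOpen U) (y : Spec Γ(T, U)) :
    hU.fromSpec y ∈ U :=
  show hU.fromSpec y ∈ (U : Set T) from hU.range_fromSpec ▸ ⟨y, rfl⟩

theorem Chart.exists_le_of_mem (γ : Chart i j) (O : γ.obj.Opens) {P : γ.obj} (hP : P ∈ O) :
    ∃ δ : Chart i j, ∃ h : δ ≤ γ, P ∈ Set.range (Chart.map h) ∧ Set.range (Chart.map h) ⊆ (O : Set γ.obj) := by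
  obtain ⟨_, ⟨c, rfl⟩, hcP, hcO⟩ :=
    PrimeSpectrum.isTopologicalBasis_basic_opens.exists_subset_of_mem_open hP O.isOpen
  let a : Γ(X, γ.U) := γ.cart.snd c
  let b : Γ(Y, γ.V) := γ.cart.fst c
  have htrace : i ⁻¹ᵁ X.basicOpen a = j ⁻¹ᵁ Y.basicOpen b := by
    have e1 : i ⁻¹ᵁ X.basicOpen a = Z.basicOpen (γ.pMap a) := by
      rw [Scheme.preimage_basicOpen, Scheme.Hom.app_eq_appLE]
    have e2 : j ⁻¹ᵁ Y.basicOpen b = Z.basicOpen (γ.qMap b) := by
      rw [Scheme.preimage_basicOpen, Scheme.Hom.app_eq_appLE, Chart.qMap,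
        ← Scheme.Hom.appLE_map j le_rfl (eqToHom γ.W_eq).op, CommRingCat.comp_apply,
        Scheme.basicOpen_res_eq]
    rw [e1, e2, show γ.qMap b = γ.pMap a from γ.cart.w c]
  let δ : Chart i j := ⟨(⟨X.basicOpen a, γ.hU.basicOpen a⟩, ⟨Y.basicOpen b, γ.hV.basicOpen b⟩), htrace⟩
  have h : δ ≤ γ := ⟨X.basicOpen_le a, Y.basicOpen_le b⟩
  have hr := (Chart.isOpenImmersion_map_and_range h).2
  have e1 : γ.hU.fromSpec ⁻¹' (X.basicOpen a : Set X) =
      (PrimeSpectrum.basicOpen a : Set (PrimeSpectrum Γ(X, γ.U))) :=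
    congrArg SetLike.coe (γ.hU.fromSpec_preimage_basicOpen a)
  have e2 : γ.hV.fromSpec ⁻¹' (Y.basicOpen b : Set Y) =
      (PrimeSpectrum.basicOpen b : Set (PrimeSpectrum Γ(Y, γ.V))) :=
    congrArg SetLike.coe (γ.hV.fromSpec_preimage_basicOpen b)
  have key : (Chart.openOf γ δ.U δ.V δ.2 : Set γ.obj) =
      (PrimeSpectrum.basicOpen c : Set (PrimeSpectrum γ.subring)) := by
    show γ.cart.glueSet (γ.hU.fromSpec ⁻¹' (X.basicOpen a : Set X)) (γ.hV.fromSpec ⁻¹' (Y.basicOpen b : Set Y)) = _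
    refine (congrArg₂ γ.cart.glueSet e1 e2).trans ?_
    apply Set.Subset.antisymm
    · rintro Q (⟨y, hy, rfl⟩ | ⟨y, hy, rfl⟩) <;> exact hy
    · exact γ.cart.basicOpen_subset_glueSet (fun z hz => hz) (fun z hz => hz)
  refine ⟨δ, h, ?_, ?_⟩
  · rw [hr, key]; exact hcP
  · rw [hr, key]; exact hcO

variable (i j) in
instance : (chartFunctor i j ⋙ Scheme.forget).IsLocallyDirected := ⟨by
  intro α β γ fα fβ xα xβ hx
  let Oα : (γ.obj).Opens := ((chartFunctor i j).map fα).opensRange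
  let Oβ : (γ.obj).Opens := ((chartFunctor i j).map fβ).opensRange
  have hP : (chartFunctor i j).map fα xα ∈ Oα ⊓ Oβ := ⟨⟨xα, rfl⟩, ⟨xβ, hx.symm⟩⟩
  obtain ⟨δ, h, ⟨z, hz⟩, hsub⟩ := Chart.exists_le_of_mem γ (Oα ⊓ Oβ) hP
  have aux : ∀ (α : Chart i j) (hα : α ≤ γ),
      Set.range (Chart.map h) ⊆ Set.range (Chart.map hα) → δ ≤ α := by
    intro α hα hsub'
    rw [(Chart.isOpenImmersion_map_and_range h).2, (Chart.isOpenImmersion_map_and_range hα).2] at hsub'
    have h1 := Set.preimage_mono (f := γ.cart.iA') hsub'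
    have h2 := Set.preimage_mono (f := γ.cart.iB) hsub'
    rw [Chart.iA'_preimage_openOf, Chart.iA'_preimage_openOf] at h1
    rw [Chart.iB_preimage_openOf, Chart.iB_preimage_openOf] at h2
    refine ⟨fun x hx => ?_, fun x hx => ?_⟩
    · obtain ⟨y, rfl⟩ := mem_range_fromSpec γ.hU (Chart.le_U h hx)
      exact h1 hx
    · obtain ⟨y, rfl⟩ := mem_range_fromSpec γ.hV (Chart.le_V h hx)
      exact h2 hx
  have hα' : δ ≤ α := aux α (leOfHom fα) fun P hP => (hsub hP).1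
  have hβ' : δ ≤ β := aux β (leOfHom fβ) fun P hP => (hsub hP).2
  refine ⟨δ, homOfLE hα', homOfLE hβ', z, ?_, ?_⟩
  · show Chart.map hα' z = xα
    apply ((chartFunctor i j).map fα).isOpenEmbedding.injective
    show Chart.map (leOfHom fα) (Chart.map hα' z) = _
    rw [← Scheme.Hom.comp_apply, Chart.map_comp]
    exact hz
  · show Chart.map hβ' z = xβ
    apply ((chartFunctor i j).map fβ).isOpenEmbedding.injective
    show Chart.map (leOfHom fβ) (Chart.map hβ' z) = _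
    rw [← Scheme.Hom.comp_apply, Chart.map_comp]
    exact hz.trans hx⟩

variable (i j)

/-- The glued scheme. -/
noncomputable def glued : Scheme.{u} := colimit (chartFunctor i j)

noncomputable def chartι (α : Chart i j) : α.obj ⟶ glued i j := colimit.ι (chartFunctor i j) α

instance (α : Chart i j) : IsOpenImmersion (chartι i j α) :=
  inferInstanceAs (IsOpenImmersion (colimit.ι (chartFunctor i j) α))

variable {i j}

theorem map_chartι {α β : Chart i j} (h : α ≤ β) : Chart.map h ≫ chartι i j β = chartι i j α :=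
  colimit.w (chartFunctor i j) (homOfLE h)

theorem exists_le_of_mem_inter {α β : Chart i j} {x : X} (hα : x ∈ α.U) (hβ : x ∈ β.U) :
    ∃ δ, δ ≤ α ∧ δ ≤ β ∧ x ∈ δ.U := by
  have htr : i ⁻¹ᵁ (α.U ⊓ β.U) = j ⁻¹ᵁ (α.V ⊓ β.V) := by
    show i ⁻¹ᵁ α.U ⊓ i ⁻¹ᵁ β.U = j ⁻¹ᵁ α.V ⊓ j ⁻¹ᵁ β.V
    rw [α.2, β.2]
  let O := Chart.openOf α (α.U ⊓ β.U) (α.V ⊓ β.V) htr
  obtain ⟨y, rfl⟩ := mem_range_fromSpec α.hU (hα)
  have hyO : α.cart.iA' y ∈ O := by
    show y ∈ α.cart.iA' ⁻¹' (O : Set α.obj)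
    rw [Chart.iA'_preimage_openOf]
    exact ⟨hα, hβ⟩
  obtain ⟨δ, h, hδ, hsub⟩ := Chart.exists_le_of_mem α O hyO
  rw [(Chart.isOpenImmersion_map_and_range h).2] at hsub hδ
  have h1 := Set.preimage_mono (f := α.cart.iA') hsub
  have h2 := Set.preimage_mono (f := α.cart.iB) hsub
  rw [Chart.iA'_preimage_openOf, Chart.iA'_preimage_openOf] at h1
  rw [Chart.iB_preimage_openOf, Chart.iB_preimage_openOf] at h2
  refine ⟨δ, h, ⟨fun z hz => ?_, fun z hz => ?_⟩, ?_⟩
  · obtain ⟨w, rfl⟩ := mem_range_fromSpec α.hU (Chart.le_U h hz)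
    exact (h1 hz).2
  · obtain ⟨w, rfl⟩ := mem_range_fromSpec α.hV (Chart.le_V h hz)
    exact (h2 hz).2
  · have : y ∈ α.cart.iA' ⁻¹' (Chart.openOf α δ.U δ.V δ.2 : Set α.obj) := hδ
    rw [Chart.iA'_preimage_openOf] at this
    exact this

theorem exists_le_of_mem_inter' {α β : Chart i j} {x : Y} (hα : x ∈ α.V) (hβ : x ∈ β.V) :
    ∃ δ, δ ≤ α ∧ δ ≤ β ∧ x ∈ δ.V := by
  have htr : i ⁻¹ᵁ (α.U ⊓ β.U) = j ⁻¹ᵁ (α.V ⊓ β.V) := by
    show i ⁻¹ᵁ α.U ⊓ i ⁻¹ᵁ β.U = j ⁻¹ᵁ α.V ⊓ j ⁻¹ᵁ β.V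
    rw [α.2, β.2]
  let O := Chart.openOf α (α.U ⊓ β.U) (α.V ⊓ β.V) htr
  obtain ⟨y, rfl⟩ := mem_range_fromSpec α.hV (hα)
  have hyO : α.cart.iB y ∈ O := by
    show y ∈ α.cart.iB ⁻¹' (O : Set α.obj)
    rw [Chart.iB_preimage_openOf]
    exact ⟨hα, hβ⟩
  obtain ⟨δ, h, hδ, hsub⟩ := Chart.exists_le_of_mem α O hyO
  rw [(Chart.isOpenImmersion_map_and_range h).2] at hsub hδ
  have h1 := Set.preimage_mono (f := α.cart.iA') hsub
  have h2 := Set.preimage_mono (f := α.cart.iB) hsub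
  rw [Chart.iA'_preimage_openOf, Chart.iA'_preimage_openOf] at h1
  rw [Chart.iB_preimage_openOf, Chart.iB_preimage_openOf] at h2
  refine ⟨δ, h, ⟨fun z hz => ?_, fun z hz => ?_⟩, ?_⟩
  · obtain ⟨w, rfl⟩ := mem_range_fromSpec α.hU (Chart.le_U h hz)
    exact (h1 hz).2
  · obtain ⟨w, rfl⟩ := mem_range_fromSpec α.hV (Chart.le_V h hz)
    exact (h2 hz).2
  · have : y ∈ α.cart.iB ⁻¹' (Chart.openOf α δ.U δ.V δ.2 : Set α.obj) := hδ
    rw [Chart.iB_preimage_openOf] at this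
    exact this

/-- The maps of a chart of `X` into the glued scheme. -/
noncomputable def toGluedU (α : Chart i j) : Spec Γ(X, α.U) ⟶ glued i j := α.cart.iA' ≫ chartι i j α

noncomputable def toGluedV (α : Chart i j) : Spec Γ(Y, α.V) ⟶ glued i j := α.cart.iB ≫ chartι i j α

theorem toGluedU_res {α β : Chart i j} (h : α ≤ β) :
    Spec.map (X.presheaf.map (homOfLE (Chart.le_U h)).op) ≫ toGluedU β = toGluedU α := by
  rw [toGluedU, toGluedU, ← map_chartι h, ← Category.assoc, ← Category.assoc, Chart.iA'_map]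

theorem toGluedV_res {α β : Chart i j} (h : α ≤ β) :
    Spec.map (Y.presheaf.map (homOfLE (Chart.le_V h)).op) ≫ toGluedV β = toGluedV α := by
  rw [toGluedV, toGluedV, ← map_chartι h, ← Category.assoc, ← Category.assoc, Chart.iB_map]

/-- A family of morphisms on affine opens compatible with restriction glues. -/
theorem exists_glue {T W : Scheme.{u}} {J : Type u} [Preorder J] (O : J → T.Opens) (hO : ∀ α, IsAffineOpen (O α))
    (hle : ∀ {α β}, α ≤ β → O α ≤ O β) (hcov : ∀ x : T, ∃ α, x ∈ O α)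
    (hdir : ∀ {α β} {x : T}, x ∈ O α → x ∈ O β → ∃ δ, δ ≤ α ∧ δ ≤ β ∧ x ∈ O δ)
    (f : ∀ α, Spec Γ(T, O α) ⟶ W)
    (hf : ∀ {α β} (h : α ≤ β), Spec.map (T.presheaf.map (homOfLE (hle h)).op) ≫ f β = f α) :
    ∃ a : T ⟶ W, ∀ α, (hO α).fromSpec ≫ a = f α := by
  let 𝒰 : T.OpenCover := Scheme.Cover.mkOfCovers J (fun α => Spec Γ(T, O α)) (fun α => (hO α).fromSpec)
    (fun x => by
      obtain ⟨α, hα⟩ := hcov x
      obtain ⟨y, hy⟩ := mem_range_fromSpec (hO α) (hα)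
      exact ⟨α, y, hy⟩)
    (fun α => inferInstance)
  haveI : ∀ α, IsOpenImmersion (𝒰.f α) := fun α => inferInstanceAs (IsOpenImmersion (hO α).fromSpec)
  have glue : ∀ α β, pullback.fst (𝒰.f α) (𝒰.f β) ≫ f α = pullback.snd (𝒰.f α) (𝒰.f β) ≫ f β := by
    intro α β
    have loc : ∀ p : ↥(pullback (𝒰.f α) (𝒰.f β)), ∃ (Q : Scheme.{u}) (k : Q ⟶ pullback (𝒰.f α) (𝒰.f β))
        (_ : IsOpenImmersion k), p ∈ Set.range k ∧
          k ≫ pullback.fst (𝒰.f α) (𝒰.f β) ≫ f α = k ≫ pullback.snd (𝒰.f α) (𝒰.f β) ≫ f β := by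
      intro p
      let x := (pullback.fst (𝒰.f α) (𝒰.f β) ≫ 𝒰.f α) p
      have hxα : x ∈ O α := fromSpec_mem (hO α) _
      have hxβ : x ∈ O β := by
        have e : x = (pullback.snd (𝒰.f α) (𝒰.f β) ≫ 𝒰.f β) p := by
          simp only [x, pullback.condition]
        rw [e]
        exact fromSpec_mem (hO β) _
      obtain ⟨δ, h₁, h₂, hxδ⟩ := hdir hxα hxβ
      let k : Spec Γ(T, O δ) ⟶ pullback (𝒰.f α) (𝒰.f β) :=
        pullback.lift (Spec.map (T.presheaf.map (homOfLE (hle h₁)).op))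
          (Spec.map (T.presheaf.map (homOfLE (hle h₂)).op))
          (((hO α).map_fromSpec (hO δ) _).trans ((hO β).map_fromSpec (hO δ) _).symm)
      have hk : k ≫ pullback.fst (𝒰.f α) (𝒰.f β) ≫ 𝒰.f α = (hO δ).fromSpec := by
        rw [pullback.lift_fst_assoc]
        exact (hO α).map_fromSpec (hO δ) _
      haveI : IsOpenImmersion (k ≫ pullback.fst (𝒰.f α) (𝒰.f β) ≫ 𝒰.f α) := hk ▸ inferInstance
      haveI : IsOpenImmersion k := IsOpenImmersion.of_comp k (pullback.fst (𝒰.f α) (𝒰.f β) ≫ 𝒰.f α)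
      refine ⟨_, k, inferInstance, ?_, ?_⟩
      · obtain ⟨y, hy⟩ := mem_range_fromSpec (hO δ) hxδ
        refine ⟨y, (pullback.fst (𝒰.f α) (𝒰.f β) ≫ 𝒰.f α).isOpenEmbedding.injective ?_⟩
        rw [← Scheme.Hom.comp_apply, hk]
        exact hy
      · rw [pullback.lift_fst_assoc, pullback.lift_snd_assoc]
        exact (hf h₁).trans (hf h₂).symm
    choose Q k hk hx he using loc
    let 𝒱 : (pullback (𝒰.f α) (𝒰.f β)).OpenCover :=
      Scheme.Cover.mkOfCovers _ Q k (fun x => ⟨x, hx x⟩) hk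
    exact 𝒱.hom_ext _ _ he
  exact ⟨𝒰.glueMorphisms f glue, fun α => 𝒰.ι_glueMorphisms f glue α⟩

variable (i j)

/-- Existence of the pushout, with its charts. -/
theorem exists_pushout_charts [IsAffineHom j] (hX : ∀ x : X, ∃ α : Chart i j, x ∈ α.U)
    (hY : ∀ y : Y, ∃ α : Chart i j, y ∈ α.V) :
    ∃ (a : X ⟶ glued i j) (b : Y ⟶ glued i j), IsPushout i j a b ∧
      (∀ α : Chart i j, α.hU.fromSpec ≫ a = toGluedU α) ∧
      (∀ α : Chart i j, α.hV.fromSpec ≫ b = toGluedV α) := by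
  obtain ⟨a, ha⟩ := exists_glue (fun α : Chart i j => α.U) (fun α => α.hU) Chart.le_U hX
    exists_le_of_mem_inter toGluedU toGluedU_res
  obtain ⟨b, hb⟩ := exists_glue (fun α : Chart i j => α.V) (fun α => α.hV) Chart.le_V hY
    exists_le_of_mem_inter' toGluedV toGluedV_res
  let 𝒵 : Z.OpenCover := Scheme.Cover.mkOfCovers (Chart i j) (fun α => Spec Γ(Z, α.W))
    (fun α => α.hW.fromSpec) (fun z => by
      obtain ⟨α, hα⟩ := hX (i z)
      obtain ⟨y, hy⟩ := mem_range_fromSpec α.hW (show z ∈ α.W from hα)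
      exact ⟨α, y, hy⟩)
    (fun α => inferInstance)
  have hw : i ≫ a = j ≫ b := by
    refine 𝒵.hom_ext _ _ fun α => ?_
    show α.hW.fromSpec ≫ i ≫ a = α.hW.fromSpec ≫ j ≫ b
    rw [← Category.assoc, ← Chart.specMap_p_fromSpec, ← Category.assoc, ← Chart.specMap_q_fromSpec,
      Category.assoc, Category.assoc, ha, hb, toGluedU, toGluedV, ← Category.assoc, ← Category.assoc,
      α.cart.isPushout_Spec.w]
  refine ⟨a, b, ⟨⟨hw⟩, ⟨PushoutCocone.isColimitAux' _ fun s => ?_⟩⟩, ha, hb⟩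
  have hex : ∀ α : Chart i j, ∃ l : α.obj ⟶ s.pt,
      α.cart.iA' ≫ l = α.hU.fromSpec ≫ s.inl ∧ α.cart.iB ≫ l = α.hV.fromSpec ≫ s.inr := fun α => by
    refine α.cart.exists_desc _ _ ?_
    rw [← Category.assoc, Chart.specMap_q_fromSpec, ← Category.assoc, Chart.specMap_p_fromSpec,
      Category.assoc, Category.assoc, s.condition]
  choose l hlA hlB using hex
  have hnat : ∀ {α β : Chart i j} (h : α ≤ β), Chart.map h ≫ l β = l α := by
    intro α β h
    refine α.cart.isPushout_Spec.hom_ext ?_ ?_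
    · rw [reassoc_of% (Chart.iA'_map h), hlA, hlA, ← Category.assoc, β.hU.map_fromSpec α.hU]
    · rw [reassoc_of% (Chart.iB_map h), hlB, hlB, ← Category.assoc, β.hV.map_fromSpec α.hV]
  let c : Cocone (chartFunctor i j) :=
    { pt := s.pt
      ι := { app := fun α => l α, naturality := fun α β f =>
        (hnat (leOfHom f)).trans (Category.comp_id _).symm } }
  let L : glued i j ⟶ s.pt := colimit.desc _ c
  have hL : ∀ α, chartι i j α ≫ L = l α := fun α => colimit.ι_desc c α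
  refine ⟨L, ?_, ?_, fun {m} hm₁ hm₂ => ?_⟩
  · let 𝒳 : X.OpenCover := Scheme.Cover.mkOfCovers (Chart i j) (fun α => Spec Γ(X, α.U))
      (fun α => α.hU.fromSpec) (fun x => by
        obtain ⟨α, hα⟩ := hX x
        obtain ⟨y, hy⟩ := mem_range_fromSpec α.hU (hα)
        exact ⟨α, y, hy⟩)
      (fun α => inferInstance)
    refine 𝒳.hom_ext _ _ fun α => ?_
    show α.hU.fromSpec ≫ a ≫ L = α.hU.fromSpec ≫ s.inl
    rw [← Category.assoc, ha, toGluedU, Category.assoc, hL, hlA]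
  · let 𝒳 : Y.OpenCover := Scheme.Cover.mkOfCovers (Chart i j) (fun α => Spec Γ(Y, α.V))
      (fun α => α.hV.fromSpec) (fun x => by
        obtain ⟨α, hα⟩ := hY x
        obtain ⟨y, hy⟩ := mem_range_fromSpec α.hV (hα)
        exact ⟨α, y, hy⟩)
      (fun α => inferInstance)
    refine 𝒳.hom_ext _ _ fun α => ?_
    show α.hV.fromSpec ≫ b ≫ L = α.hV.fromSpec ≫ s.inr
    rw [← Category.assoc, hb, toGluedV, Category.assoc, hL, hlB]
  · refine colimit.hom_ext (F := chartFunctor i j) fun α => ?_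
    show chartι i j α ≫ m = chartι i j α ≫ L
    rw [hL]
    refine α.cart.isPushout_Spec.hom_ext ?_ ?_
    · rw [hlA, ← Category.assoc]
      show toGluedU α ≫ m = _
      rw [← ha, Category.assoc]
      exact congrArg (α.hU.fromSpec ≫ ·) hm₁
    · rw [hlB, ← Category.assoc]
      show toGluedV α ≫ m = _
      rw [← hb, Category.assoc]
      exact congrArg (α.hV.fromSpec ≫ ·) hm₂

variable {i j}

theorem preimage_chartι_opensRange_U {a : X ⟶ glued i j}
    (ha : ∀ α : Chart i j, α.hU.fromSpec ≫ a = toGluedU α) (hX : ∀ x : X, ∃ α : Chart i j, x ∈ α.U)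
    (α : Chart i j) : a ⁻¹ᵁ (chartι i j α).opensRange = α.U := by
  ext x
  constructor
  · rintro ⟨P, hP⟩
    obtain ⟨β, hβ⟩ := hX x
    obtain ⟨y, rfl⟩ := mem_range_fromSpec β.hU (hβ)
    have h1 : colimit.ι (chartFunctor i j) α P = colimit.ι (chartFunctor i j) β (β.cart.iA' y) := by
      have := congrArg (fun g => g y) (ha β)
      simp only [toGluedU, Scheme.Hom.comp_apply] at this
      exact hP.trans this
    obtain ⟨δ, f₁, f₂, z, -, h₂⟩ := (Scheme.IsLocallyDirected.ι_eq_ι_iff _).mp h1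
    have h3 : β.cart.iA' y ∈ Set.range (Chart.map (leOfHom f₂)) := ⟨z, h₂⟩
    rw [(Chart.isOpenImmersion_map_and_range (leOfHom f₂)).2] at h3
    have h4 : y ∈ β.cart.iA' ⁻¹' (Chart.openOf β δ.U δ.V δ.2 : Set β.obj) := h3
    rw [Chart.iA'_preimage_openOf] at h4
    exact Chart.le_U (leOfHom f₁) h4
  · intro hx
    obtain ⟨y, rfl⟩ := mem_range_fromSpec α.hU (hx)
    exact ⟨α.cart.iA' y, by rw [← Scheme.Hom.comp_apply, ← Scheme.Hom.comp_apply, ha]; rfl⟩

theorem preimage_chartι_opensRange_V {b : Y ⟶ glued i j}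
    (hb : ∀ α : Chart i j, α.hV.fromSpec ≫ b = toGluedV α) (hY : ∀ y : Y, ∃ α : Chart i j, y ∈ α.V)
    (α : Chart i j) : b ⁻¹ᵁ (chartι i j α).opensRange = α.V := by
  ext x
  constructor
  · rintro ⟨P, hP⟩
    obtain ⟨β, hβ⟩ := hY x
    obtain ⟨y, rfl⟩ := mem_range_fromSpec β.hV (hβ)
    have h1 : colimit.ι (chartFunctor i j) α P = colimit.ι (chartFunctor i j) β (β.cart.iB y) := by
      have := congrArg (fun g => g y) (hb β)
      simp only [toGluedV, Scheme.Hom.comp_apply] at this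
      exact hP.trans this
    obtain ⟨δ, f₁, f₂, z, -, h₂⟩ := (Scheme.IsLocallyDirected.ι_eq_ι_iff _).mp h1
    have h3 : β.cart.iB y ∈ Set.range (Chart.map (leOfHom f₂)) := ⟨z, h₂⟩
    rw [(Chart.isOpenImmersion_map_and_range (leOfHom f₂)).2] at h3
    have h4 : y ∈ β.cart.iB ⁻¹' (Chart.openOf β δ.U δ.V δ.2 : Set β.obj) := h3
    rw [Chart.iB_preimage_openOf] at h4
    exact Chart.le_V (leOfHom f₁) h4
  · intro hx
    obtain ⟨y, rfl⟩ := mem_range_fromSpec α.hV (hx)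
    exact ⟨α.cart.iB y, by rw [← Scheme.Hom.comp_apply, ← Scheme.Hom.comp_apply, hb]; rfl⟩

theorem iSup_opensRange_chartι : ⨆ α : Chart i j, (chartι i j α).opensRange = ⊤ :=
  top_le_iff.mp fun x _ => by
    obtain ⟨α, P, hP⟩ := Scheme.IsLocallyDirected.ι_jointly_surjective (chartFunctor i j) x
    exact TopologicalSpace.Opens.mem_iSup.mpr ⟨α, P, hP⟩

end Groth.Agent.FerrandPush
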