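import Groth.Agent.FerrandPush.Algebra

/-!
# Open subsets of the spectrum of a Milnor square
-/

set_option autoImplicit false
set_option linter.style.haveILetI false
universe u

namespace Groth.Agent.FerrandPush

namespace Cart

variable {C B A' A : Type u} [CommRing C] [CommRing B] [CommRing A'] [CommRing A]
  (D : Cart C B A' A)

theorem comap_w (w : PrimeSpectrum A) :
    PrimeSpectrum.comap D.fst (PrimeSpectrum.comap D.q w) =
      PrimeSpectrum.comap D.snd (PrimeSpectrum.comap D.p w) :=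
  PrimeSpectrum.ext (Ideal.ext fun c => by
    show D.q (D.fst c) ∈ w.asIdeal ↔ D.p (D.snd c) ∈ w.asIdeal
    rw [D.w])

theorem comap_fst_injective : Function.Injective (PrimeSpectrum.comap D.fst) :=
  PrimeSpectrum.comap_injective_of_surjective D.fst D.fst_surjective

theorem exists_comap_p {y : PrimeSpectrum A'} (h : RingHom.ker D.p ≤ y.asIdeal) :
    ∃ w, PrimeSpectrum.comap D.p w = y :=
  ⟨⟨Ideal.map D.p y.asIdeal, Ideal.map_isPrime_of_surjective D.surj h⟩,
    PrimeSpectrum.ext ((Ideal.comap_map_of_surjective _ D.surj _).trans (sup_eq_left.mpr h))⟩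

theorem exists_comap_fst {P : PrimeSpectrum C} (h : RingHom.ker D.fst ≤ P.asIdeal) :
    ∃ y, PrimeSpectrum.comap D.fst y = P :=
  ⟨⟨Ideal.map D.fst P.asIdeal, Ideal.map_isPrime_of_surjective D.fst_surjective h⟩,
    PrimeSpectrum.ext ((Ideal.comap_map_of_surjective _ D.fst_surjective _).trans (sup_eq_left.mpr h))⟩

/-- The points of `Spec C` over which `y` lies, in the overlap. -/
theorem ker_le_of_comap_eq {y : PrimeSpectrum A'} {y₂ : PrimeSpectrum B}
    (h : PrimeSpectrum.comap D.snd y = PrimeSpectrum.comap D.fst y₂) :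
    RingHom.ker D.p ≤ y.asIdeal := by
  intro a ha
  obtain ⟨c, hc₁, hc₂⟩ := D.lift' 0 a (by rw [map_zero]; exact (RingHom.mem_ker.mp ha).symm)
  have hm : c ∈ (PrimeSpectrum.comap D.fst y₂).asIdeal := by
    show D.fst c ∈ y₂.asIdeal
    rw [hc₁]; exact zero_mem _
  rw [← h] at hm
  exact hc₂ ▸ hm

variable (U : Set (PrimeSpectrum A')) (V : Set (PrimeSpectrum B))

/-- A pair of subsets with the same trace in `Spec A`. -/
def IsSat : Prop :=
  ∀ w : PrimeSpectrum A, PrimeSpectrum.comap D.p w ∈ U ↔ PrimeSpectrum.comap D.q w ∈ V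

/-- The subset of `Spec C` glued from a pair. -/
def glueSet : Set (PrimeSpectrum C) := PrimeSpectrum.comap D.fst '' V ∪ PrimeSpectrum.comap D.snd '' U

variable {U V} (hsat : D.IsSat U V)

include hsat

theorem preimage_fst_glueSet : PrimeSpectrum.comap D.fst ⁻¹' D.glueSet U V = V := by
  refine Set.Subset.antisymm (fun y hy => ?_) (fun y hy => Or.inl ⟨y, hy, rfl⟩)
  rcases hy with ⟨y', hy', e⟩ | ⟨y', hy', e⟩
  · exact D.comap_fst_injective e ▸ hy'
  · obtain ⟨w, rfl⟩ := D.exists_comap_p (D.ker_le_of_comap_eq e)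
    rw [← comap_w] at e
    exact D.comap_fst_injective e ▸ (hsat w).mp hy'

theorem preimage_snd_glueSet : PrimeSpectrum.comap D.snd ⁻¹' D.glueSet U V = U := by
  refine Set.Subset.antisymm (fun y hy => ?_) (fun y hy => Or.inr ⟨y, hy, rfl⟩)
  rcases hy with ⟨y', hy', e⟩ | ⟨y', hy', e⟩
  · obtain ⟨w, rfl⟩ := D.exists_comap_p (D.ker_le_of_comap_eq e.symm)
    rw [← comap_w] at e
    exact (hsat w).mpr (D.comap_fst_injective e ▸ hy')
  · by_cases hy0 : RingHom.ker D.p ≤ y.asIdeal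
    · obtain ⟨w, rfl⟩ := D.exists_comap_p hy0
      rw [← comap_w] at e
      obtain ⟨w', rfl⟩ := D.exists_comap_p (D.ker_le_of_comap_eq e)
      rw [← comap_w] at e
      exact (hsat w).mpr (D.comap_fst_injective e ▸ (hsat w').mp hy')
    · obtain ⟨k, hk, hky⟩ := Set.not_subset.mp hy0
      have hk0 : D.p k = 0 := hk
      have he : ∀ d : C, D.snd d ∈ y'.asIdeal ↔ D.snd d ∈ y.asIdeal := fun d =>
        SetLike.ext_iff.mp (congrArg PrimeSpectrum.asIdeal e) d
      obtain ⟨c, hc₁, hc₂⟩ := D.lift' 0 k (by rw [map_zero, hk0])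
      have hky' : k ∉ y'.asIdeal := fun h => hky (hc₂ ▸ (he c).mp (hc₂.symm ▸ h))
      have : y' = y := by
        refine PrimeSpectrum.ext (Ideal.ext fun a => ?_)
        obtain ⟨d, hd₁, hd₂⟩ := D.lift' 0 (a * k) (by rw [map_zero, map_mul, hk0, mul_zero])
        have hak := he d
        rw [hd₂] at hak
        exact ⟨fun h => ((y.2.mem_or_mem (hak.mp (y'.asIdeal.mul_mem_right _ h))).resolve_right hky),
          fun h => ((y'.2.mem_or_mem (hak.mpr (y.asIdeal.mul_mem_right _ h))).resolve_right hky')⟩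
      exact this ▸ hy'

theorem exists_elem_fst (hU : IsOpen U) (hV : IsOpen V) {y : PrimeSpectrum B} (hy : y ∈ V) :
    ∃ c : C, c ∉ (PrimeSpectrum.comap D.fst y).asIdeal ∧
      (∀ z : PrimeSpectrum B, D.fst c ∉ z.asIdeal → z ∈ V) ∧
      (∀ z : PrimeSpectrum A', D.snd c ∉ z.asIdeal → z ∈ U) := by
  obtain ⟨_, ⟨b, rfl⟩, hyb, hbV⟩ :=
    PrimeSpectrum.isTopologicalBasis_basic_opens.exists_subset_of_mem_open hy hV
  obtain ⟨a, ha⟩ := D.surj (D.q b)
  obtain ⟨I, hI⟩ : ∃ I : Ideal A', ∀ z : PrimeSpectrum A', z ∈ U ↔ ¬ I ≤ z.asIdeal := by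
    obtain ⟨s, hs⟩ := (PrimeSpectrum.isOpen_iff U).mp hU
    refine ⟨Ideal.span s, fun z => ?_⟩
    rw [Ideal.span_le]
    have := Set.ext_iff.mp hs z
    simp only [Set.mem_compl_iff, PrimeSpectrum.mem_zeroLocus] at this
    rw [← this, not_not]
  have hrad : a ∈ (I ⊔ RingHom.ker D.p).radical := by
    rw [Ideal.radical_eq_sInf, Submodule.mem_sInf]
    rintro P ⟨hP, hPp⟩
    by_contra haP
    obtain ⟨w, hw⟩ := D.exists_comap_p (y := ⟨P, hPp⟩) (le_sup_right.trans hP)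
    have hqb : PrimeSpectrum.comap D.q w ∈ V := by
      refine hbV fun hmem => haP ?_
      have h1 : D.p a ∈ w.asIdeal := by rw [ha]; exact hmem
      exact (SetLike.ext_iff.mp (congrArg PrimeSpectrum.asIdeal hw) a).mp h1
    exact (hI _).mp (hw ▸ (hsat w).mpr hqb) (le_sup_left.trans hP)
  obtain ⟨n, hn⟩ := hrad
  obtain ⟨e, he, j, hj, hej⟩ := Submodule.mem_sup.mp hn
  obtain ⟨c, hc₁, hc₂⟩ := D.lift' (b ^ n * b) (e * a) (by
    rw [map_mul, map_mul, map_pow, ha]
    congr 1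
    rw [← ha, ← map_pow, ← hej, map_add, RingHom.mem_ker.mp hj, add_zero])
  refine ⟨c, ?_, fun z hz => ?_, fun z hz => ?_⟩
  · show D.fst c ∉ y.asIdeal
    rw [hc₁]
    exact fun h => (y.2.mem_or_mem h).elim (fun h' => hyb (y.2.mem_of_pow_mem n h')) hyb
  · rw [hc₁] at hz
    exact hbV fun h => hz (z.asIdeal.mul_mem_left _ h)
  · rw [hc₂] at hz
    exact (hI z).mpr fun hle => hz (z.asIdeal.mul_mem_right _ (hle he))

theorem exists_elem (hU : IsOpen U) (hV : IsOpen V) {P : PrimeSpectrum C} (hP : P ∈ D.glueSet U V) :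
    ∃ c : C, c ∉ P.asIdeal ∧ (∀ z : PrimeSpectrum B, D.fst c ∉ z.asIdeal → z ∈ V) ∧
      (∀ z : PrimeSpectrum A', D.snd c ∉ z.asIdeal → z ∈ U) := by
  by_cases hker : RingHom.ker D.fst ≤ P.asIdeal
  · obtain ⟨y, rfl⟩ := D.exists_comap_fst hker
    exact D.exists_elem_fst hsat hU hV (by rw [← D.preimage_fst_glueSet hsat]; exact hP)
  · obtain ⟨c₀, hc0, hc0P⟩ := Set.not_subset.mp hker
    have hc1 : D.fst c₀ = 0 := hc0
    rcases D.exists_prime P with ⟨y, rfl⟩ | ⟨y, rfl⟩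
    · exact absurd (show D.fst c₀ ∈ y.asIdeal by rw [hc1]; exact zero_mem _) hc0P
    have hy : y ∈ U := by rw [← D.preimage_snd_glueSet hsat]; exact hP
    obtain ⟨_, ⟨a, rfl⟩, hya, haU⟩ :=
      PrimeSpectrum.isTopologicalBasis_basic_opens.exists_subset_of_mem_open hy hU
    obtain ⟨c, hc₁, hc₂⟩ := D.lift' 0 (a * D.snd c₀) (by simp [← D.w, hc1])
    refine ⟨c, ?_, fun z hz => absurd (hc₁ ▸ zero_mem _) hz, fun z hz => ?_⟩
    · show D.snd c ∉ y.asIdeal
      rw [hc₂]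
      exact fun h => (y.2.mem_or_mem h).elim hya hc0P
    · rw [hc₂] at hz
      exact haU fun h => hz (z.asIdeal.mul_mem_right _ h)

omit hsat in
theorem basicOpen_subset_glueSet {c : C}
    (hB : ∀ z : PrimeSpectrum B, D.fst c ∉ z.asIdeal → z ∈ V)
    (hA : ∀ z : PrimeSpectrum A', D.snd c ∉ z.asIdeal → z ∈ U) :
    (PrimeSpectrum.basicOpen c : Set (PrimeSpectrum C)) ⊆ D.glueSet U V := by
  intro P hP
  rcases D.exists_prime P with ⟨y, rfl⟩ | ⟨y, rfl⟩
  · exact Or.inl ⟨y, hB y hP, rfl⟩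
  · exact Or.inr ⟨y, hA y hP, rfl⟩

theorem isOpen_glueSet (hU : IsOpen U) (hV : IsOpen V) : IsOpen (D.glueSet U V) := by
  rw [isOpen_iff_forall_mem_open]
  intro P hP
  obtain ⟨c, hc, hB, hA⟩ := D.exists_elem hsat hU hV hP
  exact ⟨_, D.basicOpen_subset_glueSet hB hA, (PrimeSpectrum.basicOpen c).isOpen, hc⟩

end Cart

end Groth.Agent.FerrandPush
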