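import Groth.Agent.FerrandPush.Glue

/-!
# Properties of the glued pushout
-/

set_option autoImplicit false
set_option linter.style.haveILetI false
set_option linter.unusedVariables false
universe u
open CategoryTheory CategoryTheory.Limits AlgebraicGeometry

namespace Groth.Agent.FerrandPush

variable {X Y Z : Scheme.{u}} {i : Z ⟶ X} {j : Z ⟶ Y} [IsClosedImmersion i]
  {a : X ⟶ glued i j} {b : Y ⟶ glued i j}

theorem isPullback_chartι_U (ha : ∀ α : Chart i j, α.hU.fromSpec ≫ a = toGluedU α)
    (hX : ∀ x : X, ∃ α : Chart i j, x ∈ α.U) (α : Chart i j) :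
    IsPullback α.cart.iA' α.hU.fromSpec (chartι i j α) a :=
  IsOpenImmersion.isPullback _ _ _ _ (ha α)
    ((preimage_chartι_opensRange_U ha hX α).trans α.hU.opensRange_fromSpec.symm)

theorem isPullback_chartι_V (hb : ∀ α : Chart i j, α.hV.fromSpec ≫ b = toGluedV α)
    (hY : ∀ y : Y, ∃ α : Chart i j, y ∈ α.V) (α : Chart i j) :
    IsPullback α.cart.iB α.hV.fromSpec (chartι i j α) b :=
  IsOpenImmersion.isPullback _ _ _ _ (hb α)
    ((preimage_chartι_opensRange_V hb hY α).trans α.hV.opensRange_fromSpec.symm)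

variable (i j) in
/-- The open cover of the glued scheme by the charts. -/
noncomputable def chartCover : (glued i j).OpenCover :=
  Scheme.Cover.mkOfCovers (Chart i j) (fun α => α.obj) (chartι i j)
    (fun x => by
      obtain ⟨α, P, hP⟩ := Scheme.IsLocallyDirected.ι_jointly_surjective (chartFunctor i j) x
      exact ⟨α, P, hP⟩)
    (fun α => inferInstance)

/-- Properties of `b` local on the target reduce to the charts. -/
theorem prop_b (P : MorphismProperty Scheme.{u}) [IsZariskiLocalAtTarget P]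
    (hb : ∀ α : Chart i j, α.hV.fromSpec ≫ b = toGluedV α)
    (hY : ∀ y : Y, ∃ α : Chart i j, y ∈ α.V) (h : ∀ α : Chart i j, P α.cart.iB) : P b := by
  refine IsZariskiLocalAtTarget.of_openCover (chartCover i j) fun α => ?_
  have hp := (isPullback_chartι_V hb hY α).flip
  show P (pullback.snd b (chartι i j α))
  rw [← hp.isoPullback_inv_snd, P.cancel_left_of_respectsIso]
  exact h α

/-- Properties of `a` local on the target reduce to the charts. -/
theorem prop_a (P : MorphismProperty Scheme.{u}) [IsZariskiLocalAtTarget P]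
    (ha : ∀ α : Chart i j, α.hU.fromSpec ≫ a = toGluedU α)
    (hX : ∀ x : X, ∃ α : Chart i j, x ∈ α.U) (h : ∀ α : Chart i j, P α.cart.iA') : P a := by
  refine IsZariskiLocalAtTarget.of_openCover (chartCover i j) fun α => ?_
  have hp := (isPullback_chartι_U ha hX α).flip
  show P (pullback.snd a (chartι i j α))
  rw [← hp.isoPullback_inv_snd, P.cancel_left_of_respectsIso]
  exact h α

theorem isClosedImmersion_iB (α : Chart i j) : IsClosedImmersion α.cart.iB :=
  IsClosedImmersion.spec_of_surjective _ α.cart.fst_surjective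

theorem isClosedImmersion_b (hb : ∀ α : Chart i j, α.hV.fromSpec ≫ b = toGluedV α)
    (hY : ∀ y : Y, ∃ α : Chart i j, y ∈ α.V) : IsClosedImmersion b :=
  prop_b @IsClosedImmersion hb hY isClosedImmersion_iB

theorem Cart.snd_isIntegral {C B A' A : Type u} [CommRing C] [CommRing B] [CommRing A'] [CommRing A]
    (D : Cart C B A' A) (hq : D.q.IsIntegral) : D.snd.IsIntegral := by
  intro a
  obtain ⟨f, hf, hfa⟩ := hq (D.p a)
  rcases subsingleton_or_nontrivial B with hB | hB
  · have h1 : (1 : A) = 0 := by rw [← map_one D.q, Subsingleton.elim (1 : B) 0, map_zero]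
    obtain ⟨d, hd₁, hd₂⟩ := D.lift' 0 a (by rw [map_zero, ← mul_one (D.p a), h1, mul_zero])
    exact ⟨Polynomial.X - Polynomial.C d, Polynomial.monic_X_sub_C d,
      by rw [Polynomial.eval₂_sub, Polynomial.eval₂_X, Polynomial.eval₂_C, hd₂, sub_self]⟩
  have hmem : Polynomial.X * f ∈ Polynomial.lifts D.fst :=
    (Polynomial.lifts_iff_coeff_lifts _).mpr fun n => D.fst_surjective _
  obtain ⟨g, hg, hgd, hgm⟩ :=
    Polynomial.lifts_and_degree_eq_and_monic hmem (Polynomial.monic_X.mul hf)
  have hker : D.p (g.eval₂ D.snd a) = 0 := by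
    rw [Polynomial.hom_eval₂, show D.p.comp D.snd = D.q.comp D.fst from
      RingHom.ext fun c => (D.w c).symm, ← Polynomial.eval₂_map, hg, Polynomial.eval₂_mul, hfa,
      mul_zero]
  obtain ⟨c₀, hc₁, hc₂⟩ := D.lift' 0 (g.eval₂ D.snd a) (by rw [map_zero, hker])
  refine ⟨g - Polynomial.C c₀, hgm.sub_of_left ?_, ?_⟩
  · refine Polynomial.degree_C_le.trans_lt ?_
    rw [hgd, Polynomial.degree_mul', Polynomial.degree_X]
    · exact lt_of_lt_of_le (by norm_num : (0 : WithBot ℕ) < 1)
        (le_add_of_nonneg_right (Polynomial.zero_le_degree_iff.mpr hf.ne_zero))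
    · rw [Polynomial.leadingCoeff_X, hf.leadingCoeff, one_mul]; exact one_ne_zero
  · rw [Polynomial.eval₂_sub, Polynomial.eval₂_C, hc₂, sub_self]

theorem isIntegralHom_a [IsIntegralHom j] (ha : ∀ α : Chart i j, α.hU.fromSpec ≫ a = toGluedU α)
    (hX : ∀ x : X, ∃ α : Chart i j, x ∈ α.U) : IsIntegralHom a := by
  refine prop_a @IsIntegralHom ha hX fun α => ?_
  rw [Cart.iA', IsIntegralHom.SpecMap_iff]
  refine α.cart.snd_isIntegral ?_
  show (j.appLE α.V α.W α.W_eq.le).hom.IsIntegral
  rw [Scheme.Hom.appLE, CommRingCat.hom_comp]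
  refine RingHom.IsIntegral.trans _ _ (IsIntegralHom.isIntegral_app j α.V α.hV) ?_
  refine RingHom.isIntegral_of_surjective _ ?_
  rw [show homOfLE α.W_eq.le = eqToHom α.W_eq from Subsingleton.elim _ _]
  exact (ConcreteCategory.bijective_of_isIso (Z.presheaf.map (eqToHom α.W_eq).op)).2

theorem isPullback_glued [IsAffineHom j] (hw : i ≫ a = j ≫ b)
    (ha : ∀ α : Chart i j, α.hU.fromSpec ≫ a = toGluedU α) (hX : ∀ x : X, ∃ α : Chart i j, x ∈ α.U)
    (hb : ∀ α : Chart i j, α.hV.fromSpec ≫ b = toGluedV α) (hY : ∀ y : Y, ∃ α : Chart i j, y ∈ α.V) :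
    IsPullback i j a b := by
  haveI := isClosedImmersion_b hb hY
  have key : ∀ {W : Scheme.{u}} (r : W ⟶ X) (s : W ⟶ Y), r ≫ a = s ≫ b → ∃ l, l ≫ i = r := by
    intro W r s hrs
    have loc : ∀ w : W, ∃ (Q : Scheme.{u}) (k : Q ⟶ W) (_ : IsOpenImmersion k), w ∈ Set.range k ∧
        ∃ l : Q ⟶ Z, l ≫ i = k ≫ r := by
      intro w
      obtain ⟨α, hα⟩ := hX (r w)
      obtain ⟨Q, hQ, hwQ, hQU⟩ := exists_isAffineOpen_mem_and_subset (U := r ⁻¹ᵁ α.U) hα
      let k := hQ.fromSpec
      have hkU : Set.range (k ≫ r) ⊆ Set.range α.hU.fromSpec := by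
        rintro _ ⟨z, rfl⟩
        rw [α.hU.range_fromSpec]
        exact hQU (fromSpec_mem hQ z)
      have hkV : Set.range (k ≫ s) ⊆ Set.range α.hV.fromSpec := by
        rintro _ ⟨z, rfl⟩
        rw [α.hV.range_fromSpec]
        have h1 : r (k z) ∈ a ⁻¹ᵁ (chartι i j α).opensRange := by
          rw [preimage_chartι_opensRange_U ha hX α]
          exact hQU (fromSpec_mem hQ z)
        have h2 := congrArg (fun t => t (k z)) hrs
        simp only [Scheme.Hom.comp_apply] at h2
        have h3 : s (k z) ∈ b ⁻¹ᵁ (chartι i j α).opensRange := by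
          show b (s (k z)) ∈ (chartι i j α).opensRange
          rw [← h2]; exact h1
        rw [preimage_chartι_opensRange_V hb hY α] at h3
        exact h3
      obtain ⟨f, hf⟩ := Spec.map_surjective (IsOpenImmersion.lift α.hU.fromSpec _ hkU)
      obtain ⟨g, hg⟩ := Spec.map_surjective (IsOpenImmersion.lift α.hV.fromSpec _ hkV)
      have ef : Spec.map f ≫ α.hU.fromSpec = k ≫ r := by rw [hf, IsOpenImmersion.lift_fac]
      have eg : Spec.map g ≫ α.hV.fromSpec = k ≫ s := by rw [hg, IsOpenImmersion.lift_fac]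
      have e : CommRingCat.ofHom α.cart.snd ≫ f = CommRingCat.ofHom α.cart.fst ≫ g := by
        apply Spec.map_injective
        rw [← cancel_mono (chartι i j α), Spec.map_comp, Spec.map_comp, Category.assoc, Category.assoc]
        show Spec.map f ≫ toGluedU α = Spec.map g ≫ toGluedV α
        rw [← ha, ← hb, reassoc_of% ef, reassoc_of% eg, hrs]
      have hker : RingHom.ker α.cart.p ≤ RingHom.ker f.hom := by
        intro x hx
        obtain ⟨c, hc₁, hc₂⟩ := α.cart.lift' 0 x (by rw [map_zero]; exact (RingHom.mem_ker.mp hx).symm)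
        have := ConcreteCategory.congr_hom e c
        simp only [CommRingCat.comp_apply] at this
        rw [RingHom.mem_ker, ← hc₂]
        exact this.trans ((congrArg g.hom hc₁).trans (map_zero _))
      let fb := (RingHom.liftOfSurjective α.cart.p α.cart.surj) ⟨f.hom, hker⟩
      refine ⟨_, k, inferInstance, mem_range_fromSpec hQ hwQ,
        Spec.map (CommRingCat.ofHom fb) ≫ α.hW.fromSpec, ?_⟩
      rw [Category.assoc, ← Chart.specMap_p_fromSpec, ← Category.assoc, ← Spec.map_comp]
      have : CommRingCat.ofHom α.cart.p ≫ CommRingCat.ofHom fb = f :=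
        CommRingCat.hom_ext (RingHom.liftOfSurjective_comp _ _ _)
      rw [this, ef]
    choose Q k hk hw' l hl using loc
    let 𝒲 : W.OpenCover := Scheme.Cover.mkOfCovers W Q k (fun x => ⟨x, hw' x⟩) hk
    refine ⟨𝒲.glueMorphisms l (fun x y => ?_), 𝒲.hom_ext _ _ fun x => ?_⟩
    · rw [← cancel_mono i]
      erw [Category.assoc, Category.assoc, hl, hl]
      exact (Category.assoc _ _ _).symm.trans ((congrArg (· ≫ r) pullback.condition).trans (Category.assoc _ _ _))
    · rw [← Category.assoc, Scheme.Cover.ι_glueMorphisms]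
      exact hl x
  refine ⟨⟨hw⟩, ⟨PullbackCone.isLimitAux' _ fun c => ?_⟩⟩
  let l := Classical.choose (key c.fst c.snd c.condition)
  have hl : l ≫ i = c.fst := Classical.choose_spec (key c.fst c.snd c.condition)
  refine ⟨l, hl, ?_, fun {m} hm₁ _ => ?_⟩
  · show l ≫ j = c.snd
    rw [← cancel_mono b, Category.assoc, ← hw, ← Category.assoc, hl, c.condition]
  · exact (cancel_mono i).mp (hm₁.trans hl.symm)

end Groth.Agent.FerrandPush
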