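import Mathlib

set_option autoImplicit false
universe v u
open CategoryTheory CategoryTheory.Limits

namespace Groth.Agent.FerrandPush

/-- Base change of a morphism over `S` is cartesian. -/
theorem isPullback_fst_map {C : Type u} [Category.{v} C] [HasPullbacks C] {X P S T : C} (a : X ⟶ P)
    (x : X ⟶ S) (q : P ⟶ S) (g : T ⟶ S) (hx : a ≫ q = x)
    (aT : pullback x g ⟶ pullback q g) (h₁ : aT ≫ pullback.fst q g = pullback.fst x g ≫ a)
    (h₂ : aT ≫ pullback.snd q g = pullback.snd x g) :
    IsPullback (pullback.fst x g) aT a (pullback.fst q g) := by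
  refine IsPullback.flip (IsPullback.of_right ?_ h₁ (IsPullback.of_hasPullback q g).flip)
  rw [h₂, hx]
  exact (IsPullback.of_hasPullback x g).flip

end Groth.Agent.FerrandPush
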